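import Mathlib

/-!
# Data structures for kernel-checked coset enumeration certificates

All checkers are written so that the kernel evaluates them with accelerated `Nat` operations.
-/

set_option autoImplicit false

namespace Cfsg.Agent.Enum

/-- A binary search tree of packed blocks. -/
inductive Tree where
  | leaf (v : ℕ) : Tree
  | node (k : ℕ) (l r : Tree) : Tree

namespace Tree

/-- The block with a given number. -/
def get : Tree → ℕ → ℕ
  | .leaf v, _ => v
  | .node k l r, i => bif Nat.blt i k then l.get i else r.get (i - k)

end Tree

/-- `2^m`-bit fields packed in a natural number. -/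
def field (w : ℕ) (v i : ℕ) : ℕ := Nat.land (Nat.shiftRight v (i * w)) (2 ^ w - 1)

/-- Check a predicate on `lo, …, lo + len - 1`, by halving (recursion depth logarithmic). -/
def allRange (p : ℕ → Bool) : ℕ → ℕ → ℕ → Bool
  | 0, _, _ => false
  | fuel + 1, lo, len =>
    bif Nat.beq len 0 then true
    else bif Nat.beq len 1 then p lo
    else allRange p fuel lo (len / 2) && allRange p fuel (lo + len / 2) (len - len / 2)

theorem allRange_spec {p : ℕ → Bool} : ∀ (fuel lo len : ℕ), allRange p fuel lo len = true →
    ∀ i, lo ≤ i → i < lo + len → p i = true
  | 0, _, _, h, _, _, _ => by simp [allRange] at h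
  | fuel + 1, lo, len, h, i, h1, h2 => by
    rw [allRange] at h
    by_cases h0 : len = 0
    · omega
    by_cases h' : len = 1
    · subst h'
      have : i = lo := by omega
      subst this
      simpa using h
    have e0 : Nat.beq len 0 = false := by
      cases e : Nat.beq len 0 with
      | false => rfl
      | true => exact absurd (Nat.eq_of_beq_eq_true e) h0
    have e1 : Nat.beq len 1 = false := by
      cases e : Nat.beq len 1 with
      | false => rfl
      | true => exact absurd (Nat.eq_of_beq_eq_true e) h'
    rw [e0, e1] at h
    simp only [cond_false, Bool.and_eq_true] at h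
    rcases Nat.lt_or_ge i (lo + len / 2) with hi | hi
    · exact allRange_spec fuel lo (len / 2) h.1 i h1 hi
    · exact allRange_spec fuel (lo + len / 2) (len - len / 2) h.2 i hi (by omega)

end Cfsg.Agent.Enum
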