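import Mathlib
import Cfsg.Agent.Lib.Enum.Tree

/-!
# A checker for coset enumeration proofs

A proof is a list of facts `(a, x, b)`, read as `g x • P a = P b`, where `P` maps node numbers to
cosets of `H`; label `15` is the empty letter.  Fact number `k` is justified by a walk along earlier
facts which reads all but at most one letter of a relator, or it is the definition of a new node.
-/

set_option autoImplicit false

namespace Cfsg.Agent.Enum

/-- Packed data of a proof. -/
structure Data where
  /-- fact endpoints and labels, 256 fields of 36 bits in a block -/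
  facts : Tree
  /-- node definitions, 256 fields of 20 bits in a block -/
  nodes : Tree
  /-- relators -/
  rels : List (List ℕ)
  /-- generators of the subgroup -/
  subs : List (List ℕ)

namespace Data

/-- Fact number `f`. -/
def fact (d : Data) (f : ℕ) : ℕ := field 36 (d.facts.get (f / 256)) (f % 256)

/-- Node definition of node `k`. -/
def node (d : Data) (k : ℕ) : ℕ := field 20 (d.nodes.get (k / 256)) (k % 256)

/-- Start of a fact. -/
def fa (e : ℕ) : ℕ := e % 2 ^ 16
/-- End of a fact. -/
def fb (e : ℕ) : ℕ := (e / 2 ^ 16) % 2 ^ 16
/-- Label of a fact. -/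
def fx (e : ℕ) : ℕ := e / 2 ^ 32

/-- Remove the label from the front of a word. -/
def eat (x : ℕ) : List ℕ → Option (List ℕ)
  | [] => bif Nat.beq x 15 then some [] else none
  | y :: w => bif Nat.beq x 15 then some (y :: w) else bif Nat.beq x y then some w else none

/-- Follow `n` packed segments. -/
def walk (d : Data) (k : ℕ) : ℕ → ℕ → ℕ → List ℕ → Option (ℕ × List ℕ)
  | 0, _, cur, w => some (cur, w)
  | n + 1, v, cur, w =>
    let s := v % 2 ^ 20
    let e := d.fact (s / 2)
    let a := bif Nat.beq (s % 2) 0 then fa e else fb e
    let b := bif Nat.beq (s % 2) 0 then fb e else fa e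
    bif Nat.blt (s / 2) k && Nat.beq a cur then
      match eat (fx e) w with
      | some w' => d.walk k n (v / 2 ^ 20) b w'
      | none => none
    else none

/-- The conclusion of a step matches its fact. -/
def concl (e u v : ℕ) : List ℕ → Bool
  | [] => Nat.beq (fa e) u && Nat.beq (fb e) v && Nat.beq (fx e) 15
  | [x] => Nat.beq (fa e) u && Nat.beq (fb e) v && Nat.beq (fx e) x
  | _ => false

/-- Check the justification of a fact by relator `r` read at node `s`. -/
def chkWalk (d : Data) (k : ℕ) (r : List ℕ) (st : ℕ) : Bool :=
  let s := (st / 2 ^ 16) % 2 ^ 16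
  let nf := (st / 2 ^ 32) % 2 ^ 12
  let nb := (st / 2 ^ 44) % 2 ^ 12
  let v := st / 2 ^ 56
  match d.walk k nf v s r with
  | none => false
  | some (u, w) =>
    match d.walk k nb (v / 2 ^ (20 * nf)) s w.reverse with
    | none => false
    | some (u', w') => concl (d.fact k) u u' w'

/-- Check fact number `k` against step `st`. -/
def chkStep (d : Data) (k st : ℕ) : Bool :=
  let t := st % 2 ^ 16
  bif Nat.beq t 0 then
    let e := d.fact k
    Nat.beq (d.node (fb e)) (fa e + 2 ^ 16 * fx e) && Nat.blt (fa e) (fb e)
  else bif Nat.beq (t % 2) 1 then
    match d.rels[t / 2]? with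
    | none => false
    | some r => d.chkWalk k r st
  else
    match d.subs[t / 2 - 1]? with
    | none => false
    | some r => Nat.beq ((st / 2 ^ 16) % 2 ^ 16) 0 && d.chkWalk k r st

/-- Check consecutive steps, starting at fact number `k`. -/
def chkSteps (d : Data) : ℕ → List ℕ → Bool
  | _, [] => true
  | k, st :: l => d.chkStep k st && d.chkSteps (k + 1) l

section Sound

variable {G α : Type*} [Group G] [MulAction G α] (g : ℕ → G)

/-- The action of a word. -/
def act : List ℕ → α → α
  | [], q => q
  | x :: w, q => act w (g x • q)

theorem act_append (u w : List ℕ) (q : α) : act g (u ++ w) q = act g w (act g u q) := by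
  induction u generalizing q with
  | nil => rfl
  | cons x u ih => simp [act, ih]

theorem act_eq (w : List ℕ) (q : α) : act g w q = (w.map g).reverse.prod • q := by
  induction w generalizing q with
  | nil => simp [act]
  | cons x w ih =>
    rw [act, ih, List.map_cons, List.reverse_cons, List.prod_append, List.prod_singleton, mul_smul]

variable (hg : ∀ x, g x * g x = 1)
include hg

theorem act_reverse (w : List ℕ) (q : α) : act g w.reverse (act g w q) = q := by
  induction w generalizing q with
  | nil => rfl
  | cons x w ih =>
    rw [List.reverse_cons, act_append]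
    show g x • act g w.reverse (act g w (g x • q)) = q
    rw [ih, smul_smul, hg, one_smul]

theorem reverse_prod (w : List ℕ) : (w.map g).reverse.prod = ((w.map g).prod)⁻¹ := by
  induction w with
  | nil => simp
  | cons x w ih =>
    rw [List.map_cons, List.reverse_cons, List.prod_append, List.prod_singleton, ih, List.prod_cons,
      mul_inv_rev, inv_eq_of_mul_eq_one_left (hg x)]

omit hg in
/-- The meaning of a fact. -/
def Holds (P : ℕ → α) (e : ℕ) : Prop := g (fx e) • P (fa e) = P (fb e)

theorem walk_spec (h15 : g 15 = 1) (d : Data) (P : ℕ → α) (k : ℕ)
    (hk : ∀ f, f < k → Holds g P (d.fact f)) :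
    ∀ (n v cur : ℕ) (w : List ℕ) (u : ℕ) (w' : List ℕ), d.walk k n v cur w = some (u, w') →
      act g w (P cur) = act g w' (P u) := by
  intro n
  induction n with
  | zero =>
    intro v cur w u w' h
    simp only [walk, Option.some.injEq, Prod.mk.injEq] at h
    rw [h.1, h.2]
  | succ n ih =>
    intro v cur w u w' h
    simp only [walk] at h
    generalize hs : v % 2 ^ 20 = s at h
    generalize he : d.fact (s / 2) = e at h
    generalize hc : (Nat.blt (s / 2) k && Nat.beq (bif Nat.beq (s % 2) 0 then fa e else fb e) cur) = c at h
    cases c with
    | false => simp at h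
    | true =>
      simp only [Bool.and_eq_true] at hc
      have hlt : s / 2 < k := by
        have := hc.1
        simp only [Nat.blt, Nat.ble_eq] at this
        omega
      have hh := hk _ hlt
      rw [he, Holds] at hh
      have ha := Nat.eq_of_beq_eq_true hc.2
      have hedge : g (fx e) • P cur = P (bif Nat.beq (s % 2) 0 then fb e else fa e) := by
        rw [← ha]
        cases Nat.beq (s % 2) 0 with
        | true => simpa using hh
        | false => simp only [cond_false]; rw [← hh, smul_smul, hg, one_smul]
      simp only [cond_true] at h
      cases hw : eat (fx e) w with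
      | none => rw [hw] at h; simp at h
      | some w2 =>
        rw [hw] at h
        simp only at h
        rw [← ih _ _ _ _ _ h, ← hedge]
        cases w with
        | nil =>
          simp only [eat] at hw
          cases hx : Nat.beq (fx e) 15 with
          | false => rw [hx] at hw; simp at hw
          | true =>
            rw [hx] at hw
            simp only [cond_true, Option.some.injEq] at hw
            rw [← hw, Nat.eq_of_beq_eq_true hx, h15, one_smul]
        | cons y w =>
          simp only [eat] at hw
          cases hx : Nat.beq (fx e) 15 with
          | true =>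
            rw [hx] at hw
            simp only [cond_true, Option.some.injEq] at hw
            rw [← hw, Nat.eq_of_beq_eq_true hx, h15, one_smul]
          | false =>
            rw [hx] at hw
            simp only [cond_false] at hw
            cases hy : Nat.beq (fx e) y with
            | false => rw [hy] at hw; simp at hw
            | true =>
              rw [hy] at hw
              simp only [cond_true, Option.some.injEq] at hw
              rw [← hw, Nat.eq_of_beq_eq_true hy]
              rfl

omit hg in
/-- Cosets of the nodes. -/
noncomputable def points (d : Data) (base : α) (k : ℕ) : α :=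
  Nat.strongRecOn k fun k rec =>
    if h : fa (d.node k) < k ∧ k ≠ 0 then g (d.node k / 2 ^ 16) • rec (fa (d.node k)) h.1 else base

omit hg in
theorem points_eq (d : Data) (base : α) (k : ℕ) : points g d base k =
    if fa (d.node k) < k ∧ k ≠ 0 then g (d.node k / 2 ^ 16) • points g d base (fa (d.node k))
    else base := by
  conv_lhs => rw [points, Nat.strongRecOn_eq]
  split <;> rename_i h
  · rfl
  · rfl

omit hg in
@[simp] theorem points_zero (d : Data) (base : α) : points g d base 0 = base := by
  rw [points_eq]; simp

theorem chkStep_sound (h15 : g 15 = 1) (d : Data) (base : α)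
    (hrel : ∀ r ∈ d.rels, (r.map g).prod = 1)
    (hsub : ∀ r ∈ d.subs, act g r base = base)
    (k st : ℕ) (hk : ∀ f, f < k → Holds g (points g d base) (d.fact f))
    (h : d.chkStep k st = true) : Holds g (points g d base) (d.fact k) := by
  have main : ∀ r, (∀ s, s = (st / 2 ^ 16) % 2 ^ 16 → act g r (points g d base s) = points g d base s) →
      d.chkWalk k r st = true → Holds g (points g d base) (d.fact k) := by
    intro r hfix h
    simp only [chkWalk] at h
    generalize hs : (st / 2 ^ 16) % 2 ^ 16 = s at h
    cases hf : d.walk k ((st / 2 ^ 32) % 2 ^ 12) (st / 2 ^ 56) s r with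
    | none => rw [hf] at h; simp at h
    | some uw =>
      obtain ⟨u, w⟩ := uw
      rw [hf] at h
      simp only at h
      cases hb : d.walk k ((st / 2 ^ 44) % 2 ^ 12)
          (st / 2 ^ 56 / 2 ^ (20 * ((st / 2 ^ 32) % 2 ^ 12))) s w.reverse with
      | none => rw [hb] at h; simp at h
      | some uw' =>
        obtain ⟨v, w'⟩ := uw'
        rw [hb] at h
        simp only at h
        have e1 := walk_spec g hg h15 d _ k hk _ _ _ _ _ _ hf
        have e2 := walk_spec g hg h15 d _ k hk _ _ _ _ _ _ hb
        rw [hfix s hs.symm] at e1
        rw [e1, act_reverse g hg] at e2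
        match w', e2, h with
        | [], e2, h =>
          simp only [concl, Bool.and_eq_true] at h
          rw [Holds, Nat.eq_of_beq_eq_true h.1.1, Nat.eq_of_beq_eq_true h.1.2,
            Nat.eq_of_beq_eq_true h.2, h15, one_smul]
          exact e2
        | [x], e2, h =>
          simp only [concl, Bool.and_eq_true] at h
          rw [Holds, Nat.eq_of_beq_eq_true h.1.1, Nat.eq_of_beq_eq_true h.1.2,
            Nat.eq_of_beq_eq_true h.2, e2]
          simp only [act]
          rw [smul_smul, hg, one_smul]
        | _ :: _ :: _, _, h => simp [concl] at h
  simp only [chkStep] at h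
  cases ht : Nat.beq (st % 2 ^ 16) 0 with
  | true =>
    rw [ht] at h
    simp only [cond_true, Bool.and_eq_true] at h
    have h1 := Nat.eq_of_beq_eq_true h.1
    have h2 : fa (d.fact k) < fb (d.fact k) := by
      have := h.2
      simp only [Nat.blt, Nat.ble_eq] at this
      omega
    rw [Holds]
    conv_rhs => rw [points_eq]
    have e1 : fa (d.node (fb (d.fact k))) = fa (d.fact k) := by
      rw [h1]; simp only [fa]; omega
    have e2 : d.node (fb (d.fact k)) / 2 ^ 16 = fx (d.fact k) := by
      rw [h1]; simp only [fa]; omega
    rw [e1, if_pos ⟨h2, by omega⟩, e2]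
  | false =>
    rw [ht] at h
    simp only [cond_false] at h
    cases ho : Nat.beq (st % 2 ^ 16 % 2) 1 with
    | true =>
      rw [ho] at h
      simp only [cond_true] at h
      cases hr : d.rels[st % 2 ^ 16 / 2]? with
      | none => rw [hr] at h; simp at h
      | some r =>
        rw [hr] at h
        refine main r (fun s _ => ?_) h
        rw [act_eq g, reverse_prod g hg, hrel r (List.mem_of_getElem? hr), inv_one, one_smul]
    | false =>
      rw [ho] at h
      simp only [cond_false] at h
      cases hr : d.subs[st % 2 ^ 16 / 2 - 1]? with
      | none => rw [hr] at h; simp at h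
      | some r =>
        rw [hr] at h
        simp only [Bool.and_eq_true] at h
        refine main r (fun s hs => ?_) h.2
        rw [hs, Nat.eq_of_beq_eq_true h.1, points_zero]
        exact hsub r (List.mem_of_getElem? hr)

theorem chkSteps_sound (h15 : g 15 = 1) (d : Data) (base : α)
    (hrel : ∀ r ∈ d.rels, (r.map g).prod = 1)
    (hsub : ∀ r ∈ d.subs, act g r base = base) :
    ∀ (l : List ℕ) (k : ℕ), (∀ f, f < k → Holds g (points g d base) (d.fact f)) →
      d.chkSteps k l = true → ∀ f, f < k + l.length → Holds g (points g d base) (d.fact f) := by
  intro l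
  induction l with
  | nil => intro k hk _ f hf; exact hk f (by simpa using hf)
  | cons st l ih =>
    intro k hk h f hf
    simp only [chkSteps, Bool.and_eq_true] at h
    refine ih (k + 1) ?_ h.2 f (by simp only [List.length_cons] at hf; omega)
    intro f hf'
    rcases Nat.lt_succ_iff_lt_or_eq.mp hf' with h' | rfl
    · exact hk f h'
    · exact chkStep_sound g hg h15 d base hrel hsub f st hk h.1

end Sound

end Data

end Cfsg.Agent.Enum
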