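import Mathlib
import Cfsg.Agent.Lib.Enum.Checker

/-!
# The final coset table: permutation representation, index and orbits
-/

set_option autoImplicit false

namespace Cfsg.Agent.Enum

/-- Closed coset table with links into a proof and node labels. -/
structure Table where
  /-- number of cosets -/
  N : ℕ
  /-- number of generators (all involutions) -/
  ngen : ℕ
  /-- number of nodes of the proof -/
  nn : ℕ
  /-- number of facts of the proof -/
  nf : ℕ
  /-- the permutations, packed in fields of 16 bits -/
  perms : List ℕ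
  /-- for each generator and coset, the fact proving that edge, 20 bits -/
  links : List ℕ
  /-- node of each coset -/
  reps : ℕ
  /-- coset of each node -/
  labels : ℕ

namespace Table

/-- The packed image table of generator `x`. -/
def perm (t : Table) (x : ℕ) : ℕ := (t.perms[x]?).getD 0

/-- Image of a coset under a generator; labels `≥ ngen` act trivially. -/
def img (t : Table) (x i : ℕ) : ℕ := bif Nat.blt x t.ngen then field 16 (t.perm x) i else i

/-- Image of a coset under a word, first letter first. -/
def imgWord (t : Table) : List ℕ → ℕ → ℕ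
  | [], i => i
  | x :: w, i => t.imgWord w (t.img x i)

/-- The permutations are involutions of `0, …, N - 1`. -/
def chkInvol (t : Table) : Bool :=
  allRange (fun x => allRange (fun i => Nat.blt (t.img x i) t.N && Nat.beq (t.img x (t.img x i)) i)
    64 0 t.N) 64 0 t.ngen

/-- A word fixes every coset. -/
def chkWord (t : Table) (w : List ℕ) : Bool :=
  allRange (fun i => Nat.beq (t.imgWord w i) i) 64 0 t.N

/-- Node of coset `i`. -/
def rep (t : Table) (i : ℕ) : ℕ := field 16 t.reps i

/-- Each edge of the table is a proved fact. -/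
def chkLinks (t : Table) (d : Data) (x : ℕ) : Bool :=
  let row := (t.links[x]?).getD 0
  allRange (fun i =>
    let s := field 20 row i
    let e := d.fact (s / 2)
    let a := bif Nat.beq (s % 2) 0 then Data.fa e else Data.fb e
    let b := bif Nat.beq (s % 2) 0 then Data.fb e else Data.fa e
    Nat.blt (s / 2) t.nf && Nat.beq (Data.fx e) x && Nat.beq a (t.rep i) &&
      Nat.beq b (t.rep (t.img x i))) 64 0 t.N

/-- The labels follow the node definitions. -/
def chkLabels (t : Table) (d : Data) : Bool :=
  Nat.beq (t.rep 0) 0 && Nat.beq (field 16 t.labels 0) 0 &&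
  allRange (fun i => Nat.blt (t.rep i) t.nn && Nat.beq (field 16 t.labels (t.rep i)) i) 64 0 t.N &&
  allRange (fun k => Nat.beq k 0 || (Nat.blt (Data.fa (d.node k)) k &&
    Nat.beq (field 16 t.labels k)
      (t.img (d.node k / 2 ^ 16) (field 16 t.labels (Data.fa (d.node k)))))) 64 0 t.nn

theorem beq_eq {a b : ℕ} (h : Nat.beq a b = true) : a = b := Nat.eq_of_beq_eq_true h

theorem blt_lt {a b : ℕ} (h : Nat.blt a b = true) : a < b := by
  simp only [Nat.blt, Nat.ble_eq] at h
  omega

theorem blt_false {a b : ℕ} (h : b ≤ a) : Nat.blt a b = false := by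
  cases e : Nat.blt a b with
  | false => rfl
  | true => have := blt_lt e; omega

theorem blt_true {a b : ℕ} (h : a < b) : Nat.blt a b = true := by
  simp only [Nat.blt, Nat.ble_eq]
  omega

theorem img_spec {t : Table} (h : t.chkInvol = true) {x i : ℕ} (hi : i < t.N) :
    t.img x i < t.N ∧ t.img x (t.img x i) = i := by
  rcases Nat.lt_or_ge x t.ngen with hx | hx
  · have := allRange_spec 64 0 t.ngen h x (Nat.zero_le _) (by simpa using hx)
    have := allRange_spec 64 0 t.N this i (Nat.zero_le _) (by simpa using hi)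
    simp only [Bool.and_eq_true] at this
    exact ⟨blt_lt this.1, beq_eq this.2⟩
  · simp [img, blt_false hx, hi]

theorem imgWord_lt {t : Table} (h : t.chkInvol = true) :
    ∀ (w : List ℕ) {i : ℕ}, i < t.N → t.imgWord w i < t.N
  | [], _, hi => hi
  | _ :: w, _, hi => imgWord_lt h w (img_spec h hi).1

/-- The permutation of the cosets attached to a letter. -/
def permOf (t : Table) (h : t.chkInvol = true) (x : ℕ) : Equiv.Perm (Fin t.N) where
  toFun i := ⟨t.img x i, (img_spec h i.2).1⟩
  invFun i := ⟨t.img x i, (img_spec h i.2).1⟩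
  left_inv i := Fin.ext (img_spec h i.2).2
  right_inv i := Fin.ext (img_spec h i.2).2

theorem permOf_mul_self (t : Table) (h : t.chkInvol = true) (x : ℕ) :
    t.permOf h x * t.permOf h x = 1 :=
  Equiv.ext fun i => Fin.ext (img_spec h i.2).2

theorem act_permOf (t : Table) (h : t.chkInvol = true) (w : List ℕ) (i : Fin t.N) :
    (Data.act (t.permOf h) w i : Fin t.N) = ⟨t.imgWord w i, imgWord_lt h w i.2⟩ := by
  induction w generalizing i with
  | nil => rfl
  | cons x w ih => exact ih _

theorem prod_permOf (t : Table) (h : t.chkInvol = true) {w : List ℕ} (hw : t.chkWord w = true) :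
    (w.map (t.permOf h)).prod = 1 := by
  rw [← inv_eq_one, ← Data.reverse_prod _ (t.permOf_mul_self h)]
  refine Equiv.ext fun i => ?_
  rw [← Equiv.Perm.smul_def, ← Data.act_eq, act_permOf]
  exact Fin.ext (beq_eq (allRange_spec 64 0 t.N hw i (Nat.zero_le _) (by simp)))

section Index

variable {G : Type*} [Group G] {g : ℕ → G} {H : Subgroup G} {t : Table} {d : Data}

/-- Everything needed to identify `G ⧸ H` with the cosets of the table. -/
structure Certified (g : ℕ → G) (H : Subgroup G) (t : Table) (d : Data) : Prop where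
  invol : t.chkInvol = true
  pos : 0 < t.N
  invol_g : ∀ x, g x * g x = 1
  junk : ∀ x, t.ngen ≤ x → g x = 1
  gen : Subgroup.closure (Set.range g) = ⊤
  facts : ∀ f, f < t.nf → Data.Holds g (Data.points g d (QuotientGroup.mk (s := H) (1 : G))) (d.fact f)
  links : ∀ x, x < t.ngen → t.chkLinks d x = true
  labels : t.chkLabels d = true
  rep_hom : ∃ φ : G →* Equiv.Perm (Fin t.N),
    (∀ x, φ (g x) = t.permOf invol x) ∧ ∀ k ∈ H, φ k ⟨0, pos⟩ = ⟨0, pos⟩

/-- The coset with a given number in the table. -/
noncomputable def coset (g : ℕ → G) (H : Subgroup G) (t : Table) (d : Data) (i : Fin t.N) : G ⧸ H :=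
  Data.points g d (QuotientGroup.mk (1 : G)) (t.rep i)

theorem coset_zero (c : Certified g H t d) : coset g H t d ⟨0, c.pos⟩ = QuotientGroup.mk 1 := by
  have h := c.labels
  simp only [chkLabels, Bool.and_eq_true] at h
  simp [coset, beq_eq h.1.1.1]

theorem smul_coset (c : Certified g H t d) (x : ℕ) (i : Fin t.N) :
    g x • coset g H t d i = coset g H t d (t.permOf c.invol x i) := by
  rcases Nat.lt_or_ge x t.ngen with hx | hx
  · have h := c.links x hx
    simp only [chkLinks] at h
    have h := allRange_spec 64 0 t.N h i (Nat.zero_le _) (by simp)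
    generalize hs : field 20 ((t.links[x]?).getD 0) (i : ℕ) = s at h
    simp only [Bool.and_eq_true] at h
    obtain ⟨⟨⟨hlt, hfx⟩, ha⟩, hb⟩ := h
    have hf := c.facts _ (blt_lt hlt)
    rw [Data.Holds, beq_eq hfx] at hf
    show g x • Data.points g d _ (t.rep i) = Data.points g d _ (t.rep (t.img x i))
    rw [← beq_eq ha, ← beq_eq hb]
    cases Nat.beq (s % 2) 0 with
    | true => exact hf
    | false => simp only [cond_false]; rw [← hf, smul_smul, c.invol_g, one_smul]
  · rw [c.junk x hx, one_smul]
    congr 1
    exact Fin.ext (by simp [permOf, img, blt_false hx])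

theorem coset_surjective (c : Certified g H t d) : Function.Surjective (coset g H t d) := by
  intro q
  obtain ⟨a, rfl⟩ := QuotientGroup.mk_surjective q
  have key : ∀ a ∈ Subgroup.closure (Set.range g),
      (∀ i, ∃ j, a • coset g H t d i = coset g H t d j) ∧
      (∀ i, ∃ j, a⁻¹ • coset g H t d i = coset g H t d j) := by
    intro a ha
    induction ha using Subgroup.closure_induction with
    | mem a ha =>
      obtain ⟨x, rfl⟩ := ha
      rw [inv_eq_of_mul_eq_one_right (c.invol_g x)]
      exact ⟨fun i => ⟨_, smul_coset c x i⟩, fun i => ⟨_, smul_coset c x i⟩⟩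
    | one => exact ⟨fun i => ⟨i, one_smul G _⟩, fun i => ⟨i, by rw [inv_one, one_smul]⟩⟩
    | mul a b _ _ iha ihb =>
      refine ⟨fun i => ?_, fun i => ?_⟩
      · obtain ⟨j, hj⟩ := ihb.1 i
        obtain ⟨k, hk⟩ := iha.1 j
        exact ⟨k, by rw [mul_smul, hj, hk]⟩
      · obtain ⟨j, hj⟩ := iha.2 i
        obtain ⟨k, hk⟩ := ihb.2 j
        exact ⟨k, by rw [mul_inv_rev, mul_smul, hj, hk]⟩
    | inv a _ iha => exact ⟨iha.2, by rw [inv_inv]; exact iha.1⟩
  obtain ⟨j, hj⟩ := (key a (c.gen ▸ Subgroup.mem_top a)).1 ⟨0, c.pos⟩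
  refine ⟨j, ?_⟩
  rw [← hj, coset_zero c]
  show (QuotientGroup.mk (a * 1) : G ⧸ H) = _
  rw [mul_one]

theorem orbit_point (c : Certified g H t d) : ∃ (φ : G →* Equiv.Perm (Fin t.N)) (f : G ⧸ H → Fin t.N),
    (∀ x, φ (g x) = t.permOf c.invol x) ∧ (∀ a q, f (a • q) = φ a (f q)) ∧
    ∀ i, f (coset g H t d i) = i := by
  obtain ⟨φ, hφ, hfix⟩ := c.rep_hom
  let f : G ⧸ H → Fin t.N := Quotient.lift (fun a => φ a ⟨0, c.pos⟩) fun a b hab => by
    have h := hfix _ (QuotientGroup.leftRel_apply.mp hab)
    show φ a ⟨0, c.pos⟩ = φ b ⟨0, c.pos⟩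
    conv_lhs => rw [← h]
    rw [← Equiv.Perm.mul_apply, ← map_mul, mul_inv_cancel_left]
  have hf : ∀ a q, f (a • q) = φ a (f q) := by
    intro a q
    induction q using QuotientGroup.induction_on with
    | H b => show φ (a * b) _ = _; rw [map_mul]; rfl
  have h := c.labels
  simp only [chkLabels, Bool.and_eq_true] at h
  have hlab : ∀ k, k < t.nn →
      (f (Data.points g d (QuotientGroup.mk 1) k) : ℕ) = field 16 t.labels k := by
    intro k
    induction k using Nat.strong_induction_on with
    | _ k ih =>
      intro hk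
      rcases Nat.eq_zero_or_pos k with rfl | hpos
      · rw [Data.points_zero, beq_eq h.1.1.2]
        show ((φ 1) ⟨0, c.pos⟩ : Fin t.N).val = 0
        rw [map_one]; rfl
      · have hk' := allRange_spec 64 0 t.nn h.2 k (Nat.zero_le _) (by simpa using hk)
        simp only [Bool.or_eq_true, Bool.and_eq_true] at hk'
        rcases hk' with h0 | ⟨hlt, hlab⟩
        · exact absurd (beq_eq h0) (by omega)
        · have hlt' := blt_lt hlt
          rw [Data.points_eq, if_pos ⟨hlt', by omega⟩, hf, hφ, beq_eq hlab, ← ih _ hlt' (by omega)]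
          rfl
  refine ⟨φ, f, hφ, hf, fun i => Fin.ext ?_⟩
  have hi := allRange_spec 64 0 t.N h.1.2 i (Nat.zero_le _) (by simp)
  simp only [Bool.and_eq_true] at hi
  show (f (Data.points g d _ (t.rep i)) : ℕ) = i
  rw [hlab _ (blt_lt hi.1), beq_eq hi.2]

theorem coset_bijective (c : Certified g H t d) : Function.Bijective (coset g H t d) := by
  obtain ⟨φ, f, -, -, hf⟩ := orbit_point c
  exact ⟨Function.LeftInverse.injective hf, coset_surjective c⟩

theorem index_eq (c : Certified g H t d) : H.index = t.N := by
  rw [Subgroup.index, ← Nat.card_eq_of_bijective _ (coset_bijective c), Nat.card_fin]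

theorem act_coset (c : Certified g H t d) (w : List ℕ) (i : Fin t.N) :
    Data.act g w (coset g H t d i) = coset g H t d ⟨t.imgWord w i, imgWord_lt c.invol w i.2⟩ := by
  induction w generalizing i with
  | nil => rfl
  | cons x w ih => rw [Data.act, smul_coset c]; exact ih _

end Index

end Table

end Cfsg.Agent.Enum
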