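import Mathlib
import Cfsg.Agent.Lib.Enum.Table

/-!
# Orbits of the subgroup on the cosets of a certified table
-/

set_option autoImplicit false

namespace Cfsg.Agent.Enum

/-- Suborbit labels and spanning forest of the suborbits. -/
structure Suborbits where
  /-- the words generating the subgroup -/
  words : List (List ℕ)
  /-- suborbit number of each coset, fields of 8 bits -/
  label : ℕ
  /-- the root of each suborbit -/
  roots : List ℕ
  /-- position of each coset in the forest, fields of 16 bits -/
  rank : ℕ
  /-- for each coset, word number and predecessor: `word + 2^4 * prev`, fields of 20 bits -/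
  prev : ℕ

namespace Suborbits

/-- The root of a suborbit. -/
def root (o : Suborbits) (j : ℕ) : ℕ := (o.roots[j]?).getD 0

/-- The check of the suborbit data. -/
def chk (o : Suborbits) (t : Table) : Bool :=
  allRange (fun i =>
    o.words.all (fun w => Nat.beq (field 8 o.label (t.imgWord w i)) (field 8 o.label i)) &&
    (Nat.beq i (o.root (field 8 o.label i)) ||
      (let e := field 20 o.prev i
       match o.words[e % 2 ^ 4]? with
       | none => false
       | some w => Nat.blt (e / 2 ^ 4) t.N && Nat.blt (field 16 o.rank (e / 2 ^ 4)) (field 16 o.rank i) &&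
          Nat.beq (t.imgWord w (e / 2 ^ 4)) i &&
          Nat.beq (field 8 o.label (e / 2 ^ 4)) (field 8 o.label i)))) 64 0 t.N

/-- Number of cosets with a given label among `lo, …, lo + len - 1`. -/
def count (o : Suborbits) (j : ℕ) : ℕ → ℕ → ℕ → ℕ
  | 0, _, _ => 0
  | fuel + 1, lo, len =>
    bif Nat.beq len 0 then 0
    else bif Nat.beq len 1 then (bif Nat.beq (field 8 o.label lo) j then 1 else 0)
    else o.count j fuel lo (len / 2) + o.count j fuel (lo + len / 2) (len - len / 2)

theorem count_spec (o : Suborbits) (j : ℕ) : ∀ (fuel lo len : ℕ), len ≤ 2 ^ fuel →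
    o.count j (fuel + 1) lo len =
      ((Finset.Ico lo (lo + len)).filter fun i => field 8 o.label i = j).card := by
  intro fuel
  induction fuel with
  | zero =>
    intro lo len h
    rcases (show len = 0 ∨ len = 1 by simp at h; omega) with rfl | rfl
    · simp [count]
    · rw [count]
      simp only [show Nat.beq 1 0 = false from rfl, cond_false, show Nat.beq 1 1 = true from rfl,
        cond_true, Nat.Ico_succ_singleton, Finset.filter_singleton]
      cases e : Nat.beq (field 8 o.label lo) j with
      | true => simp [Nat.eq_of_beq_eq_true e]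
      | false => simp [Nat.ne_of_beq_eq_false e]
  | succ fuel ih =>
    intro lo len h
    rw [count]
    by_cases h0 : len = 0
    · subst h0; simp
    have e0 : Nat.beq len 0 = false := by
      cases e : Nat.beq len 0 with
      | false => rfl
      | true => exact absurd (Nat.eq_of_beq_eq_true e) h0
    rw [e0]
    by_cases h1 : len = 1
    · subst h1
      simp only [cond_false, show Nat.beq 1 1 = true from rfl, cond_true, Nat.Ico_succ_singleton,
        Finset.filter_singleton]
      cases e : Nat.beq (field 8 o.label lo) j with
      | true => simp [Nat.eq_of_beq_eq_true e]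
      | false => simp [Nat.ne_of_beq_eq_false e]
    have e1 : Nat.beq len 1 = false := by
      cases e : Nat.beq len 1 with
      | false => rfl
      | true => exact absurd (Nat.eq_of_beq_eq_true e) h1
    rw [e1]
    simp only [cond_false]
    rw [pow_succ] at h
    rw [ih lo (len / 2) (by omega), ih (lo + len / 2) (len - len / 2) (by omega),
      ← Finset.card_union_of_disjoint, ← Finset.filter_union,
      Finset.Ico_union_Ico_eq_Ico (by omega) (by omega)]
    · congr 2
      congr 1
      omega
    · exact Finset.disjoint_filter_filter (Finset.Ico_disjoint_Ico_consecutive _ _ _)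

variable {G : Type*} [Group G] {g : ℕ → G} {H : Subgroup G} {t : Table} {d : Data}

/-- Orbits of `H` on `G ⧸ H` are the label classes. -/
theorem orbit_eq_image (c : Table.Certified g H t d) (o : Suborbits) (ho : o.chk t = true)
    (hH : H = Subgroup.closure {a | ∃ w ∈ o.words, a = (w.map g).prod}) (j : ℕ)
    (hj : o.root j < t.N) (hlab : field 8 o.label (o.root j) = j) :
    MulAction.orbit H (Table.coset g H t d ⟨o.root j, hj⟩) =
      Table.coset g H t d '' {i : Fin t.N | field 8 o.label i = j} := by
  have hbij := Table.coset_bijective c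
  have hrow : ∀ i : Fin t.N, (∀ w ∈ o.words,
      field 8 o.label (t.imgWord w i) = field 8 o.label i) ∧
      ((i : ℕ) = o.root (field 8 o.label i) ∨ ∃ w ∈ o.words, ∃ p, p < t.N ∧
        field 16 o.rank p < field 16 o.rank i ∧ t.imgWord w p = i ∧
        field 8 o.label p = field 8 o.label i) := by
    intro i
    have h := allRange_spec 64 0 t.N ho i (Nat.zero_le _) (by simp)
    simp only [Bool.and_eq_true, Bool.or_eq_true, List.all_eq_true] at h
    refine ⟨fun w hw => Table.beq_eq (h.1 w hw), ?_⟩
    rcases h.2 with h2 | h2
    · exact Or.inl (Table.beq_eq h2)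
    · right
      generalize he : field 20 o.prev (i : ℕ) = e at h2
      cases hw : o.words[e % 2 ^ 4]? with
      | none => rw [hw] at h2; simp at h2
      | some w =>
        rw [hw] at h2
        simp only [Bool.and_eq_true] at h2
        exact ⟨w, List.mem_of_getElem? hw, _, Table.blt_lt h2.1.1.1, Table.blt_lt h2.1.1.2,
          Table.beq_eq h2.1.2, Table.beq_eq h2.2⟩
  set S : Finset (Fin t.N) := Finset.univ.filter fun i : Fin t.N => field 8 o.label i = j with hS
  have horb : MulAction.orbit H (Table.coset g H t d ⟨o.root j, hj⟩) =
      Table.coset g H t d '' (S : Set (Fin t.N)) := by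
    apply Set.Subset.antisymm
    · rintro _ ⟨⟨a, ha⟩, rfl⟩
      have key : ∀ a ∈ H, ∀ i ∈ S, ∃ i' ∈ S, a • Table.coset g H t d i = Table.coset g H t d i' := by
        intro a ha
        rw [hH] at ha
        suffices h : (∀ i ∈ S, ∃ i' ∈ S, a • Table.coset g H t d i = Table.coset g H t d i') ∧
            (∀ i ∈ S, ∃ i' ∈ S, a⁻¹ • Table.coset g H t d i = Table.coset g H t d i') from h.1
        induction ha using Subgroup.closure_induction with
        | mem a ha =>
          obtain ⟨w, hw, rfl⟩ := ha
          have hback : ∀ i ∈ S, ∃ i' ∈ S,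
              ((w.map g).prod)⁻¹ • Table.coset g H t d i = Table.coset g H t d i' := by
            intro i hi
            refine ⟨⟨t.imgWord w i, Table.imgWord_lt c.invol w i.2⟩, ?_, ?_⟩
            · simp only [hS, Finset.mem_filter, Finset.mem_univ, true_and] at hi ⊢
              rw [(hrow i).1 w hw, hi]
            · rw [← Data.reverse_prod g c.invol_g, ← Data.act_eq, Table.act_coset c]
          refine ⟨fun i hi => ?_, hback⟩
          classical
          -- the inverse of an injective self map of the finite set
          let F : S → S := fun i => ⟨Classical.choose (hback i i.2), (Classical.choose_spec (hback i i.2)).1⟩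
          have hFinj : Function.Injective F := by
            intro i i' hii
            have h1 := (Classical.choose_spec (hback i i.2)).2
            have h2 := (Classical.choose_spec (hback i' i'.2)).2
            rw [show Classical.choose (hback i i.2) = Classical.choose (hback i' i'.2) from
              congrArg Subtype.val hii, ← h2] at h1
            exact Subtype.ext (hbij.1 (smul_left_cancel _ h1))
          obtain ⟨i', hi'⟩ := (Finite.injective_iff_surjective.mp hFinj) ⟨i, hi⟩
          refine ⟨i', i'.2, ?_⟩
          have h1 := (Classical.choose_spec (hback i' i'.2)).2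
          rw [show Classical.choose (hback i' i'.2) = i from congrArg Subtype.val hi',
            inv_smul_eq_iff] at h1
          exact h1.symm
        | one => exact ⟨fun i hi => ⟨i, hi, one_smul G _⟩, fun i hi => ⟨i, hi, by rw [inv_one, one_smul]⟩⟩
        | mul a b _ _ iha ihb =>
          refine ⟨fun i hi => ?_, fun i hi => ?_⟩
          · obtain ⟨i1, hi1, e1⟩ := ihb.1 i hi
            obtain ⟨i2, hi2, e2⟩ := iha.1 i1 hi1
            exact ⟨i2, hi2, by rw [mul_smul, e1, e2]⟩
          · obtain ⟨i1, hi1, e1⟩ := iha.2 i hi
            obtain ⟨i2, hi2, e2⟩ := ihb.2 i1 hi1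
            exact ⟨i2, hi2, by rw [mul_inv_rev, mul_smul, e1, e2]⟩
        | inv a _ iha => exact ⟨iha.2, by rw [inv_inv]; exact iha.1⟩
      obtain ⟨i', hi', he⟩ := key a ha ⟨o.root j, hj⟩ (by simp [hS, hlab])
      exact ⟨i', hi', he.symm⟩
    · rintro _ ⟨i, hi, rfl⟩
      simp only [hS, Finset.coe_filter, Finset.mem_univ, true_and, Set.mem_setOf_eq] at hi
      have key : ∀ n : ℕ, ∀ i : Fin t.N, field 16 o.rank i ≤ n → field 8 o.label i = j →
          Table.coset g H t d i ∈ MulAction.orbit H (Table.coset g H t d ⟨o.root j, hj⟩) := by
        intro n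
        induction n using Nat.strong_induction_on with
        | _ n ih =>
          intro i hn hi
          rcases (hrow i).2 with h | ⟨w, hw, p, hp, hlt, himg, hpl⟩
          · have : i = ⟨o.root j, hj⟩ := Fin.ext (by rw [h, hi])
            rw [this]
            exact MulAction.mem_orbit_self _
          · have hmem := ih (field 16 o.rank p) (by omega) ⟨p, hp⟩ le_rfl (hpl.trans hi)
            have hwH : (w.map g).prod ∈ H := hH ▸ Subgroup.subset_closure ⟨w, hw, rfl⟩
            obtain ⟨k, hk⟩ := hmem
            refine ⟨⟨_, H.inv_mem hwH⟩ * k, ?_⟩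
            show (((w.map g).prod)⁻¹ * (k : G)) • Table.coset g H t d ⟨o.root j, hj⟩ = _
            rw [mul_smul, show (k : G) • Table.coset g H t d ⟨o.root j, hj⟩ =
              Table.coset g H t d ⟨p, hp⟩ from hk, ← Data.reverse_prod g c.invol_g, ← Data.act_eq,
              Table.act_coset c]
            exact congrArg _ (Fin.ext himg)
      exact key _ i le_rfl hi
  rw [horb]
  congr 1
  ext i
  simp [hS]

theorem orbit_ncard (c : Table.Certified g H t d) (o : Suborbits) (ho : o.chk t = true)
    (hH : H = Subgroup.closure {a | ∃ w ∈ o.words, a = (w.map g).prod}) (j : ℕ)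
    (hj : o.root j < t.N) (hlab : field 8 o.label (o.root j) = j) (hN : t.N ≤ 2 ^ 16) :
    (MulAction.orbit H (Table.coset g H t d ⟨o.root j, hj⟩)).ncard = o.count j 17 0 t.N := by
  have hbij := Table.coset_bijective c
  set S : Finset (Fin t.N) := Finset.univ.filter fun i : Fin t.N => field 8 o.label i = j with hS
  have horb : MulAction.orbit H (Table.coset g H t d ⟨o.root j, hj⟩) =
      Table.coset g H t d '' (S : Set (Fin t.N)) := by
    rw [orbit_eq_image c o ho hH j hj hlab]
    congr 1
    ext i
    simp [hS]
  rw [horb, Set.ncard_image_of_injective _ hbij.1, Set.ncard_coe_finset,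
    count_spec o j 16 0 t.N hN]
  refine Finset.card_bij (fun i _ => (i : ℕ)) ?_ (fun a _ b _ h => Fin.ext h) ?_
  · intro i hi
    simp only [hS, Finset.mem_filter, Finset.mem_univ, true_and] at hi
    simp [hi]
  · intro b hb
    simp only [Finset.mem_filter, Finset.mem_Ico] at hb
    exact ⟨⟨b, by omega⟩, by simp [hS, hb.2], rfl⟩

theorem orbit_ne (c : Table.Certified g H t d) (o : Suborbits) (ho : o.chk t = true)
    (hH : H = Subgroup.closure {a | ∃ w ∈ o.words, a = (w.map g).prod}) {j k : ℕ} (hjk : j ≠ k)
    (hj : o.root j < t.N) (hlab : field 8 o.label (o.root j) = j)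
    (hk : o.root k < t.N) (hlab' : field 8 o.label (o.root k) = k) :
    MulAction.orbit H (Table.coset g H t d ⟨o.root j, hj⟩) ≠
      MulAction.orbit H (Table.coset g H t d ⟨o.root k, hk⟩) := by
  intro h
  have hmem := MulAction.mem_orbit_self (M := H) (Table.coset g H t d ⟨o.root j, hj⟩)
  rw [h, orbit_eq_image c o ho hH k hk hlab'] at hmem
  obtain ⟨i, hi, he⟩ := hmem
  have := (Table.coset_bijective c).1 he
  subst this
  exact hjk (hlab.symm.trans hi)

end Suborbits

end Cfsg.Agent.Enum
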