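import Mathlib
import Cfsg.Prelude.Def_SporCoxeter
import Cfsg.Agent.Lib.Enum.Table

/-!
# Presentations on involutions with a Coxeter graph, as lists of words
-/

set_option autoImplicit false

namespace Cfsg.Agent.Enum

open Cfsg.Spor

variable {α : Type} [DecidableEq α]

/-- A Coxeter-type presentation with its relators written as words in the positive generators. -/
structure Pres (α : Type) [DecidableEq α] where
  /-- the generators in numbering order -/
  gens : List α
  /-- the labelled edges -/
  edges : List (α × ℕ × α)
  /-- the further relators -/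
  extra : List (FreeGroup α)
  /-- the further relators as words -/
  extraWords : List (List ℕ)
  /-- every generator is listed -/
  complete : ∀ a, a ∈ gens
  /-- the numbering is injective -/
  nodup : gens.Nodup
  /-- every generator is a node -/
  node : ∀ a, a ∈ coxNodes edges
  /-- the words represent the relators as soon as the generators map to involutions -/
  words_eq : ∀ {M : Type} [Group M] (f : α → M), (∀ a, f a * f a = 1) →
    extra.map (FreeGroup.lift f) =
      extraWords.map fun w => (w.map fun i => ((gens[i]?).map f).getD 1).prod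

namespace Pres

variable (P : Pres α)

/-- The relator set. -/
def relSet : Set (FreeGroup α) := coxRelators P.edges ∪ {r | r ∈ P.extra}

/-- Extend a map on generators to numbers. -/
def ext {M : Type} [Group M] (f : α → M) (i : ℕ) : M := ((P.gens[i]?).map f).getD 1

/-- The word of a Coxeter relator. -/
def pairWord (x y : ℕ) : List ℕ :=
  match P.gens[x]?, P.gens[y]? with
  | some a, some b => (List.replicate (coxLabel P.edges a b) [x, y]).flatten
  | _, _ => []

/-- All relator words. -/
def relWords : List (List ℕ) :=
  ((List.range P.gens.length).flatMap fun x => (List.range P.gens.length).map fun y => P.pairWord x y) ++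
    P.extraWords

theorem prod_replicate_flatten {M : Type} [Group M] (g : ℕ → M) (x y m : ℕ) :
    ((List.replicate m [x, y]).flatten.map g).prod = (g x * g y) ^ m := by
  induction m with
  | zero => simp
  | succ m ih => simp [List.replicate_succ, ih, pow_succ', mul_assoc]

theorem pairWord_eq {M : Type} [Group M] (f : α → M) {x y : ℕ} {a b : α}
    (ha : P.gens[x]? = some a) (hb : P.gens[y]? = some b) :
    ((P.pairWord x y).map (P.ext f)).prod =
      FreeGroup.lift f ((FreeGroup.of a * FreeGroup.of b) ^ coxLabel P.edges a b) := by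
  simp [pairWord, ha, hb, prod_replicate_flatten, ext]

/-- The relators hold exactly when all words have product one. -/
theorem rels_iff {M : Type} [Group M] (f : α → M) (hf : ∀ a, f a * f a = 1) :
    (∀ r ∈ P.relSet, FreeGroup.lift f r = 1) ↔
      ∀ w ∈ P.relWords, (w.map (P.ext f)).prod = 1 := by
  have hext := P.words_eq f hf
  constructor
  · intro h w hw
    simp only [relWords, List.mem_append, List.mem_flatMap, List.mem_range, List.mem_map] at hw
    rcases hw with ⟨x, hx, y, hy, rfl⟩ | hw
    · have ha := List.getElem?_eq_getElem hx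
      have hb := List.getElem?_eq_getElem hy
      rw [P.pairWord_eq f ha hb]
      exact h _ (Or.inl ⟨_, P.node _, _, P.node _, rfl⟩)
    · have : (w.map (P.ext f)).prod ∈ P.extraWords.map fun w => (w.map (P.ext f)).prod :=
        List.mem_map_of_mem hw
      rw [show (P.extraWords.map fun w => (w.map (P.ext f)).prod) = P.extra.map (FreeGroup.lift f) from
        hext.symm, List.mem_map] at this
      obtain ⟨r, hr, he⟩ := this
      rw [← he]
      exact h r (Or.inr hr)
  · rintro h r (⟨a, -, b, -, rfl⟩ | hr)
    · obtain ⟨x, hx, rfl⟩ := List.getElem_of_mem (P.complete a)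
      obtain ⟨y, hy, rfl⟩ := List.getElem_of_mem (P.complete b)
      rw [← P.pairWord_eq f (List.getElem?_eq_getElem hx) (List.getElem?_eq_getElem hy)]
      refine h _ ?_
      simp only [relWords, List.mem_append, List.mem_flatMap, List.mem_range, List.mem_map]
      exact Or.inl ⟨x, hx, y, hy, rfl⟩
    · have : FreeGroup.lift f r ∈ P.extra.map (FreeGroup.lift f) := List.mem_map_of_mem hr
      rw [hext, List.mem_map] at this
      obtain ⟨w, hw, he⟩ := this
      rw [← he]
      exact h w (by simp only [relWords, List.mem_append]; exact Or.inr hw)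

/-- The presented group. -/
abbrev Grp : Type := PresentedGroup P.relSet

/-- The numbered generators of the presented group. -/
def g (i : ℕ) : P.Grp := P.ext (fun a => PresentedGroup.of a) i

theorem of_mul_self (a : α) : (PresentedGroup.of a : P.Grp) * PresentedGroup.of a = 1 := by
  have h : PresentedGroup.mk P.relSet ((FreeGroup.of a * FreeGroup.of a) ^ coxLabel P.edges a a) = 1 :=
    PresentedGroup.one_of_mem (Or.inl ⟨a, P.node a, a, P.node a, rfl⟩)
  simpa [coxLabel, PresentedGroup.of] using h

theorem g_mul_self (i : ℕ) : P.g i * P.g i = 1 := by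
  simp only [g, ext]
  cases P.gens[i]? with
  | none => simp
  | some a => exact P.of_mul_self a

theorem g_junk (i : ℕ) (hi : P.gens.length ≤ i) : P.g i = 1 := by
  simp [g, ext, List.getElem?_eq_none hi]

theorem g_gen : Subgroup.closure (Set.range P.g) = ⊤ := by
  rw [eq_top_iff, ← PresentedGroup.closure_range_of]
  refine Subgroup.closure_mono ?_
  rintro _ ⟨a, rfl⟩
  obtain ⟨x, hx, rfl⟩ := List.getElem_of_mem (P.complete a)
  exact ⟨x, by simp [g, ext, List.getElem?_eq_getElem hx]⟩

theorem relWords_one : ∀ w ∈ P.relWords, (w.map P.g).prod = 1 := by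
  refine (P.rels_iff _ P.of_mul_self).mp fun r hr => ?_
  have : FreeGroup.lift (fun a => (PresentedGroup.of a : P.Grp)) = PresentedGroup.mk P.relSet :=
    FreeGroup.ext_hom _ _ fun a => by rw [FreeGroup.lift_apply_of]; rfl
  rw [this]
  exact PresentedGroup.one_of_mem hr

/-- A word is a rotation of one of the base words. -/
def RotOK (base : List (List ℕ)) (w : List ℕ) (p : ℕ × ℕ) : Bool :=
  match base[p.1]? with
  | none => false
  | some r => w == r.drop p.2 ++ r.take p.2

theorem prod_rotate {M : Type} [Group M] (g : ℕ → M) (r : List ℕ) (k : ℕ)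
    (h : (r.map g).prod = 1) : ((r.drop k ++ r.take k).map g).prod = 1 := by
  rw [← List.take_append_drop k r, List.map_append, List.prod_append] at h
  rw [List.map_append, List.prod_append]
  exact mul_eq_one_comm.mp h

theorem certRels_one (base : List (List ℕ)) (prov : List (ℕ × ℕ)) (rels : List (List ℕ))
    (hbase : base.all (fun r => r ∈ P.relWords ∨ r = []) = true)
    (hrels : (rels.zip prov).all (fun wp => RotOK base wp.1 wp.2) = true)
    (hlen : rels.length = prov.length) : ∀ w ∈ rels, (w.map P.g).prod = 1 := by
  intro w hw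
  obtain ⟨i, hi, rfl⟩ := List.getElem_of_mem hw
  have hmem : (rels[i], prov[i]'(hlen ▸ hi)) ∈ rels.zip prov :=
    List.mem_iff_getElem.mpr ⟨i, by simp [← hlen, hi], by simp⟩
  have h := List.all_eq_true.mp hrels _ hmem
  simp only [RotOK] at h
  cases hr : base[(prov[i]'(hlen ▸ hi)).1]? with
  | none => rw [hr] at h; simp at h
  | some r =>
    rw [hr] at h
    simp only [beq_iff_eq] at h
    rw [h]
    refine prod_rotate _ _ _ ?_
    have h2 := List.all_eq_true.mp hbase r (List.mem_of_getElem? hr)
    simp only [decide_eq_true_eq] at h2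
    rcases h2 with h2 | rfl
    · exact P.relWords_one r h2
    · simp

theorem rep_hom (t : Table) (hinv : t.chkInvol = true) (hng : t.ngen = P.gens.length) (hpos : 0 < t.N)
    (hwords : P.relWords.all t.chkWord = true) (subs : List (List ℕ))
    (hfix : subs.all (fun w => Nat.beq (t.imgWord w 0) 0) = true) (H : Subgroup P.Grp)
    (hH : H ≤ Subgroup.closure {a | ∃ w ∈ subs, a = (w.map P.g).prod}) :
    ∃ φ : P.Grp →* Equiv.Perm (Fin t.N),
      (∀ x, φ (P.g x) = t.permOf hinv x) ∧ ∀ k ∈ H, φ k ⟨0, hpos⟩ = ⟨0, hpos⟩ := by
  have hjunk : ∀ x, P.gens.length ≤ x → t.permOf hinv x = 1 := fun x hx =>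
    Equiv.ext fun i => Fin.ext (by simp [Table.permOf, Table.img, Table.blt_false (hng ▸ hx)])
  classical
  let f : α → Equiv.Perm (Fin t.N) := fun a => t.permOf hinv (P.gens.idxOf a)
  have hf : ∀ a, f a * f a = 1 := fun a => t.permOf_mul_self hinv _
  have hrel : ∀ w ∈ P.relWords, (w.map (t.permOf hinv)).prod = 1 := fun w hw =>
    t.prod_permOf hinv (List.all_eq_true.mp hwords w hw)
  have hd := P.nodup
  have hext : ∀ x, P.ext f x = t.permOf hinv x := by
    intro x
    rcases Nat.lt_or_ge x P.gens.length with hx | hx
    · simp [ext, f, List.getElem?_eq_getElem hx, hd.idxOf_getElem x hx]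
    · simp [ext, List.getElem?_eq_none hx, hjunk x hx]
  have hr : ∀ r ∈ P.relSet, FreeGroup.lift f r = 1 := (P.rels_iff f hf).mpr fun w hw => by
    rw [show (w.map (P.ext f)) = w.map (t.permOf hinv) from List.map_congr_left fun x _ => hext x]
    exact hrel w hw
  let φ : P.Grp →* Equiv.Perm (Fin t.N) := PresentedGroup.toGroup hr
  have hφ : ∀ x, φ (P.g x) = t.permOf hinv x := by
    intro x
    rcases Nat.lt_or_ge x P.gens.length with hx | hx
    · rw [← hext x]
      simp [φ, g, ext, List.getElem?_eq_getElem hx]
    · rw [P.g_junk x hx, map_one, hjunk x hx]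
  refine ⟨φ, hφ, fun k hk => ?_⟩
  have hle : Subgroup.closure {a | ∃ w ∈ subs, a = (w.map P.g).prod} ≤
      (MulAction.stabilizer (Equiv.Perm (Fin t.N)) (⟨0, hpos⟩ : Fin t.N)).comap φ := by
    refine (Subgroup.closure_le _).mpr ?_
    rintro _ ⟨w, hw, rfl⟩
    rw [SetLike.mem_coe, ← inv_mem_iff, ← Data.reverse_prod P.g P.g_mul_self, Subgroup.mem_comap,
      map_list_prod, List.map_reverse, List.map_map,
      show (w.map (φ ∘ P.g)) = w.map (t.permOf hinv) from List.map_congr_left fun x _ => hφ x,
      MulAction.mem_stabilizer_iff, ← Data.act_eq, Table.act_permOf]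
    exact Fin.ext (Table.beq_eq (List.all_eq_true.mp hfix w hw))
  exact MulAction.mem_stabilizer_iff.mp (hle (hH hk))

end Pres

end Cfsg.Agent.Enum
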