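import Mathlib
import Cfsg.Agent.Lib.Enum.Pres
import Cfsg.Agent.Lib.Enum.Orbit

/-!
# Orders and simplicity from coset tables

* `Covers`: a table whose edges are proved bounds an index from above.
* `Level`: an orbit of the pointwise stabilizer of a list of points bounds the order from below.
* `isSimpleGroup_of_certs`: simplicity from a primitive action and a relator killing the quotient.
-/

set_option autoImplicit false

namespace Cfsg.Agent.Enum

open Table (beq_eq blt_lt blt_false img_spec imgWord_lt)

/-! ### Certificates for upper bounds -/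

/-- The generators and relators of a certificate hold in a group. -/
structure Holding {G : Type*} [Group G] (g : ℕ → G) (ngen : ℕ) (base : List (List ℕ)) : Prop where
  invol : ∀ x, g x * g x = 1
  junk : ∀ x, ngen ≤ x → g x = 1
  base : ∀ w ∈ base, (w.map g).prod = 1

theorem Holding.rels {G : Type*} [Group G] {g : ℕ → G} {ngen : ℕ} {base : List (List ℕ)}
    (h : Holding g ngen base) {prov : List (ℕ × ℕ)} {rels : List (List ℕ)}
    (hrels : (rels.zip prov).all (fun wp => Pres.RotOK base wp.1 wp.2) = true)
    (hlen : rels.length = prov.length) : ∀ w ∈ rels, (w.map g).prod = 1 := by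
  intro w hw
  obtain ⟨i, hi, rfl⟩ := List.getElem_of_mem hw
  have hmem : (rels[i], prov[i]'(hlen ▸ hi)) ∈ rels.zip prov :=
    List.mem_iff_getElem.mpr ⟨i, by simp [← hlen, hi], by simp⟩
  have h' := List.all_eq_true.mp hrels _ hmem
  simp only [Pres.RotOK] at h'
  cases hr : base[(prov[i]'(hlen ▸ hi)).1]? with
  | none => rw [hr] at h'; simp at h'
  | some r =>
    rw [hr] at h'
    simp only [beq_iff_eq] at h'
    rw [h']
    have h1 := h.base r (List.mem_of_getElem? hr)
    generalize (prov[i]'(hlen ▸ hi)).2 = k at *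
    rw [← List.take_append_drop k r, List.map_append, List.prod_append] at h1
    rw [List.map_append, List.prod_append]
    exact mul_eq_one_comm.mp h1

/-- The subgroup generated by some words. -/
def wordClosure {G : Type*} [Group G] (g : ℕ → G) (ws : List (List ℕ)) : Subgroup G :=
  Subgroup.closure {a | ∃ w ∈ ws, a = (w.map g).prod}

theorem wordClosure_fix {G : Type*} [Group G] {g : ℕ → G} (hg : ∀ x, g x * g x = 1)
    (ws : List (List ℕ)) : ∀ w ∈ ws,
      Data.act g w (QuotientGroup.mk (s := wordClosure g ws) (1 : G)) = QuotientGroup.mk 1 := by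
  intro w hw
  rw [Data.act_eq, Data.reverse_prod _ hg]
  show QuotientGroup.mk (_ * (1 : G)) = _
  rw [QuotientGroup.eq]
  simp only [mul_one, inv_inv]
  exact Subgroup.subset_closure ⟨w, hw, rfl⟩

/-- The facts below a bound hold. -/
def UptoFor {G : Type*} [Group G] (g : ℕ → G) (d : Data) (k : ℕ) : Prop :=
  ∀ f, f < k → Data.Holds g
    (Data.points g d (QuotientGroup.mk (s := wordClosure g d.subs) (1 : G))) (d.fact f)

theorem uptoFor_zero {G : Type*} [Group G] (g : ℕ → G) (d : Data) : UptoFor g d 0 :=
  fun f hf => absurd hf (Nat.not_lt_zero f)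

theorem uptoFor_step {G : Type*} [Group G] {g : ℕ → G} {ngen : ℕ} {base : List (List ℕ)}
    (h : Holding g ngen base) (hn : ngen ≤ 15) {d : Data} {prov : List (ℕ × ℕ)}
    (hrels : (d.rels.zip prov).all (fun wp => Pres.RotOK base wp.1 wp.2) = true)
    (hlen : d.rels.length = prov.length)
    {k k' : ℕ} (l : List ℕ) (hc : d.chkSteps k l = true) (hk : k' = k + l.length)
    (hu : UptoFor g d k) : UptoFor g d k' := by
  subst hk
  exact Data.chkSteps_sound _ h.invol (h.junk 15 hn) d _ (h.rels hrels hlen)
    (wordClosure_fix h.invol d.subs) l k hu hc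

/-- A relation from a closed path at the base node. -/
theorem prod_eq_one_of_walk {G : Type*} [Group G] {g : ℕ → G} (hg : ∀ x, g x * g x = 1)
    (h15 : g 15 = 1) {d : Data} (hsubs : d.subs = []) {k : ℕ} (hu : UptoFor g d k) {n v : ℕ}
    {w : List ℕ} (hw : d.walk k n v 0 w = some (0, [])) : (w.map g).prod = 1 := by
  have h := Data.walk_spec g hg h15 d _ k hu n v 0 w 0 [] hw
  rw [Data.points_zero, Data.act_eq, Data.reverse_prod g hg] at h
  have h' : (QuotientGroup.mk (((w.map g).prod)⁻¹ * 1) : G ⧸ wordClosure g d.subs) =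
      QuotientGroup.mk 1 := h
  rw [QuotientGroup.eq] at h'
  have hb : wordClosure g d.subs = ⊥ := by simp [hsubs, wordClosure]
  rw [hb] at h'
  simpa using h'

/-- A list of nodes closed under the generators, with the facts proving it. -/
structure CoverData where
  /-- number of nodes in the list -/
  N : ℕ
  /-- number of generators -/
  ngen : ℕ
  /-- number of facts -/
  nf : ℕ
  /-- the nodes, 256 fields of 16 bits in a block -/
  reps : Tree

/-- Node number `i` of the list. -/
def CoverData.rep (c : CoverData) (i : ℕ) : ℕ := field 16 (c.reps.get (i / 256)) (i % 256)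

/-- Edge of item `v` for generator `x`: `segment + 2^20 * target`. -/
def CoverData.chkEdge (c : CoverData) (d : Data) (a v x : ℕ) : Bool :=
  let z := field 36 v x
  let s := z % 2 ^ 20
  let e := d.fact (s / 2)
  let a' := bif Nat.beq (s % 2) 0 then Data.fa e else Data.fb e
  let b' := bif Nat.beq (s % 2) 0 then Data.fb e else Data.fa e
  Nat.blt (s / 2) c.nf && Nat.beq (Data.fx e) x && Nat.beq a' a && Nat.blt (z / 2 ^ 20) c.N &&
    Nat.beq b' (c.rep (z / 2 ^ 20))

/-- Check the edges at node number `i` of the list. -/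
def CoverData.chkItem (c : CoverData) (d : Data) (i v : ℕ) : Bool :=
  let a := c.rep i
  allRange (c.chkEdge d a v) 8 0 c.ngen

/-- Check consecutive items. -/
def CoverData.chkItems (c : CoverData) (d : Data) : ℕ → List ℕ → Bool
  | _, [] => true
  | i, v :: l => c.chkItem d i v && c.chkItems d (i + 1) l

/-- The items below a bound are checked. -/
def EdgesUpto (c : CoverData) (d : Data) (k : ℕ) : Prop :=
  ∀ i, i < k → ∃ v, c.chkItem d i v = true

theorem edgesUpto_zero (c : CoverData) (d : Data) : EdgesUpto c d 0 :=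
  fun i hi => absurd hi (Nat.not_lt_zero i)

theorem edgesUpto_step {c : CoverData} {d : Data} {k k' : ℕ} (l : List ℕ)
    (h : c.chkItems d k l = true) (hk : k' = k + l.length) (hu : EdgesUpto c d k) :
    EdgesUpto c d k' := by
  subst hk
  induction l generalizing k with
  | nil => simpa using hu
  | cons v l ih =>
    simp only [CoverData.chkItems, Bool.and_eq_true] at h
    have h1 : EdgesUpto c d (k + 1) := fun i hi => by
      rcases Nat.lt_succ_iff_lt_or_eq.mp hi with hi | rfl
      · exact hu i hi
      · exact ⟨v, h.1⟩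
    have := ih h.2 h1
    rw [List.length_cons, show k + (l.length + 1) = k + 1 + l.length by omega]
    exact this

/-- A covering of the cosets by listed nodes. -/
structure Covers {G : Type*} [Group G] (g : ℕ → G) (H : Subgroup G) (t : CoverData) (d : Data) :
    Prop where
  pos : 0 < t.N
  invol_g : ∀ x, g x * g x = 1
  junk : ∀ x, t.ngen ≤ x → g x = 1
  gen : Subgroup.closure (Set.range g) = ⊤
  facts : ∀ f, f < t.nf → Data.Holds g (Data.points g d (QuotientGroup.mk (s := H) (1 : G))) (d.fact f)
  edges : EdgesUpto t d t.N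
  rep0 : t.rep 0 = 0

namespace Covers

variable {G : Type*} [Group G] {g : ℕ → G} {H : Subgroup G} {t : CoverData} {d : Data}

/-- The coset of a listed node. -/
noncomputable def point (g : ℕ → G) (H : Subgroup G) (t : CoverData) (d : Data) (i : Fin t.N) : G ⧸ H :=
  Data.points g d (QuotientGroup.mk (1 : G)) (t.rep i)

theorem smul_point (c : Covers g H t d) (x : ℕ) (i : Fin t.N) :
    ∃ j, g x • point g H t d i = point g H t d j := by
  rcases Nat.lt_or_ge x t.ngen with hx | hx
  · obtain ⟨v, hv⟩ := c.edges i i.2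
    simp only [CoverData.chkItem] at hv
    have h := allRange_spec 8 0 t.ngen hv x (Nat.zero_le _) (by simpa using hx)
    simp only [CoverData.chkEdge] at h
    generalize field 36 v x = z at h
    generalize hs : z % 2 ^ 20 = s at h
    simp only [Bool.and_eq_true] at h
    obtain ⟨⟨⟨⟨hlt, hfx⟩, ha⟩, hj⟩, hb⟩ := h
    refine ⟨⟨_, blt_lt hj⟩, ?_⟩
    have hf := c.facts _ (blt_lt hlt)
    rw [Data.Holds, beq_eq hfx] at hf
    show g x • Data.points g d _ (t.rep i) = Data.points g d _ (t.rep (z / 2 ^ 20))
    rw [← beq_eq ha, ← beq_eq hb]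
    cases Nat.beq (s % 2) 0 with
    | true => exact hf
    | false => simp only [cond_false]; rw [← hf, smul_smul, c.invol_g, one_smul]
  · exact ⟨i, by rw [c.junk x hx, one_smul]⟩

theorem point_surjective (c : Covers g H t d) : Function.Surjective (point g H t d) := by
  intro q
  obtain ⟨a, rfl⟩ := QuotientGroup.mk_surjective q
  have key : ∀ a ∈ Subgroup.closure (Set.range g),
      (∀ i, ∃ j, a • point g H t d i = point g H t d j) ∧
      (∀ i, ∃ j, a⁻¹ • point g H t d i = point g H t d j) := by
    intro a ha
    induction ha using Subgroup.closure_induction with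
    | mem a ha =>
      obtain ⟨x, rfl⟩ := ha
      rw [inv_eq_of_mul_eq_one_right (c.invol_g x)]
      exact ⟨fun i => smul_point c x i, fun i => smul_point c x i⟩
    | one => exact ⟨fun i => ⟨i, one_smul G _⟩, fun i => ⟨i, by rw [inv_one, one_smul]⟩⟩
    | mul a b _ _ iha ihb =>
      refine ⟨fun i => ?_, fun i => ?_⟩
      · obtain ⟨j, hj⟩ := ihb.1 i
        obtain ⟨k, hk⟩ := iha.1 j
        exact ⟨k, by rw [mul_smul, hj, hk]⟩
      · obtain ⟨j, hj⟩ := iha.2 i
        obtain ⟨k, hk⟩ := ihb.2 j
        exact ⟨k, by rw [mul_inv_rev, mul_smul, hj, hk]⟩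
    | inv a _ iha => exact ⟨iha.2, by rw [inv_inv]; exact iha.1⟩
  obtain ⟨j, hj⟩ := (key a (c.gen ▸ Subgroup.mem_top a)).1 ⟨0, c.pos⟩
  refine ⟨j, ?_⟩
  rw [← hj]
  have h0 : point g H t d ⟨0, c.pos⟩ = QuotientGroup.mk 1 := by
    simp [point, c.rep0]
  rw [h0]
  show (QuotientGroup.mk (a * 1) : G ⧸ H) = _
  rw [mul_one]

theorem finite_quotient (c : Covers g H t d) : Finite (G ⧸ H) :=
  Finite.of_surjective _ c.point_surjective

theorem index_le (c : Covers g H t d) : H.index ≤ t.N :=
  (Nat.card_le_card_of_surjective _ c.point_surjective).trans (Nat.card_fin _).le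

theorem card_le (c : Covers g H t d) [Finite H] {m : ℕ} (hm : Nat.card H ≤ m) :
    Finite G ∧ Nat.card G ≤ t.N * m := by
  haveI := c.finite_quotient
  refine ⟨Finite.of_equiv _ (Subgroup.groupEquivQuotientProdSubgroup (s := H)).symm, ?_⟩
  rw [← Subgroup.index_mul_card H]
  exact Nat.mul_le_mul c.index_le hm

end Covers

/-! ### Subgroups generated by some of the generators -/

section Sub

variable {G : Type*} [Group G] (g : ℕ → G)

/-- The subgroup generated by the listed generators. -/
def gensClosure (L : List ℕ) : Subgroup G := Subgroup.closure {a | ∃ x ∈ L, a = g x}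

/-- The listed generators, renumbered, in the subgroup they generate. -/
def subGen (L : List ℕ) (i : ℕ) : gensClosure g L :=
  if h : i < L.length then ⟨g L[i], Subgroup.subset_closure ⟨_, List.getElem_mem h, rfl⟩⟩ else 1

variable {g}

theorem coe_subGen (L : List ℕ) {i : ℕ} (h : i < L.length) :
    (subGen g L i : G) = g (L.getD i 0) := by
  rw [subGen, dif_pos h, List.getD_eq_getElem _ _ h]

theorem coe_prod_subGen (L : List ℕ) {w : List ℕ} (hw : ∀ i ∈ w, i < L.length) :
    ((w.map (subGen g L)).prod : G) = ((w.map fun i => L.getD i 0).map g).prod := by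
  induction w with
  | nil => simp
  | cons i w ih =>
    simp only [List.map_cons, List.prod_cons, Subgroup.coe_mul]
    rw [coe_subGen L (hw i (List.mem_cons_self ..)), ih fun j hj => hw j (List.mem_cons_of_mem _ hj)]

/-- The relators of a sub-enumeration are relators of the group. -/
def subRelsOK (L : List ℕ) (relWords base : List (List ℕ)) : Bool :=
  base.all fun w => w.all (fun i => Nat.blt i L.length) &&
    (w.isEmpty || relWords.contains (w.map fun i => L.getD i 0))

theorem holding_subGen (hg : ∀ x, g x * g x = 1) {relWords : List (List ℕ)}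
    (hrel : ∀ w ∈ relWords, (w.map g).prod = 1) (L : List ℕ) {base : List (List ℕ)}
    (h : subRelsOK L relWords base = true) : Holding (subGen g L) L.length base where
  invol x := by
    rcases Nat.lt_or_ge x L.length with hx | hx
    · exact Subtype.ext (by rw [Subgroup.coe_mul, coe_subGen L hx]; exact hg _)
    · simp [subGen, Nat.not_lt.mpr hx]
  junk x hx := by simp [subGen, Nat.not_lt.mpr hx]
  base w hw := by
    have h1 := List.all_eq_true.mp h w hw
    simp only [Bool.and_eq_true, List.all_eq_true, Bool.or_eq_true, List.isEmpty_iff,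
      List.contains_iff_mem] at h1
    refine Subtype.ext ?_
    rw [coe_prod_subGen L fun i hi => blt_lt (h1.1 i hi)]
    rcases h1.2 with rfl | h2
    · simp
    · exact hrel _ h2

theorem subGen_gen (L : List ℕ) : Subgroup.closure (Set.range (subGen g L)) = ⊤ := by
  apply Subgroup.map_injective (gensClosure g L).subtype_injective
  rw [MonoidHom.map_closure, ← MonoidHom.range_eq_map, Subgroup.range_subtype]
  refine le_antisymm ((Subgroup.closure_le _).mpr ?_) ((Subgroup.closure_le _).mpr ?_)
  · rintro _ ⟨a, -, rfl⟩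
    exact a.2
  · rintro _ ⟨x, hx, rfl⟩
    obtain ⟨i, hi, rfl⟩ := List.getElem_of_mem hx
    exact Subgroup.subset_closure ⟨subGen g L i, ⟨i, rfl⟩, by simp [subGen, hi]⟩

theorem map_wordClosure_subGen (L L' : List ℕ) (subs : List (List ℕ))
    (hL' : subs.map (fun w => w.map fun i => L.getD i 0) = L'.map fun x => [x])
    (hlt : subs.all (fun w => w.all fun i => Nat.blt i L.length) = true) :
    (wordClosure (subGen g L) subs).map (gensClosure g L).subtype = gensClosure g L' := by
  rw [wordClosure, MonoidHom.map_closure]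
  show _ = Subgroup.closure {a | ∃ x ∈ L', a = g x}
  congr 1
  ext a
  constructor
  · rintro ⟨_, ⟨w, hw, rfl⟩, rfl⟩
    have hb := List.all_eq_true.mp hlt w hw
    simp only [List.all_eq_true] at hb
    obtain ⟨x, hx, he⟩ := List.mem_map.mp (hL' ▸ List.mem_map_of_mem hw :
      (w.map fun i => L.getD i 0) ∈ L'.map fun x => [x])
    refine ⟨x, hx, ?_⟩
    show ((w.map (subGen g L)).prod : G) = _
    rw [coe_prod_subGen L fun i hi => blt_lt (hb i hi), ← he]
    simp
  · rintro ⟨x, hx, rfl⟩
    obtain ⟨w, hw, he⟩ := List.mem_map.mp (hL'.symm ▸ List.mem_map_of_mem hx :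
      [x] ∈ subs.map fun w => w.map fun i => L.getD i 0)
    have hb := List.all_eq_true.mp hlt w hw
    simp only [List.all_eq_true] at hb
    refine ⟨_, ⟨w, hw, rfl⟩, ?_⟩
    show ((w.map (subGen g L)).prod : G) = _
    rw [coe_prod_subGen L fun i hi => blt_lt (hb i hi), he]
    simp

/-- One step of a chain of subgroups. -/
theorem chain_step {L L' : List ℕ} {t : CoverData} {d : Data}
    (c : Covers (subGen g L) (wordClosure (subGen g L) d.subs) t d)
    (hL' : d.subs.map (fun w => w.map fun i => L.getD i 0) = L'.map fun x => [x])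
    (hlt : d.subs.all (fun w => w.all fun i => Nat.blt i L.length) = true) {m : ℕ}
    (h : Finite (gensClosure g L') ∧ Nat.card (gensClosure g L') ≤ m) :
    Finite (gensClosure g L) ∧ Nat.card (gensClosure g L) ≤ t.N * m := by
  obtain ⟨hf, hm⟩ := h
  have e := Subgroup.equivMapOfInjective (wordClosure (subGen g L) d.subs) _
    (gensClosure g L).subtype_injective
  rw [map_wordClosure_subGen L L' d.subs hL' hlt] at e
  haveI : Finite (wordClosure (subGen g L) d.subs) := Finite.of_equiv _ e.symm.toEquiv
  exact c.card_le ((Nat.card_congr e.toEquiv).trans_le hm)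

theorem chain_base : Finite (gensClosure g []) ∧ Nat.card (gensClosure g []) ≤ 1 := by
  have h : gensClosure g ([] : List ℕ) = ⊥ := by simp [gensClosure]
  rw [h]
  exact ⟨inferInstance, by simp⟩

end Sub

/-! ### Lower bounds -/

/-- An orbit of the pointwise stabilizer of `fixed`. -/
structure Level where
  /-- points fixed by the words -/
  fixed : List ℕ
  /-- the point moved -/
  base : ℕ
  /-- words fixing the points `fixed` -/
  words : List (List ℕ)
  /-- number of orbit points -/
  n : ℕ
  /-- the orbit points, fields of 16 bits -/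
  pts : ℕ
  /-- position of each orbit point, fields of 16 bits -/
  pos : ℕ
  /-- word number and position of the predecessor: `word + 2^6 * position`, fields of 22 bits -/
  prev : ℕ

namespace Level

/-- Check a level. -/
def chk (t : Table) (l : Level) : Bool :=
  l.words.all (fun w => l.fixed.all fun p => Nat.beq (t.imgWord w p) p) &&
  Nat.beq (field 16 l.pts 0) l.base && Nat.blt l.base t.N && l.fixed.all (fun p => Nat.blt p t.N) &&
  allRange (fun i => Nat.beq (field 16 l.pos (field 16 l.pts i)) i &&
    (Nat.beq i 0 ||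
      (let e := field 22 l.prev i
       match l.words[e % 2 ^ 6]? with
       | none => false
       | some w => Nat.blt (e / 2 ^ 6) i &&
          Nat.beq (t.imgWord w (field 16 l.pts (e / 2 ^ 6))) (field 16 l.pts i)))) 64 0 l.n

variable {G : Type*} [Group G] {g : ℕ → G} {t : Table}

/-- The elements fixing the listed points. -/
def fixer (φ : G →* Equiv.Perm (Fin t.N)) (ps : List ℕ) : Subgroup G where
  carrier := {a | ∀ p ∈ ps, ∀ h : p < t.N, φ a ⟨p, h⟩ = ⟨p, h⟩}
  one_mem' := fun p _ h => by rw [map_one]; rfl
  mul_mem' := fun {a b} ha hb p hp h => by rw [map_mul, Equiv.Perm.mul_apply, hb p hp h, ha p hp h]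
  inv_mem' := fun {a} ha p hp h => by rw [map_inv, Equiv.Perm.inv_eq_iff_eq, ha p hp h]

theorem mul_card_le [Finite G] (hg : ∀ x, g x * g x = 1) (hinv : t.chkInvol = true)
    (φ : G →* Equiv.Perm (Fin t.N)) (hφ : ∀ x, φ (g x) = t.permOf hinv x) (l : Level)
    (hl : l.chk t = true) :
    l.n * Nat.card (fixer φ (l.base :: l.fixed)) ≤ Nat.card (fixer φ l.fixed) := by
  simp only [chk, Bool.and_eq_true, List.all_eq_true] at hl
  obtain ⟨⟨⟨⟨hw, h0⟩, hb⟩, hfx⟩, hr⟩ := hl
  have hact : ∀ (w : List ℕ) (i : Fin t.N),
      φ ((w.map g).reverse.prod) i = ⟨t.imgWord w i, imgWord_lt hinv w i.2⟩ := by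
    intro w i
    rw [← Table.act_permOf t hinv w i, Data.act_eq, map_list_prod, List.map_reverse, List.map_map,
      show (w.map (φ ∘ g)) = w.map (t.permOf hinv) from List.map_congr_left fun x _ => hφ x]
    rfl
  have key : ∀ i, i < l.n → ∃ u : G, u ∈ fixer φ l.fixed ∧
      (φ u ⟨l.base, blt_lt hb⟩ : ℕ) = field 16 l.pts i := by
    intro i
    induction i using Nat.strong_induction_on with
    | _ i ih =>
      intro hi
      have h := allRange_spec 64 0 l.n hr i (Nat.zero_le _) (by simpa using hi)
      simp only [Bool.and_eq_true, Bool.or_eq_true] at h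
      rcases h.2 with h1 | h1
      · refine ⟨1, one_mem _, ?_⟩
        rw [beq_eq h1, map_one, beq_eq h0]
        rfl
      · generalize he : field 22 l.prev i = e at h1
        cases hwd : l.words[e % 2 ^ 6]? with
        | none => rw [hwd] at h1; simp at h1
        | some w =>
          rw [hwd] at h1
          simp only [Bool.and_eq_true] at h1
          obtain ⟨u, hu, hue⟩ := ih _ (blt_lt h1.1) ((blt_lt h1.1).trans hi)
          refine ⟨(w.map g).reverse.prod * u, mul_mem ?_ hu, ?_⟩
          · intro p hp h
            rw [hact]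
            exact Fin.ext (beq_eq (hw w (List.mem_of_getElem? hwd) p hp))
          · rw [map_mul, Equiv.Perm.mul_apply, hact]
            show t.imgWord w _ = _
            rw [hue, beq_eq h1.2]
  choose u hu hue using key
  let F : Fin l.n × fixer φ (l.base :: l.fixed) → fixer φ l.fixed := fun z =>
    ⟨u z.1 z.1.2 * z.2, mul_mem (hu _ _) fun p hp h => z.2.2 p (List.mem_cons_of_mem _ hp) h⟩
  have hF : Function.Injective F := by
    rintro ⟨i, a⟩ ⟨j, b⟩ hab
    have hab' : u i i.2 * (a : G) = u j j.2 * b := congrArg Subtype.val hab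
    have himg := congrArg (fun c => (φ c ⟨l.base, blt_lt hb⟩ : ℕ)) hab'
    simp only [map_mul, Equiv.Perm.mul_apply, a.2 l.base (List.mem_cons_self ..) (blt_lt hb),
      b.2 l.base (List.mem_cons_self ..) (blt_lt hb), hue] at himg
    have hij : i = j := by
      have hi := allRange_spec 64 0 l.n hr i (Nat.zero_le _) (by simp)
      have hj := allRange_spec 64 0 l.n hr j (Nat.zero_le _) (by simp)
      simp only [Bool.and_eq_true] at hi hj
      apply Fin.ext
      rw [← beq_eq hi.1, ← beq_eq hj.1, himg]
    subst hij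
    exact Prod.ext rfl (Subtype.ext (mul_left_cancel hab'))
  have := Nat.card_le_card_of_injective F hF
  rwa [Nat.card_prod, Nat.card_fin] at this

/-- A list of levels for the points fixed so far. -/
def chain : List ℕ → List Level → Bool
  | _, [] => true
  | ps, l :: ls => l.fixed == ps && chain (l.base :: ps) ls

theorem prod_le [Finite G] (hg : ∀ x, g x * g x = 1) (hinv : t.chkInvol = true)
    (φ : G →* Equiv.Perm (Fin t.N)) (hφ : ∀ x, φ (g x) = t.permOf hinv x) :
    ∀ (ps : List ℕ) (ls : List Level), chain ps ls = true → ls.all (chk t) = true →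
      (ls.map Level.n).prod ≤ Nat.card (fixer φ ps)
  | ps, [], _, _ => by simpa using Nat.one_le_iff_ne_zero.mpr Nat.card_pos.ne'
  | ps, l :: ls, hc, hall => by
    simp only [chain, Bool.and_eq_true, beq_iff_eq] at hc
    simp only [List.all_cons, Bool.and_eq_true] at hall
    have h1 := prod_le hg hinv φ hφ (l.base :: ps) ls hc.2 hall.2
    have h2 := mul_card_le hg hinv φ hφ l hall.1
    rw [hc.1] at h2
    rw [List.map_cons, List.prod_cons]
    exact (Nat.mul_le_mul_left _ h1).trans h2

end Level

theorem wordClosure_singletons {G : Type*} [Group G] (g : ℕ → G) (L : List ℕ) :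
    wordClosure g (L.map fun x => [x]) = gensClosure g L := by
  show Subgroup.closure _ = Subgroup.closure _
  congr 1
  ext a
  constructor
  · rintro ⟨w, hw, rfl⟩
    obtain ⟨x, hx, rfl⟩ := List.mem_map.mp hw
    exact ⟨x, hx, by simp⟩
  · rintro ⟨x, hx, rfl⟩
    exact ⟨[x], List.mem_map.mpr ⟨x, hx, rfl⟩, by simp⟩

/-- Equality of the order and faithfulness from matching bounds. -/
theorem card_eq_and_injective {G : Type*} [Group G] [Finite G] {g : ℕ → G} {t : Table}
    (hg : ∀ x, g x * g x = 1) (hinv : t.chkInvol = true) (φ : G →* Equiv.Perm (Fin t.N))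
    (hφ : ∀ x, φ (g x) = t.permOf hinv x) {ls : List Level} (hc : Level.chain [] ls = true)
    (hall : ls.all (Level.chk t) = true) {n : ℕ} (hn : (ls.map Level.n).prod = n)
    (hle : Nat.card G ≤ n) : Nat.card G = n ∧ Function.Injective φ := by
  have h1 := Level.prod_le (G := φ.range) (g := fun x => φ.rangeRestrict (g x))
    (fun x => by rw [← map_mul, hg, map_one]) hinv φ.range.subtype hφ [] ls hc hall
  rw [hn] at h1
  have h2 : n ≤ Nat.card φ.range := h1.trans (Subgroup.card_le_card_group _)
  have h3 : Nat.card φ.range ≤ Nat.card G := Nat.card_le_card_of_surjective _ φ.rangeRestrict_surjective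
  refine ⟨le_antisymm hle (h2.trans h3), ?_⟩
  have hb := (Nat.bijective_iff_surjective_and_card φ.rangeRestrict).mpr
    ⟨φ.rangeRestrict_surjective, le_antisymm (hle.trans h2) h3⟩
  exact fun a b h => hb.1 (Subtype.ext h)

/-! ### Simplicity -/

section Simple

variable {G : Type*} [Group G] [Finite G] {g : ℕ → G} {H : Subgroup G} {t : Table} {d : Data}

/-- No union of suborbits which contains the fixed point has size a proper divisor of the degree. -/
def divOK (sizes : List ℕ) (N : ℕ) : Bool :=
  match sizes with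
  | [] => false
  | s :: ss => s == 1 && (ss.sublists.all fun T =>
      T.length == 0 || T.length == ss.length || N % (1 + T.sum) != 0)

/-- The subgroup of the table is maximal. -/
theorem overgroup_cases (c : Table.Certified g H t d) (o : Suborbits) (ho : o.chk t = true)
    (hH : H = Subgroup.closure {a | ∃ w ∈ o.words, a = (w.map g).prod}) (k : ℕ)
    (hroots : ∀ j, j < k → o.root j < t.N ∧ field 8 o.label (o.root j) = j)
    (hlabel : allRange (fun i => Nat.blt (field 8 o.label i) k) 64 0 t.N = true)
    (hroot0 : o.root 0 = 0) (sizes : List ℕ) (hlen : sizes.length = k)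
    (hsizes : (List.range k).map (fun j => o.count j 17 0 t.N) = sizes) (hN : t.N ≤ 2 ^ 16)
    (hdiv : divOK sizes t.N = true) (M : Subgroup G) (hHM : H ≤ M) : M = H ∨ M = ⊤ := by
  classical
  have hbij := Table.coset_bijective c
  set P := Table.coset g H t d with hP
  let S : Set (G ⧸ H) := (QuotientGroup.mk (s := H)) '' (M : Set G)
  have hmem : ∀ a : G, (QuotientGroup.mk a : G ⧸ H) ∈ S ↔ a ∈ M := by
    intro a
    constructor
    · rintro ⟨b, hb, he⟩
      have h := hHM (QuotientGroup.eq.mp he)
      simpa using M.mul_mem hb h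
    · intro h; exact ⟨a, h, rfl⟩
  have hcard : Nat.card S = H.relIndex M := by
    rw [Subgroup.relIndex, Subgroup.index]
    refine Nat.card_congr (Equiv.ofBijective
      (fun q => Quotient.liftOn' q (fun a : M => (⟨QuotientGroup.mk (a : G), (hmem _).mpr a.2⟩ : S))
        fun a b hab => Subtype.ext (QuotientGroup.eq.mpr (by
          simpa [Subgroup.mem_subgroupOf] using QuotientGroup.leftRel_apply.mp hab))) ⟨?_, ?_⟩).symm
    · intro q q'
      induction q using QuotientGroup.induction_on
      induction q' using QuotientGroup.induction_on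
      intro h
      exact QuotientGroup.eq.mpr (by
        simpa [Subgroup.mem_subgroupOf] using QuotientGroup.eq.mp (congrArg Subtype.val h))
    · rintro ⟨_, a, ha, rfl⟩
      exact ⟨QuotientGroup.mk ⟨a, ha⟩, rfl⟩
  have hclass : ∀ i i' : Fin t.N, field 8 o.label i = field 8 o.label i' → P i ∈ S → P i' ∈ S := by
    intro i i' he hi
    have hj : field 8 o.label i < k :=
      blt_lt (allRange_spec 64 0 t.N hlabel i (Nat.zero_le _) (by simp))
    obtain ⟨hr, hlab⟩ := hroots _ hj
    have horb := Suborbits.orbit_eq_image c o ho hH _ hr hlab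
    have h1 : P i ∈ MulAction.orbit H (P ⟨_, hr⟩) := horb ▸ ⟨i, rfl, rfl⟩
    have h2 : P i' ∈ MulAction.orbit H (P ⟨_, hr⟩) := horb ▸ ⟨i', he.symm, rfl⟩
    rw [← MulAction.orbit_eq_iff.mpr h1] at h2
    obtain ⟨⟨a, ha⟩, hae⟩ := h2
    obtain ⟨b, hb, hbe⟩ := hi
    refine ⟨a * b, M.mul_mem (hHM ha) hb, ?_⟩
    rw [← hae, ← hbe]
    rfl
  set J : Finset ℕ := (Finset.range k).filter fun j =>
    ∃ i : Fin t.N, field 8 o.label i = j ∧ P i ∈ S with hJ
  have hcount : Nat.card S = ∑ j ∈ J, o.count j 17 0 t.N := by
    set T : Finset (Fin t.N) := Finset.univ.filter fun i => P i ∈ S with hT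
    have hT' : Nat.card S = T.card := by
      rw [Nat.card_coe_set_eq, ← Set.ncard_coe_finset T, ← Set.ncard_image_of_injective _ hbij.1]
      congr 1
      ext q
      constructor
      · intro hq
        obtain ⟨i, rfl⟩ := hbij.2 q
        exact ⟨i, by simpa [hT] using hq, rfl⟩
      · rintro ⟨i, hi, rfl⟩
        simpa [hT] using hi
    rw [hT', Finset.card_eq_sum_card_fiberwise (f := fun i : Fin t.N => field 8 o.label i) (t := J)
      (fun i hi => by
        simp only [hJ, Finset.coe_filter, Finset.mem_range, Set.mem_setOf_eq]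
        exact ⟨blt_lt (allRange_spec 64 0 t.N hlabel i (Nat.zero_le _) (by simp)), i, rfl,
          by simpa [hT] using hi⟩)]
    refine Finset.sum_congr rfl fun j hj => ?_
    rw [Suborbits.count_spec o j 16 0 t.N hN]
    simp only [hJ, Finset.mem_filter] at hj
    obtain ⟨i₀, hi₀, hi₀S⟩ := hj.2
    refine Finset.card_bij (fun i _ => (i : ℕ)) ?_ (fun a _ b _ h => Fin.ext h) ?_
    · intro i hi
      simp only [Finset.mem_filter] at hi ⊢
      simp [hi.2]
    · intro n hn
      simp only [Finset.mem_filter, Finset.mem_Ico, Nat.zero_add] at hn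
      exact ⟨⟨n, hn.1.2⟩, by simp [hT, hn.2, hclass i₀ ⟨n, hn.1.2⟩ (hi₀.trans hn.2.symm) hi₀S], rfl⟩
  have hdvd : Nat.card S ∣ t.N := by
    rw [hcard, ← Table.index_eq c]
    exact H.relIndex_dvd_index_of_le hHM
  -- the sublist of sizes
  obtain ⟨s, ss, rfl⟩ : ∃ s ss, sizes = s :: ss := by
    cases sizes with
    | nil => simp [divOK] at hdiv
    | cons s ss => exact ⟨s, ss, rfl⟩
  simp only [divOK, Bool.and_eq_true, beq_iff_eq, List.all_eq_true, List.mem_sublists] at hdiv
  obtain ⟨k, rfl⟩ : ∃ k', k = k' + 1 := ⟨ss.length, by simpa using hlen.symm⟩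
  rw [List.range_succ_eq_map, List.map_cons, List.map_map, List.cons.injEq] at hsizes
  have h0S : P ⟨0, c.pos⟩ ∈ S := by
    rw [hP, Table.coset_zero c]
    exact (hmem 1).mpr M.one_mem
  have hlab0 : field 8 o.label 0 = 0 := by
    have := (hroots 0 (Nat.succ_pos _)).2
    rwa [hroot0] at this
  have h0J : 0 ∈ J := by
    simp only [hJ, Finset.mem_filter, Finset.mem_range]
    exact ⟨Nat.succ_pos _, ⟨0, c.pos⟩, hlab0, h0S⟩
  set A := (List.range k).filter fun j => decide (j + 1 ∈ J) with hA
  have hsum : ∑ j ∈ J, o.count j 17 0 t.N = 1 + (A.map fun j => o.count (j + 1) 17 0 t.N).sum := by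
    rw [← Finset.insert_erase h0J, Finset.sum_insert (Finset.notMem_erase 0 J), hsizes.1, hdiv.1]
    congr 1
    rw [← List.sum_toFinset _ ((List.nodup_range).filter _)]
    refine Finset.sum_nbij' (fun j => j - 1) (fun j => j + 1) ?_ ?_ ?_ ?_ ?_
    · intro j hj
      simp only [Finset.mem_erase] at hj
      simp only [hA, List.mem_toFinset, List.mem_filter, List.mem_range, decide_eq_true_eq]
      have : j < k + 1 := Finset.mem_range.mp (Finset.mem_filter.mp hj.2).1
      exact ⟨by omega, by rw [Nat.sub_add_cancel (Nat.pos_of_ne_zero hj.1)]; exact hj.2⟩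
    · intro j hj
      simp only [hA, List.mem_toFinset, List.mem_filter, List.mem_range, decide_eq_true_eq] at hj
      simp [hj.2]
    · intro j hj
      simp only [Finset.mem_erase] at hj
      omega
    · intro j _; omega
    · intro j hj
      simp only [Finset.mem_erase] at hj
      rw [Nat.sub_add_cancel (Nat.pos_of_ne_zero hj.1)]
  have hsub : (A.map fun j => o.count (j + 1) 17 0 t.N).Sublist ss := by
    rw [← hsizes.2]
    exact (List.filter_sublist).map _
  have key := hdiv.2 _ hsub
  simp only [Bool.or_eq_true, beq_iff_eq, bne_iff_ne, ne_eq, List.length_map] at key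
  rw [hcount, hsum] at hdvd
  rcases key with (hA0 | hAk) | h
  · left
    refine le_antisymm (fun a ha => ?_) hHM
    have hS1 : Nat.card S = 1 := by
      rw [hcount, hsum, List.eq_nil_of_length_eq_zero hA0]; rfl
    haveI := (Nat.card_eq_one_iff_unique.mp hS1).1
    have := Subsingleton.elim (⟨_, (hmem a).mpr ha⟩ : S) ⟨_, (hmem 1).mpr M.one_mem⟩
    have h := QuotientGroup.eq.mp (congrArg Subtype.val this).symm
    simpa using h
  · right
    rw [← hsizes.2, List.length_map, List.length_range] at hAk
    have hall : ∀ j, j < k → j + 1 ∈ J := by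
      have h := List.length_filter_eq_length_iff.mp (hA ▸ hAk.trans List.length_range.symm)
      intro j hj
      simpa using h j (List.mem_range.mpr hj)
    rw [eq_top_iff]
    intro a _
    obtain ⟨i, hi⟩ := hbij.2 (QuotientGroup.mk a)
    rw [← hmem, ← hi]
    have hlt := blt_lt (allRange_spec 64 0 t.N hlabel i (Nat.zero_le _) (by simp))
    have hjJ : field 8 o.label i ∈ J := by
      rcases Nat.eq_zero_or_pos (field 8 o.label i) with h | h
      · rw [h]; exact h0J
      · have := hall (field 8 o.label i - 1) (by omega)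
        rwa [Nat.sub_add_cancel h] at this
    simp only [hJ, Finset.mem_filter] at hjJ
    obtain ⟨i₀, hi₀, hi₀S⟩ := hjJ.2
    exact hclass i₀ i hi₀ hi₀S
  · exact absurd (Nat.mod_eq_zero_of_dvd hdvd) h

theorem transversal_fix (c : Table.Certified g H t d)
    (φ : G →* Equiv.Perm (Fin t.N)) (hφ : ∀ x, φ (g x) = t.permOf c.invol x) (a : G) (i : Fin t.N) :
    Table.coset g H t d (φ a i) = a • Table.coset g H t d i := by
  have key : ∀ a ∈ Subgroup.closure (Set.range g),
      ∀ i, Table.coset g H t d (φ a i) = a • Table.coset g H t d i := by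
    intro a ha
    induction ha using Subgroup.closure_induction with
    | mem a ha =>
      obtain ⟨x, rfl⟩ := ha
      intro i
      rw [hφ, Table.smul_coset c]
    | one => intro i; rw [map_one, one_smul]; rfl
    | mul a b _ _ iha ihb => intro i; rw [map_mul, Equiv.Perm.mul_apply, iha, ihb, mul_smul]
    | inv a _ iha =>
      intro i
      rw [eq_inv_smul_iff, ← iha, map_inv, ← Equiv.Perm.mul_apply, mul_inv_cancel, Equiv.Perm.one_apply]
  exact key a (c.gen ▸ Subgroup.mem_top a) i

/-- Simplicity from a maximal core-free point stabilizer and a killing relator. -/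
theorem isSimpleGroup_of_certs (c : Table.Certified g H t d) (hmax : ∀ M, H ≤ M → M = H ∨ M = ⊤)
    (φ : G →* Equiv.Perm (Fin t.N)) (hφ : ∀ x, φ (g x) = t.permOf c.invol x)
    (hinj : Function.Injective φ) (hN1 : 1 < t.N)
    {p e m : ℕ} (hp : p.Prime) (hcardG : Nat.card G = p ^ e * m) (hm : ¬ p ∣ m)
    (hdeg : p ^ e ∣ t.N) (w : List ℕ) (hwp : t.chkWord (List.replicate p w).flatten = true)
    (hkill : ∀ N : Subgroup G, ∀ _ : N.Normal, (w.map g).prod ∈ N → N = ⊤) :
    IsSimpleGroup G := by
  have hbij := Table.coset_bijective c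
  have hindex := Table.index_eq c
  haveI : Nontrivial G := by
    rw [← Finite.one_lt_card_iff_nontrivial]
    exact lt_of_lt_of_le hN1 (hindex ▸ Nat.le_of_dvd Nat.card_pos H.index_dvd_card)
  refine ⟨fun N hN => ?_⟩
  by_cases hNbot : N = ⊥
  · exact Or.inl hNbot
  right
  rcases hmax (N ⊔ H) le_sup_right with h | h
  · exfalso
    refine hNbot ((Subgroup.eq_bot_iff_forall N).mpr fun a ha => hinj ?_)
    rw [map_one]
    refine Equiv.ext fun i => hbij.1 ?_
    rw [Equiv.Perm.coe_one, id_eq, transversal_fix c φ hφ]
    obtain ⟨b, hb⟩ := QuotientGroup.mk_surjective (Table.coset g H t d i)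
    rw [← hb]
    show (QuotientGroup.mk (a * b) : G ⧸ H) = _
    rw [QuotientGroup.eq]
    have h1 : b⁻¹ * a⁻¹ * b ∈ N := by
      simpa using hN.conj_mem _ (N.inv_mem ha) b⁻¹
    have h2 : b⁻¹ * a⁻¹ * b ∈ H := by
      rw [← h]; exact Subgroup.mem_sup_left h1
    simpa [mul_assoc] using h2
  · have hdvd : t.N ∣ Nat.card N := by
      rw [← hindex, ← Subgroup.relIndex_top_right H, ← h]
      have h1 : Nat.card H * H.relIndex (N ⊔ H) = Nat.card (N ⊔ H : Subgroup G) := by
        rw [← Subgroup.relIndex_bot_left H, ← Subgroup.relIndex_bot_left (N ⊔ H),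
          Subgroup.relIndex_mul_relIndex _ _ _ bot_le le_sup_right]
      have h2 : Nat.card N * N.relIndex H = Nat.card (N ⊔ H : Subgroup G) := by
        rw [← Subgroup.relIndex_sup_left (H := H), ← Subgroup.relIndex_bot_left N,
          ← Subgroup.relIndex_bot_left (N ⊔ H),
          Subgroup.relIndex_mul_relIndex _ _ _ bot_le le_sup_left]
      obtain ⟨r, hr⟩ := N.relIndex_dvd_card H
      refine Dvd.intro_left r ?_
      have hpos : 0 < N.relIndex H := Nat.pos_of_ne_zero fun h0 => by
        rw [h0, Nat.zero_mul] at hr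
        exact Nat.card_pos.ne' hr
      apply Nat.eq_of_mul_eq_mul_left hpos
      rw [mul_comm (N.relIndex H) (Nat.card N), h2, ← h1, hr]
      ring
    refine hkill N hN ?_
    have hN' : ¬ p ∣ N.index := by
      intro hd
      obtain ⟨q, hq⟩ := hdeg.trans hdvd
      obtain ⟨r, hr⟩ := hd
      have := Subgroup.card_mul_index N
      rw [hq, hr, hcardG] at this
      have h3 : p ^ e * m = p ^ e * (p * (q * r)) := by rw [← this]; ring
      exact hm ⟨_, Nat.eq_of_mul_eq_mul_left (pow_pos hp.pos e) h3⟩
    set x := (w.map g).prod with hx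
    have hxp : x ^ p = 1 := by
      apply hinj
      rw [map_one, hx, ← List.prod_replicate, map_list_prod]
      have e1 := Table.prod_permOf t c.invol hwp
      rw [List.map_flatten, List.map_replicate, List.prod_flatten, List.map_replicate] at e1
      rw [List.map_replicate, map_list_prod, List.map_map,
        show (w.map (φ ∘ g)) = w.map (t.permOf c.invol) from List.map_congr_left fun y _ => hφ y]
      exact e1
    rw [← QuotientGroup.eq_one_iff]
    have h1 : (QuotientGroup.mk x : G ⧸ N) ^ p = 1 := by
      rw [← QuotientGroup.mk_pow, hxp, QuotientGroup.mk_one]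
    refine orderOf_eq_one_iff.mp (Nat.eq_one_of_dvd_coprimes
      ((hp.coprime_iff_not_dvd).mpr hN') (orderOf_dvd_of_pow_eq_one h1) ?_)
    exact Subgroup.index_eq_card N ▸ orderOf_dvd_natCard _

/-- A group killed by a certificate with one coset. -/
theorem eq_top_of_covers {N : Subgroup G} [N.Normal] {t' : CoverData} {d' : Data}
    (hsubs : d'.subs = []) (h1 : t'.N = 1)
    (c : Covers (fun x => (QuotientGroup.mk (g x) : G ⧸ N))
      (wordClosure (fun x => (QuotientGroup.mk (g x) : G ⧸ N)) d'.subs) t' d') : N = ⊤ := by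
  have h := c.index_le
  rw [hsubs, h1] at h
  have hb : wordClosure (fun x => (QuotientGroup.mk (g x) : G ⧸ N)) [] = ⊥ := by
    simp [wordClosure]
  rw [hb, Subgroup.index_bot] at h
  rw [← Subgroup.index_eq_one, Subgroup.index]
  exact le_antisymm h Nat.card_pos

theorem gen_quotient (hgen : Subgroup.closure (Set.range g) = ⊤) (N : Subgroup G) [N.Normal] :
    Subgroup.closure (Set.range fun x => (QuotientGroup.mk (g x) : G ⧸ N)) = ⊤ := by
  have h := congrArg (Subgroup.map (QuotientGroup.mk' N)) hgen
  rw [MonoidHom.map_closure, Subgroup.map_top_of_surjective _ (QuotientGroup.mk'_surjective N),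
    ← Set.range_comp] at h
  exact h

theorem holding_quotient {base : List (List ℕ)} {ngen : ℕ} (hg : ∀ x, g x * g x = 1)
    (hjunk : ∀ x, ngen ≤ x → g x = 1) {rels : List (List ℕ)}
    (hrel : ∀ r ∈ rels, (r.map g).prod = 1) (w : List ℕ) (N : Subgroup G) [N.Normal]
    (hw : (w.map g).prod ∈ N) (hbase : base.all (fun r => r ∈ w :: rels ∨ r = []) = true) :
    Holding (fun x => (QuotientGroup.mk (g x) : G ⧸ N)) ngen base where
  invol x := by rw [← QuotientGroup.mk_mul, hg, QuotientGroup.mk_one]
  junk x hx := by rw [hjunk x hx, QuotientGroup.mk_one]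
  base r hr := by
    have h1 := List.all_eq_true.mp hbase r hr
    simp only [decide_eq_true_eq, List.mem_cons] at h1
    have e : (r.map fun x => (QuotientGroup.mk (g x) : G ⧸ N)).prod =
        QuotientGroup.mk' N (r.map g).prod := by
      rw [map_list_prod, List.map_map]; rfl
    rw [e]
    rcases h1 with (rfl | h1) | rfl
    · exact (QuotientGroup.eq_one_iff _).mpr hw
    · rw [hrel r h1, map_one]
    · simp

end Simple

end Cfsg.Agent.Enum
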