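import Mathlib
import Cfsg.Agent.Lib.Enum.Bound

/-!
# Permutation actions of high degree, stored in trees of packed blocks

The image tables are given as functions (nested case distinctions over packed blocks), and the checks
can be split in ranges.
-/

set_option autoImplicit false

namespace Cfsg.Agent.Enum.Big

open Cfsg.Agent.Enum
open Cfsg.Agent.Enum.Table (beq_eq blt_lt)

/-- `p` holds below `n`. -/
def Below (p : ℕ → Bool) (n : ℕ) : Prop := ∀ i, i < n → p i = true

theorem below_zero (p : ℕ → Bool) : Below p 0 := fun i hi => absurd hi (Nat.not_lt_zero i)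

theorem below_step {p : ℕ → Bool} {a b len : ℕ} (h : allRange p 64 a len = true) (hb : b = a + len)
    (hu : Below p a) : Below p b := by
  subst hb
  intro i hi
  rcases Nat.lt_or_ge i a with h' | h'
  · exact hu i h'
  · exact allRange_spec 64 a len h i h' hi

/-- An action by involutions on `0, …, N - 1`. -/
structure Perms where
  /-- the degree -/
  N : ℕ
  /-- the number of generators -/
  ngen : ℕ
  /-- image of a point under a generator -/
  img : ℕ → ℕ → ℕ

namespace Perms

/-- Image of a point under a word, first letter first. -/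
def imgWord (t : Perms) : List ℕ → ℕ → ℕ
  | [], i => i
  | x :: w, i => t.imgWord w (t.img x i)

/-- Check that generator `x` is an involution at a point. -/
def chkInv (t : Perms) (x i : ℕ) : Bool :=
  Nat.blt (t.img x i) t.N && Nat.beq (t.img x (t.img x i)) i

/-- Check that some words fix a point. -/
def chkFix (t : Perms) (ws : List (List ℕ)) (i : ℕ) : Bool :=
  ws.all fun w => Nat.beq (t.imgWord w i) i

/-- All generators are involutions. -/
def Invol (t : Perms) : Prop := ∀ x i, i < t.N → t.img x i < t.N ∧ t.img x (t.img x i) = i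

theorem invol_of_below {t : Perms} (h : ∀ x, x < t.ngen → Below (t.chkInv x) t.N)
    (hj : ∀ x, t.ngen ≤ x → ∀ i, t.img x i = i) : t.Invol := by
  intro x i hi
  rcases Nat.lt_or_ge x t.ngen with hx | hx
  · have := h x hx i hi
    simp only [chkInv, Bool.and_eq_true] at this
    exact ⟨blt_lt this.1, beq_eq this.2⟩
  · simp [hj x hx, hi]

theorem imgWord_rev {t : Perms} (h : t.Invol) :
    ∀ (w : List ℕ) {i : ℕ}, i < t.N → t.imgWord w.reverse (t.imgWord w i) = i := by
  intro w
  induction w with
  | nil => intro i _; rfl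
  | cons x w ih =>
    intro i hi
    have happ : ∀ (u : List ℕ) (j : ℕ), t.imgWord (u ++ [x]) j = t.img x (t.imgWord u j) := by
      intro u
      induction u with
      | nil => intro j; rfl
      | cons y u ihu => intro j; exact ihu _
    rw [List.reverse_cons, happ]
    show t.img x (t.imgWord w.reverse (t.imgWord w (t.img x i))) = i
    rw [ih (h x i hi).1]
    exact (h x i hi).2

/-- All relators fix everything, from half of the pair relators. -/
theorem fix_of_half {t : Perms} (h : t.Invol) {rels half : List (List ℕ)}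
    (hb : Below (t.chkFix half) t.N)
    (hcov : rels.all (fun w => half.contains w || half.contains w.reverse ||
      (w.length == 2 && w.head? == w.getLast?) || w.isEmpty) = true) :
    ∀ w ∈ rels, ∀ i, i < t.N → t.imgWord w i = i := by
  intro w hw i hi
  have hfix : ∀ v ∈ half, ∀ j, j < t.N → t.imgWord v j = j := fun v hv j hj =>
    beq_eq (List.all_eq_true.mp (hb j hj) v hv)
  have hc := List.all_eq_true.mp hcov w hw
  simp only [Bool.or_eq_true, List.contains_iff_mem, Bool.and_eq_true, beq_iff_eq,
    List.isEmpty_iff] at hc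
  rcases hc with ((h1 | h1) | ⟨hl, he⟩) | rfl
  · exact hfix w h1 i hi
  · have := imgWord_rev h w.reverse hi
    rwa [List.reverse_reverse, hfix _ h1 i hi] at this
  · match w, hl, he with
    | [x, y], _, he =>
      obtain rfl : x = y := by simpa using he
      exact (h x i hi).2
  · rfl

theorem imgWord_lt {t : Perms} (h : t.Invol) :
    ∀ (w : List ℕ) {i : ℕ}, i < t.N → t.imgWord w i < t.N
  | [], _, hi => hi
  | x :: w, i, hi => imgWord_lt h w (h x i hi).1

/-- The permutation of a letter. -/
def permOf (t : Perms) (h : t.Invol) (x : ℕ) : Equiv.Perm (Fin t.N) where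
  toFun i := ⟨t.img x i, (h x i i.2).1⟩
  invFun i := ⟨t.img x i, (h x i i.2).1⟩
  left_inv i := Fin.ext (h x i i.2).2
  right_inv i := Fin.ext (h x i i.2).2

theorem permOf_mul_self (t : Perms) (h : t.Invol) (x : ℕ) : t.permOf h x * t.permOf h x = 1 :=
  Equiv.ext fun i => Fin.ext (h x i i.2).2

variable {G : Type*} [Group G] {g : ℕ → G} {t : Perms}

theorem map_word (h : t.Invol) (φ : G →* Equiv.Perm (Fin t.N))
    (hφ : ∀ x, φ (g x) = t.permOf h x) (w : List ℕ) (i : Fin t.N) :
    φ ((w.map g).reverse.prod) i = ⟨t.imgWord w i, imgWord_lt h w i.2⟩ := by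
  induction w generalizing i with
  | nil => simp only [List.map_nil, List.reverse_nil, List.prod_nil, map_one]; rfl
  | cons x w ih =>
    rw [List.map_cons, List.reverse_cons, List.prod_append, List.prod_singleton, map_mul,
      Equiv.Perm.mul_apply, hφ, ih]
    rfl

theorem word_eq_one (h : t.Invol) (φ : G →* Equiv.Perm (Fin t.N))
    (hφ : ∀ x, φ (g x) = t.permOf h x) (hg : ∀ x, g x * g x = 1) (w : List ℕ)
    (hw : ∀ i, i < t.N → t.imgWord w i = i) : φ (w.map g).prod = 1 := by
  rw [← inv_eq_one, ← map_inv, ← Data.reverse_prod g hg]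
  exact Equiv.ext fun i => (map_word h φ hφ w i).trans (Fin.ext (hw i i.2))

end Perms

/-- The representation of a presented group. -/
theorem exists_hom {α : Type} [DecidableEq α] (P : Pres α) (t : Perms) (hinv : t.Invol)
    (hj : ∀ x, P.gens.length ≤ x → ∀ i, t.img x i = i)
    (hwords : ∀ w ∈ P.relWords, ∀ i, i < t.N → t.imgWord w i = i) :
    ∃ φ : P.Grp →* Equiv.Perm (Fin t.N), ∀ x, φ (P.g x) = t.permOf hinv x := by
  have hjunk : ∀ x, P.gens.length ≤ x → t.permOf hinv x = 1 := fun x hx =>
    Equiv.ext fun i => Fin.ext (hj x hx i)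
  let f : α → Equiv.Perm (Fin t.N) := fun a => t.permOf hinv (P.gens.idxOf a)
  have hf : ∀ a, f a * f a = 1 := fun a => t.permOf_mul_self hinv _
  have hext : ∀ x, P.ext f x = t.permOf hinv x := by
    intro x
    rcases Nat.lt_or_ge x P.gens.length with hx | hx
    · simp [Pres.ext, f, List.getElem?_eq_getElem hx, P.nodup.idxOf_getElem x hx]
    · simp [Pres.ext, List.getElem?_eq_none hx, hjunk x hx]
  have hword : ∀ (w : List ℕ) (i : Fin t.N), ((w.map (t.permOf hinv)).reverse.prod) i =
      ⟨t.imgWord w i, Perms.imgWord_lt hinv w i.2⟩ := fun w i =>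
    Perms.map_word (G := Equiv.Perm (Fin t.N)) hinv (MonoidHom.id _) (fun _ => rfl) w i
  have hr : ∀ r ∈ P.relSet, FreeGroup.lift f r = 1 := (P.rels_iff f hf).mpr fun w hw => by
    rw [show (w.map (P.ext f)) = w.map (t.permOf hinv) from List.map_congr_left fun x _ => hext x]
    exact Perms.word_eq_one (G := Equiv.Perm (Fin t.N)) hinv (MonoidHom.id _) (fun _ => rfl)
      (t.permOf_mul_self hinv) w (hwords w hw)
  refine ⟨PresentedGroup.toGroup hr, fun x => ?_⟩
  rcases Nat.lt_or_ge x P.gens.length with hx | hx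
  · rw [← hext x]
    simp [Pres.g, Pres.ext, List.getElem?_eq_getElem hx]
  · rw [P.g_junk x hx, map_one, hjunk x hx]

/-- An orbit of the pointwise stabilizer of `fixed`. -/
structure Level where
  /-- points fixed by the words -/
  fixed : List ℕ
  /-- the point moved -/
  base : ℕ
  /-- words fixing the points `fixed` -/
  words : List (List ℕ)
  /-- number of orbit points -/
  n : ℕ
  /-- the orbit points -/
  pts : ℕ → ℕ
  /-- position of each orbit point -/
  pos : ℕ → ℕ
  /-- word number and position of the predecessor: `word + 2^6 * position` -/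
  prev : ℕ → ℕ

namespace Level

/-- Check a point of a level. -/
def chkPt (t : Perms) (l : Level) (i : ℕ) : Bool :=
  Nat.beq (l.pos (l.pts i)) i &&
    (Nat.beq i 0 ||
      (let e := l.prev i
       match l.words[e % 2 ^ 6]? with
       | none => false
       | some w => Nat.blt (e / 2 ^ 6) i &&
          Nat.beq (t.imgWord w (l.pts (e / 2 ^ 6))) (l.pts i)))

/-- Check the data of a level which do not depend on the point. -/
def chkHead (t : Perms) (l : Level) : Bool :=
  l.words.all (fun w => l.fixed.all fun p => Nat.beq (t.imgWord w p) p) &&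
    Nat.beq (l.pts 0) l.base && Nat.blt l.base t.N

/-- A checked level. -/
structure OK (t : Perms) (l : Level) : Prop where
  head : l.chkHead t = true
  pts : Below (l.chkPt t) l.n

variable {G : Type*} [Group G] {g : ℕ → G} {t : Perms}

/-- The elements fixing the listed points. -/
def fixer (φ : G →* Equiv.Perm (Fin t.N)) (ps : List ℕ) : Subgroup G where
  carrier := {a | ∀ p ∈ ps, ∀ h : p < t.N, φ a ⟨p, h⟩ = ⟨p, h⟩}
  one_mem' := fun p _ h => by rw [map_one]; rfl
  mul_mem' := fun {a b} ha hb p hp h => by rw [map_mul, Equiv.Perm.mul_apply, hb p hp h, ha p hp h]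
  inv_mem' := fun {a} ha p hp h => by rw [map_inv, Equiv.Perm.inv_eq_iff_eq, ha p hp h]

theorem OK.base_lt {l : Level} (hl : l.OK t) : l.base < t.N := by
  have := hl.head
  simp only [chkHead, Bool.and_eq_true] at this
  exact blt_lt this.2

/-- The listed points are in the orbit. -/
theorem OK.reach {l : Level} (hl : l.OK t) (hinv : t.Invol) (φ : G →* Equiv.Perm (Fin t.N))
    (hφ : ∀ x, φ (g x) = t.permOf hinv x) (i : ℕ) (hi : i < l.n) :
    ∃ u : G, u ∈ fixer φ l.fixed ∧ (φ u ⟨l.base, hl.base_lt⟩ : ℕ) = l.pts i := by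
  have hh := hl.head
  simp only [chkHead, Bool.and_eq_true, List.all_eq_true] at hh
  obtain ⟨⟨hw, h0⟩, -⟩ := hh
  induction i using Nat.strong_induction_on with
  | _ i ih =>
    have h := hl.pts i hi
    simp only [chkPt, Bool.and_eq_true, Bool.or_eq_true] at h
    rcases h.2 with h1 | h1
    · refine ⟨1, one_mem _, ?_⟩
      rw [beq_eq h1, map_one, beq_eq h0]
      rfl
    · generalize he : l.prev i = e at h1
      cases hwd : l.words[e % 2 ^ 6]? with
      | none => rw [hwd] at h1; simp at h1
      | some w =>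
        rw [hwd] at h1
        simp only [Bool.and_eq_true] at h1
        obtain ⟨u, hu, hue⟩ := ih _ (blt_lt h1.1) ((blt_lt h1.1).trans hi)
        refine ⟨(w.map g).reverse.prod * u, mul_mem ?_ hu, ?_⟩
        · intro p hp h
          rw [Perms.map_word hinv φ hφ]
          exact Fin.ext (beq_eq (hw w (List.mem_of_getElem? hwd) p hp))
        · rw [map_mul, Equiv.Perm.mul_apply, Perms.map_word hinv φ hφ]
          show t.imgWord w _ = _
          rw [hue, beq_eq h1.2]

/-- The listed points are distinct. -/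
theorem OK.pts_inj {l : Level} (hl : l.OK t) {i j : ℕ} (hi : i < l.n) (hj : j < l.n)
    (h : l.pts i = l.pts j) : i = j := by
  have h1 := hl.pts i hi
  have h2 := hl.pts j hj
  simp only [chkPt, Bool.and_eq_true] at h1 h2
  rw [← beq_eq h1.1, ← beq_eq h2.1, h]

theorem OK.mul_card_le [Finite G] {l : Level} (hl : l.OK t) (hinv : t.Invol)
    (φ : G →* Equiv.Perm (Fin t.N)) (hφ : ∀ x, φ (g x) = t.permOf hinv x) :
    l.n * Nat.card (fixer φ (l.base :: l.fixed)) ≤ Nat.card (fixer φ l.fixed) := by
  choose u hu hue using hl.reach hinv φ hφ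
  let F : Fin l.n × fixer φ (l.base :: l.fixed) → fixer φ l.fixed := fun z =>
    ⟨u z.1 z.1.2 * z.2, mul_mem (hu _ _) fun p hp h => z.2.2 p (List.mem_cons_of_mem _ hp) h⟩
  have hF : Function.Injective F := by
    rintro ⟨i, a⟩ ⟨j, b⟩ hab
    have hab' : u i i.2 * (a : G) = u j j.2 * b := congrArg Subtype.val hab
    have himg := congrArg (fun c => (φ c ⟨l.base, hl.base_lt⟩ : ℕ)) hab'
    simp only [map_mul, Equiv.Perm.mul_apply, a.2 l.base (List.mem_cons_self ..) hl.base_lt,
      b.2 l.base (List.mem_cons_self ..) hl.base_lt, hue] at himg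
    have hij : i = j := Fin.ext (hl.pts_inj i.2 j.2 himg)
    subst hij
    exact Prod.ext rfl (Subtype.ext (mul_left_cancel hab'))
  have := Nat.card_le_card_of_injective F hF
  rwa [Nat.card_prod, Nat.card_fin] at this

/-- A list of levels for the points fixed so far. -/
def chain : List ℕ → List Level → Bool
  | _, [] => true
  | ps, l :: ls => l.fixed == ps && chain (l.base :: ps) ls

theorem prod_le [Finite G] (hinv : t.Invol) (φ : G →* Equiv.Perm (Fin t.N))
    (hφ : ∀ x, φ (g x) = t.permOf hinv x) :
    ∀ (ps : List ℕ) (ls : List Level), chain ps ls = true → (∀ l ∈ ls, l.OK t) →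
      (ls.map Level.n).prod ≤ Nat.card (fixer φ ps)
  | ps, [], _, _ => by simpa using Nat.one_le_iff_ne_zero.mpr Nat.card_pos.ne'
  | ps, l :: ls, hc, hall => by
    simp only [chain, Bool.and_eq_true, beq_iff_eq] at hc
    have h1 := prod_le hinv φ hφ (l.base :: ps) ls hc.2 fun l' h => hall l' (List.mem_cons_of_mem _ h)
    have h2 := (hall l (List.mem_cons_self ..)).mul_card_le hinv φ hφ
    rw [hc.1] at h2
    rw [List.map_cons, List.prod_cons]
    exact (Nat.mul_le_mul_left _ h1).trans h2

end Level

/-- Equality of the order and faithfulness from matching bounds. -/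
theorem card_eq_and_injective {G : Type*} [Group G] [Finite G] {g : ℕ → G} {t : Perms}
    (hinv : t.Invol) (φ : G →* Equiv.Perm (Fin t.N))
    (hφ : ∀ x, φ (g x) = t.permOf hinv x) {ls : List Level} (hc : Level.chain [] ls = true)
    (hall : ∀ l ∈ ls, l.OK t) {n : ℕ} (hn : (ls.map Level.n).prod = n)
    (hle : Nat.card G ≤ n) : Nat.card G = n ∧ Function.Injective φ := by
  have h1 := Level.prod_le (G := φ.range) (g := fun x => φ.rangeRestrict (g x))
    hinv φ.range.subtype hφ [] ls hc hall
  rw [hn] at h1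
  have h2 : n ≤ Nat.card φ.range := h1.trans (Subgroup.card_le_card_group _)
  have h3 : Nat.card φ.range ≤ Nat.card G := Nat.card_le_card_of_surjective _ φ.rangeRestrict_surjective
  refine ⟨le_antisymm hle (h2.trans h3), ?_⟩
  have hb := (Nat.bijective_iff_surjective_and_card φ.rangeRestrict).mpr
    ⟨φ.rangeRestrict_surjective, le_antisymm (hle.trans h2) h3⟩
  exact fun a b h => hb.1 (Subtype.ext h)

/-! ### The point stabilizer -/

/-- A transitive action in which `H` fixes the point zero and has index at most the degree. -/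
structure IsCosetAction {G : Type*} [Group G] (H : Subgroup G) (N : ℕ)
    (φ : G →* Equiv.Perm (Fin N)) (z : Fin N) : Prop where
  finite : Finite (G ⧸ H)
  fix : ∀ a ∈ H, φ a z = z
  trans : ∀ i, ∃ a, φ a z = i
  le : H.index ≤ N

namespace IsCosetAction

variable {G : Type*} [Group G] {H : Subgroup G} {N : ℕ} {φ : G →* Equiv.Perm (Fin N)} {z : Fin N}

/-- The point of a coset. -/
def point (c : IsCosetAction H N φ z) : G ⧸ H → Fin N :=
  Quotient.lift (fun a => φ a z) fun a b hab => by
    have h := c.fix _ (QuotientGroup.leftRel_apply.mp hab)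
    show φ a z = φ b z
    conv_lhs => rw [← h]
    rw [← Equiv.Perm.mul_apply, ← map_mul, mul_inv_cancel_left]

theorem point_mk (c : IsCosetAction H N φ z) (a : G) : c.point (QuotientGroup.mk a) = φ a z := rfl

theorem point_smul (c : IsCosetAction H N φ z) (a : G) (q : G ⧸ H) :
    c.point (a • q) = φ a (c.point q) := by
  induction q using QuotientGroup.induction_on with
  | H b => show φ (a * b) z = _; rw [map_mul]; rfl

theorem point_bijective (c : IsCosetAction H N φ z) : Function.Bijective c.point := by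
  haveI := c.finite
  have hs : Function.Surjective c.point := fun i => by
    obtain ⟨a, ha⟩ := c.trans i
    exact ⟨QuotientGroup.mk a, ha⟩
  have h1 := Nat.card_le_card_of_surjective _ hs
  rw [Nat.card_fin] at h1
  exact (Nat.bijective_iff_surjective_and_card _).mpr
    ⟨hs, le_antisymm (by rw [Nat.card_fin]; exact c.le) (by rwa [Nat.card_fin])⟩

theorem index_eq (c : IsCosetAction H N φ z) : H.index = N := by
  rw [Subgroup.index, Nat.card_eq_of_bijective _ c.point_bijective, Nat.card_fin]

theorem mem_iff (c : IsCosetAction H N φ z) (a : G) : a ∈ H ↔ φ a z = z := by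
  refine ⟨c.fix a, fun h => ?_⟩
  have h' : c.point (QuotientGroup.mk a) = c.point (QuotientGroup.mk 1) := by
    rw [c.point_mk, c.point_mk, h, map_one]; rfl
  have := QuotientGroup.eq.mp (c.point_bijective.1 h')
  simpa using this

theorem orbit_ncard (c : IsCosetAction H N φ z) (q : G ⧸ H) :
    (MulAction.orbit H q).ncard = {j : Fin N | ∃ h ∈ H, φ h (c.point q) = j}.ncard := by
  rw [← Set.ncard_image_of_injective _ c.point_bijective.1]
  congr 1
  ext j
  constructor
  · rintro ⟨_, ⟨⟨h, hh⟩, rfl⟩, rfl⟩
    exact ⟨h, hh, (c.point_smul h q).symm⟩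
  · rintro ⟨h, hh, rfl⟩
    exact ⟨h • q, ⟨⟨h, hh⟩, rfl⟩, c.point_smul h q⟩

/-- The point set of an overgroup. -/
theorem card_overgroup (c : IsCosetAction H N φ z) {M : Subgroup G} (hM : H ≤ M) :
    {j : Fin N | ∃ m ∈ M, φ m z = j}.ncard = H.relIndex M := by
  rw [Subgroup.relIndex, Subgroup.index, ← Nat.card_coe_set_eq]
  refine (Nat.card_congr (Equiv.ofBijective
    (fun q => Quotient.liftOn' q
      (fun a : M => (⟨φ a z, a, a.2, rfl⟩ : {j : Fin N | ∃ m ∈ M, φ m z = j}))
      fun a b hab => Subtype.ext (by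
        have h := c.fix _ (Subgroup.mem_subgroupOf.mp (QuotientGroup.leftRel_apply.mp hab))
        show φ (a : G) z = φ (b : G) z
        conv_lhs => rw [← h]
        rw [← Equiv.Perm.mul_apply, ← map_mul]
        congr 2
        simp)) ⟨?_, ?_⟩)).symm
  · intro q q'
    induction q using QuotientGroup.induction_on
    induction q' using QuotientGroup.induction_on
    rename_i a b
    intro h
    have h' : φ (a : G) z = φ (b : G) z := congrArg Subtype.val h
    refine QuotientGroup.eq.mpr ?_
    rw [Subgroup.mem_subgroupOf, c.mem_iff]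
    push_cast
    rw [map_mul, map_inv, Equiv.Perm.mul_apply, Equiv.Perm.inv_eq_iff_eq]
    exact h'.symm
  · rintro ⟨_, a, ha, rfl⟩
    exact ⟨QuotientGroup.mk ⟨a, ha⟩, rfl⟩

/-- Primitivity from the three suborbits: `k` and `m` have no proper union with `z` of size dividing `N`. -/
theorem maximal_of_three (c : IsCosetAction H N φ z) (A B : Set (Fin N))
    (hpart : ∀ i, i = z ∨ i ∈ A ∨ i ∈ B) (hz : z ∉ A ∧ z ∉ B) (hAB : Disjoint A B)
    (hA : ∀ i ∈ A, ∀ j ∈ A, ∃ h ∈ H, φ h i = j) (hB : ∀ i ∈ B, ∀ j ∈ B, ∃ h ∈ H, φ h i = j)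
    (hdA : ¬ (1 + A.ncard) ∣ N) (hdB : ¬ (1 + B.ncard) ∣ N)
    (M : Subgroup G) (hM : H ≤ M) : M = H ∨ M = ⊤ := by
  classical
  set S : Set (Fin N) := {j | ∃ m ∈ M, φ m z = j} with hS
  have hclosed : ∀ (C : Set (Fin N)), (∀ i ∈ C, ∀ j ∈ C, ∃ h ∈ H, φ h i = j) →
      (∃ i ∈ C, i ∈ S) → C ⊆ S := by
    rintro C hC ⟨i, hiC, m, hm, rfl⟩ j hj
    obtain ⟨h, hh, rfl⟩ := hC _ hiC j hj
    exact ⟨h * m, M.mul_mem (hM hh) hm, by rw [map_mul]; rfl⟩
  have hzS : z ∈ S := ⟨1, M.one_mem, by rw [map_one]; rfl⟩
  have hdvd : S.ncard ∣ N := by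
    rw [c.card_overgroup hM]
    conv_rhs => rw [← c.index_eq]
    exact H.relIndex_dvd_index_of_le hM
  by_cases h1 : ∃ i ∈ A, i ∈ S <;> by_cases h2 : ∃ i ∈ B, i ∈ S
  · right
    rw [eq_top_iff]
    intro a _
    have : φ a z ∈ S := by
      rcases hpart (φ a z) with h | h | h
      · rw [h]; exact hzS
      · exact hclosed A hA h1 h
      · exact hclosed B hB h2 h
    obtain ⟨m, hm, he⟩ := this
    have : m⁻¹ * a ∈ H := (c.mem_iff _).mpr (by
      rw [map_mul, map_inv, Equiv.Perm.mul_apply, ← he, Equiv.Perm.inv_eq_iff_eq])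
    simpa using M.mul_mem hm (hM this)
  · exfalso
    refine hdA ?_
    have : S = insert z A := by
      ext j
      refine ⟨fun hj => ?_, ?_⟩
      · rcases hpart j with h | h | h
        · exact Or.inl h
        · exact Or.inr h
        · exact absurd ⟨j, h, hj⟩ h2
      · rintro (rfl | h)
        · exact hzS
        · exact hclosed A hA h1 h
    rw [this, Set.ncard_insert_of_notMem hz.1] at hdvd
    rwa [Nat.add_comm]
  · exfalso
    refine hdB ?_
    have : S = insert z B := by
      ext j
      refine ⟨fun hj => ?_, ?_⟩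
      · rcases hpart j with h | h | h
        · exact Or.inl h
        · exact absurd ⟨j, h, hj⟩ h1
        · exact Or.inr h
      · rintro (rfl | h)
        · exact hzS
        · exact hclosed B hB h2 h
    rw [this, Set.ncard_insert_of_notMem hz.2] at hdvd
    rwa [Nat.add_comm]
  · left
    refine le_antisymm (fun a ha => (c.mem_iff a).mpr ?_) hM
    have : φ a z ∈ S := ⟨a, ha, rfl⟩
    rcases hpart (φ a z) with h | h | h
    · exact h
    · exact absurd ⟨_, h, this⟩ h1
    · exact absurd ⟨_, h, this⟩ h2

/-- Simplicity from a maximal point stabilizer and a killing element. -/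
theorem isSimple (c : IsCosetAction H N φ z) [Finite G] (hmax : ∀ M, H ≤ M → M = H ∨ M = ⊤)
    (hinj : Function.Injective φ) (hN1 : 1 < N) {p e m : ℕ} (hp : p.Prime)
    (hcardG : Nat.card G = p ^ e * m) (hm : ¬ p ∣ m) (hdeg : p ^ e ∣ N) (x : G) (hxp : φ (x ^ p) = 1)
    (hkill : ∀ K : Subgroup G, ∀ _ : K.Normal, x ∈ K → K = ⊤) : IsSimpleGroup G := by
  haveI : Nontrivial G := by
    rw [← Finite.one_lt_card_iff_nontrivial]
    exact lt_of_lt_of_le hN1 (c.index_eq ▸ Nat.le_of_dvd Nat.card_pos H.index_dvd_card)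
  refine ⟨fun K hK => ?_⟩
  by_cases hKbot : K = ⊥
  · exact Or.inl hKbot
  right
  rcases hmax (K ⊔ H) le_sup_right with h | h
  · exfalso
    refine hKbot ((Subgroup.eq_bot_iff_forall K).mpr fun a ha => hinj ?_)
    rw [map_one]
    refine Equiv.ext fun i => ?_
    obtain ⟨b, rfl⟩ := c.trans i
    have h2 : b⁻¹ * a * b ∈ H := by
      rw [← h]
      exact Subgroup.mem_sup_left (by simpa using hK.conj_mem _ ha b⁻¹)
    have h3 := c.fix _ h2
    rw [map_mul, map_mul, map_inv, Equiv.Perm.mul_apply, Equiv.Perm.mul_apply,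
      Equiv.Perm.inv_eq_iff_eq] at h3
    simpa using h3
  · have hdvd : N ∣ Nat.card K := by
      rw [← c.index_eq, ← Subgroup.relIndex_top_right H, ← h]
      have h1 : Nat.card H * H.relIndex (K ⊔ H) = Nat.card (K ⊔ H : Subgroup G) := by
        rw [← Subgroup.relIndex_bot_left H, ← Subgroup.relIndex_bot_left (K ⊔ H),
          Subgroup.relIndex_mul_relIndex _ _ _ bot_le le_sup_right]
      have h2 : Nat.card K * K.relIndex H = Nat.card (K ⊔ H : Subgroup G) := by
        rw [← Subgroup.relIndex_sup_left (H := H), ← Subgroup.relIndex_bot_left K,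
          ← Subgroup.relIndex_bot_left (K ⊔ H),
          Subgroup.relIndex_mul_relIndex _ _ _ bot_le le_sup_left]
      obtain ⟨r, hr⟩ := K.relIndex_dvd_card H
      refine Dvd.intro_left r ?_
      have hpos : 0 < K.relIndex H := Nat.pos_of_ne_zero fun h0 => by
        rw [h0, Nat.zero_mul] at hr
        exact Nat.card_pos.ne' hr
      apply Nat.eq_of_mul_eq_mul_left hpos
      rw [mul_comm (K.relIndex H) (Nat.card K), h2, ← h1, hr]
      ring
    refine hkill K hK ?_
    have hK' : ¬ p ∣ K.index := by
      intro hd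
      obtain ⟨q, hq⟩ := hdeg.trans hdvd
      obtain ⟨r, hr⟩ := hd
      have := Subgroup.card_mul_index K
      rw [hq, hr, hcardG] at this
      have h3 : p ^ e * m = p ^ e * (p * (q * r)) := by rw [← this]; ring
      exact hm ⟨_, Nat.eq_of_mul_eq_mul_left (pow_pos hp.pos e) h3⟩
    have hx1 : x ^ p = 1 := hinj (by rw [hxp, map_one])
    rw [← QuotientGroup.eq_one_iff]
    have h1 : (QuotientGroup.mk x : G ⧸ K) ^ p = 1 := by
      rw [← QuotientGroup.mk_pow, hx1, QuotientGroup.mk_one]
    refine orderOf_eq_one_iff.mp (Nat.eq_one_of_dvd_coprimes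
      ((hp.coprime_iff_not_dvd).mpr hK') (orderOf_dvd_of_pow_eq_one h1) ?_)
    exact Subgroup.index_eq_card K ▸ orderOf_dvd_natCard _

end IsCosetAction

end Cfsg.Agent.Enum.Big
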