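import Cfsg.Agent.Lib.Enum.Big

/-!
# Elements are determined by the base points of a stabilizer chain
-/

set_option autoImplicit false

namespace Cfsg.Agent.Enum.Big

open Cfsg.Agent.Enum

variable {G : Type*} [Group G] {g : ℕ → G} {t : Perms}

theorem Level.prod_mul_le [Finite G] (hinv : t.Invol) (φ : G →* Equiv.Perm (Fin t.N))
    (hφ : ∀ x, φ (g x) = t.permOf hinv x) :
    ∀ (ps : List ℕ) (ls : List Level), Level.chain ps ls = true → (∀ l ∈ ls, l.OK t) →
      (ls.map Level.n).prod * Nat.card (Level.fixer φ ((ls.map Level.base).reverse ++ ps)) ≤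
        Nat.card (Level.fixer φ ps)
  | ps, [], _, _ => by simp
  | ps, l :: ls, hc, hall => by
    simp only [Level.chain, Bool.and_eq_true, beq_iff_eq] at hc
    have h1 := prod_mul_le hinv φ hφ (l.base :: ps) ls hc.2 fun l' h => hall l' (List.mem_cons_of_mem _ h)
    have h2 := (hall l (List.mem_cons_self ..)).mul_card_le hinv φ hφ
    rw [hc.1] at h2
    rw [List.map_cons, List.prod_cons, Nat.mul_assoc, List.map_cons, List.reverse_cons,
      List.append_assoc, List.singleton_append]
    exact (Nat.mul_le_mul_left _ h1).trans h2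

/-- An element fixing the base points of a full chain is trivial. -/
theorem eq_one_of_base [Finite G] (hinv : t.Invol) (φ : G →* Equiv.Perm (Fin t.N))
    (hφ : ∀ x, φ (g x) = t.permOf hinv x) {ls : List Level} (hc : Level.chain [] ls = true)
    (hall : ∀ l ∈ ls, l.OK t) {n : ℕ} (hn : (ls.map Level.n).prod = n) (hcard : Nat.card G = n)
    (a : G) (ha : ∀ p ∈ ls.map Level.base, ∀ h : p < t.N, φ a ⟨p, h⟩ = ⟨p, h⟩) : a = 1 := by
  have h1 := Level.prod_mul_le hinv φ hφ [] ls hc hall
  have h2 : Nat.card (Level.fixer φ []) ≤ Nat.card G := Subgroup.card_le_card_group _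
  rw [hn, List.append_nil] at h1
  rw [hcard] at h2
  set K := Level.fixer φ (ls.map Level.base).reverse with hK
  have hpos : 0 < n := hcard ▸ Nat.card_pos
  have h3 : Nat.card K = 1 := by
    have : n * Nat.card K ≤ n * 1 := by rw [Nat.mul_one]; exact h1.trans h2
    have := Nat.le_of_mul_le_mul_left this hpos
    have := Nat.card_pos (α := K)
    omega
  have hm : a ∈ K := fun p hp h => ha p (List.mem_reverse.mp hp) h
  haveI := (Nat.card_eq_one_iff_unique.mp h3).1
  exact congrArg Subtype.val (Subsingleton.elim (⟨a, hm⟩ : K) 1)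

/-- A word fixing the base points is trivial. -/
theorem word_eq_one_of_base [Finite G] (hinv : t.Invol) (φ : G →* Equiv.Perm (Fin t.N))
    (hφ : ∀ x, φ (g x) = t.permOf hinv x) (hg : ∀ x, g x * g x = 1) {ls : List Level}
    (hc : Level.chain [] ls = true) (hall : ∀ l ∈ ls, l.OK t) {n : ℕ}
    (hn : (ls.map Level.n).prod = n) (hcard : Nat.card G = n) (w : List ℕ)
    (hw : (ls.map Level.base).all (fun p => Nat.beq (t.imgWord w p) p) = true) :
    (w.map g).prod = 1 := by
  rw [← inv_eq_one, ← Data.reverse_prod g hg]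
  refine eq_one_of_base hinv φ hφ hc hall hn hcard _ fun p hp h => ?_
  rw [Perms.map_word hinv φ hφ]
  exact Fin.ext (Table.beq_eq (List.all_eq_true.mp hw p hp))

end Cfsg.Agent.Enum.Big
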