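import Cfsg.Prelude.Def_SporadicB
import Mathlib

/-!
# Double covers along isomorphisms
-/

set_option autoImplicit false

namespace Cfsg.Agent.Enum

theorem nonsplit_cover_congr {H H' K : Type*} [Group H] [Group H'] [Group K] (e : H ≃* H')
    (h : Cfsg.IsNonsplitDoubleCover H K) : Cfsg.IsNonsplitDoubleCover H' K := by
  obtain ⟨h1, ⟨f⟩, h3⟩ := h
  have hmap : (Subgroup.center H).map e.toMonoidHom = Subgroup.center H' := by
    ext a
    constructor
    · rintro ⟨b, hb, rfl⟩
      refine Subgroup.mem_center_iff.mpr fun c => ?_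
      obtain ⟨d, rfl⟩ := e.surjective c
      show e d * e b = e b * e d
      rw [← map_mul, ← map_mul, Subgroup.mem_center_iff.mp hb d]
    · intro ha
      refine ⟨e.symm a, Subgroup.mem_center_iff.mpr fun c => e.injective ?_, e.apply_symm_apply a⟩
      rw [map_mul, map_mul, e.apply_symm_apply]
      exact Subgroup.mem_center_iff.mp ha (e c)
  refine ⟨?_, ⟨(QuotientGroup.congr (Subgroup.center H) (Subgroup.center H') e hmap).symm.trans f⟩, fun L hL => ?_⟩
  · rw [← hmap, ← h1]
    exact (Nat.card_congr (Subgroup.equivMapOfInjective _ _ e.injective).toEquiv).symm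
  · refine h3 (L.comap e.toMonoidHom) ?_
    constructor
    · rintro ⟨a, b⟩ ⟨c, d⟩ hab
      have := hL.1 (a₁ := (⟨e a, hmap ▸ ⟨a, a.2, rfl⟩⟩, ⟨e b, b.2⟩))
        (a₂ := (⟨e c, hmap ▸ ⟨c, c.2, rfl⟩⟩, ⟨e d, d.2⟩))
        (by show e a * e b = e c * e d; rw [← map_mul, ← map_mul]; exact congrArg e hab)
      simp only [Prod.mk.injEq] at this
      exact Prod.ext (Subtype.ext (e.injective (congrArg Subtype.val this.1))) (Subtype.ext (e.injective (congrArg Subtype.val this.2)))
    · intro x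
      obtain ⟨⟨⟨z, hz⟩, ⟨l, hl⟩⟩, hzl⟩ := hL.2 (e x)
      refine ⟨(⟨e.symm z, ?_⟩, ⟨e.symm l, ?_⟩), e.injective ?_⟩
      · obtain ⟨b, hb, rfl⟩ := hmap.symm ▸ hz
        show e.symm (e b) ∈ _
        rwa [e.symm_apply_apply]
      · show e (e.symm l) ∈ L
        rwa [e.apply_symm_apply]
      · show e (e.symm z * e.symm l) = e x
        rw [map_mul, e.apply_symm_apply, e.apply_symm_apply]
        exact hzl

/-- Centralizers of conjugate elements are isomorphic. -/
noncomputable def centralizerConj {G : Type*} [Group G] (a z : G) :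
    ↥(Subgroup.centralizer ({z} : Set G)) ≃* ↥(Subgroup.centralizer ({a * z * a⁻¹} : Set G)) :=
  ((MulAut.conj a).subgroupMap (Subgroup.centralizer {z})).trans <| MulEquiv.subgroupCongr <| by
    ext x
    simp only [Subgroup.mem_map, Subgroup.mem_centralizer_singleton_iff]
    constructor
    · rintro ⟨y, hy, rfl⟩
      show a * y * a⁻¹ * (a * z * a⁻¹) = a * z * a⁻¹ * (a * y * a⁻¹)
      calc a * y * a⁻¹ * (a * z * a⁻¹) = a * (y * z) * a⁻¹ := by group
        _ = a * (z * y) * a⁻¹ := by rw [hy]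
        _ = a * z * a⁻¹ * (a * y * a⁻¹) := by group
    · intro hx
      refine ⟨a⁻¹ * x * a, ?_, by show a * (a⁻¹ * x * a) * a⁻¹ = x; group⟩
      calc a⁻¹ * x * a * z = a⁻¹ * (x * (a * z * a⁻¹)) * a := by group
        _ = a⁻¹ * (a * z * a⁻¹ * x) * a := by rw [hx]
        _ = z * (a⁻¹ * x * a) := by group

end Cfsg.Agent.Enum
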