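import Mathlib

/-!
# An explicit field with four elements
-/

set_option autoImplicit false

namespace Cfsg.Agent.Enum

/-- The field with four elements, `2` being a primitive cube root of unity. -/
structure F4 where
  /-- the element as a number -/
  val : Fin 4
deriving DecidableEq

namespace F4

instance : Fintype F4 := Fintype.ofEquiv (Fin 4) ⟨F4.mk, F4.val, fun _ => rfl, fun _ => rfl⟩

theorem ext' {a b : F4} (h : a.val = b.val) : a = b := by
  cases a; cases b; cases h; rfl

theorem forall_iff {p : F4 → Prop} : (∀ a, p a) ↔ ∀ i : Fin 4, p ⟨i⟩ :=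
  ⟨fun h i => h ⟨i⟩, fun h a => h a.val⟩

instance : Zero F4 := ⟨⟨0⟩⟩
instance : One F4 := ⟨⟨1⟩⟩
instance : Add F4 := ⟨fun a b => ⟨⟨Nat.xor a.val b.val % 4, Nat.mod_lt _ (by decide)⟩⟩⟩
instance : Mul F4 := ⟨fun a b =>
  ⟨⟨2625168384 >>> (2 * (4 * (a.val : ℕ) + b.val)) % 4, Nat.mod_lt _ (by decide)⟩⟩⟩
instance : Neg F4 := ⟨fun a => a⟩
instance : Inv F4 := ⟨fun a => ⟨⟨180 >>> (2 * (a.val : ℕ)) % 4, Nat.mod_lt _ (by decide)⟩⟩⟩

instance : Field F4 := Field.ofMinimalAxioms F4
  (by decide +kernel) (by decide +kernel) (by decide +kernel) (by decide +kernel)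
  (by decide +kernel) (by decide +kernel) (by decide +kernel) (by decide +kernel)
  (by decide +kernel) ⟨0, 1, by decide +kernel⟩

theorem card_eq : Fintype.card F4 = 4 := by decide +kernel

/-- The Frobenius automorphism. -/
def frob : F4 →+* F4 where
  toFun a := a * a
  map_one' := by decide +kernel
  map_mul' := by decide +kernel
  map_zero' := by decide +kernel
  map_add' := by decide +kernel

theorem frob_frob : ∀ a : F4, frob (frob a) = a := by decide +kernel

theorem eq_one_of_sq : ∀ a : F4, a * a = 1 → a = 1 := by decide +kernel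

end F4

end Cfsg.Agent.Enum
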