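import Cfsg.Agent.Lib.Enum.Fi22U6
import Cfsg.Agent.Lib.Enum.Fi22O7Orbit
import Cfsg.Agent.Lib.Forms.OddInvol
import Cfsg.Agent.S0292
import Cfsg.Agent.S0295

/-!
# The subgroup O7(3) of the presented Fi22
-/

set_option autoImplicit false
set_option maxRecDepth 10000

namespace Cfsg.Agent.Enum.O7

open Cfsg.Agent Cfsg.Agent.Enum

local instance fact3 : Fact (Nat.Prime 3) := ⟨Nat.prime_three⟩

/-- The coordinates. -/
abbrev I7 : Type := Unit ⊕ (Fin 3 ⊕ Fin 3)

/-- The vectors. -/
abbrev V : Type := I7 → ZMod 3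

/-- The digit of a coordinate. -/
def dig : I7 → ℕ
  | .inl _ => 0
  | .inr (.inl i) => 1 + i
  | .inr (.inr i) => 4 + i

/-- The vector of a code. -/
def vec (n : ℕ) : V := fun i => ((n / 3 ^ dig i % 3 : ℕ) : ZMod 3)

/-- The code of a vector. -/
def enc (x : V) : ℕ :=
  (x (.inl ())).val + 3 * (x (.inr (.inl 0))).val + 9 * (x (.inr (.inl 1))).val +
    27 * (x (.inr (.inl 2))).val + 81 * (x (.inr (.inr 0))).val + 243 * (x (.inr (.inr 1))).val +
    729 * (x (.inr (.inr 2))).val

theorem enc_lt (x : V) : enc x < 2187 := by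
  simp only [enc]
  have := fun i => ZMod.val_lt (x i)
  have h0 := this (.inl ())
  have h1 := this (.inr (.inl 0))
  have h2 := this (.inr (.inl 1))
  have h3 := this (.inr (.inl 2))
  have h4 := this (.inr (.inr 0))
  have h5 := this (.inr (.inr 1))
  have h6 := this (.inr (.inr 2))
  omega

theorem vec_enc (x : V) : vec (enc x) = x := by
  have := fun i => ZMod.val_lt (x i)
  have h0 := this (.inl ())
  have h1 := this (.inr (.inl 0))
  have h2 := this (.inr (.inl 1))
  have h3 := this (.inr (.inl 2))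
  have h4 := this (.inr (.inr 0))
  have h5 := this (.inr (.inr 1))
  have h6 := this (.inr (.inr 2))
  funext i
  refine ZMod.val_injective 3 ?_
  rw [vec, ZMod.val_natCast, Nat.mod_mod]
  rcases i with u | i | i
  · obtain rfl : u = () := rfl
    simp only [dig, enc]; omega
  · fin_cases i <;> simp [dig, enc] <;> omega
  · fin_cases i <;> simp [dig, enc] <;> omega

/-- The form. -/
abbrev Qf : V → ZMod 3 := Cfsg.quadFormOdd 3 (ZMod 3)

/-- The form as a quadratic map. -/
noncomputable abbrev Q3 : QuadraticForm (ZMod 3) V := FormsLib.qOdd 3 (ZMod 3)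

/-- The vector of reflection `k`. -/
def vR (k : ℕ) : V := vec (vList.getD k 0)

theorem vR_norm : ∀ k : Fin 8, Qf (vR k) = 2 := by decide +kernel

theorem q_vR {k : ℕ} (hk : k < 8) : Q3 (vR k) ≠ 0 := by
  rw [show Q3 (vR k) = 2 from (congrFun FormsLib.coe_qOdd _).trans (vR_norm ⟨k, hk⟩)]
  decide +kernel

/-- The negative of the identity. -/
noncomputable def negO : FormsLib.oGroup Q3 := ⟨LinearEquiv.neg (ZMod 3), fun v => by simp⟩

theorem negO_comm (g : FormsLib.oGroup Q3) : g * negO = negO * g :=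
  Subtype.ext (LinearEquiv.ext fun v => map_neg g.1 v)

theorem negO_sq : negO * negO = 1 := Subtype.ext (LinearEquiv.ext fun v => neg_neg v)

/-- The negative of a reflection. -/
noncomputable def negRefl (v : V) (h : Q3 v ≠ 0) : FormsLib.oGroup Q3 := negO * FormsLib.oRefl Q3 v h

theorem negRefl_sq (v : V) (h : Q3 v ≠ 0) : negRefl v h * negRefl v h = 1 := by
  have e : FormsLib.oRefl Q3 v h * FormsLib.oRefl Q3 v h = 1 :=
    Subtype.ext (FormsLib.refl_mul_self Q3 h)
  calc negRefl v h * negRefl v h = negO * (FormsLib.oRefl Q3 v h * negO) * FormsLib.oRefl Q3 v h := by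
        simp only [negRefl, mul_assoc]
    _ = negO * negO * (FormsLib.oRefl Q3 v h * FormsLib.oRefl Q3 v h) := by
        rw [negO_comm]; simp only [mul_assoc]
    _ = 1 := by rw [negO_sq, e, one_mul]

theorem negRefl_conj (g : FormsLib.oGroup Q3) (v : V) (h : Q3 v ≠ 0) :
    g * negRefl v h * g⁻¹ = negRefl (g.1 v) (by rw [g.2]; exact h) := by
  rw [negRefl, ← mul_assoc, negO_comm, mul_assoc negO, mul_assoc negO, FormsLib.oRefl_conj]
  rfl

/-- The eight elements. -/
noncomputable def R (k : ℕ) : FormsLib.oGroup Q3 :=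
  if hk : k < 8 then negRefl (vR k) (q_vR hk) else 1

theorem R_junk (k : ℕ) (hk : 8 ≤ k) : R k = 1 := dif_neg (by omega)

/-- The action of an element on a code. -/
def step (k n : ℕ) : ℕ :=
  bif Nat.blt k 8 then
    enc (-(vec n - (Qf (vR k) * (Qf (vec n + vR k) - Qf (vec n) - Qf (vR k))) • vR k))
  else n

theorem vec_step (k n : ℕ) : vec (step k n) = (R k).1 (vec n) := by
  rcases Nat.lt_or_ge k 8 with hk | hk
  · rw [step, Table.blt_true hk, cond_true, vec_enc, R, dif_pos hk]
    show _ = -(FormsLib.refl Q3 (vR k) (q_vR hk) (vec n))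
    rw [FormsLib.refl_apply]
    have hinv : (Q3 (vR k))⁻¹ = Qf (vR k) := by
      rw [show Q3 (vR k) = Qf (vR k) from congrFun FormsLib.coe_qOdd _]
      refine inv_eq_of_mul_eq_one_right ?_
      rw [vR_norm ⟨k, hk⟩]
      decide +kernel
    rw [hinv]
    simp only [QuadraticMap.polar]
    simp only [show ∀ x, Q3 x = Qf x from congrFun FormsLib.coe_qOdd]
  · rw [step, Table.blt_false hk, cond_false, R_junk k hk]
    rfl

theorem vec_word (w : List ℕ) (n : ℕ) : vec (w.foldr step n) = (w.map R).prod.1 (vec n) := by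
  induction w with
  | nil => rfl
  | cons k w ih => rw [List.foldr_cons, vec_step, ih, List.map_cons, List.prod_cons]; rfl

/-- A word fixes every unit vector. -/
def idWord (w : List ℕ) : Bool :=
  (List.range 7).all fun i => Nat.beq (w.foldr step (3 ^ i)) (3 ^ i)

theorem vec_unit : ∀ i : I7, vec (3 ^ dig i) = Pi.single i 1 ∧ dig i < 7 := by decide +kernel

theorem word_eq_one {w : List ℕ} (h : idWord w = true) : (w.map R).prod = 1 := by
  refine Subtype.ext (LinearEquiv.toLinearMap_injective ((Pi.basisFun (ZMod 3) I7).ext fun i => ?_))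
  have h1 := List.all_eq_true.mp h (dig i) (List.mem_range.mpr (vec_unit i).2)
  have h2 := vec_word w (3 ^ dig i)
  rw [Nat.eq_of_beq_eq_true h1, (vec_unit i).1] at h2
  rw [Pi.basisFun_apply]
  exact h2.symm

/-! ### The pairs -/

/-- The generators of the subgroup. -/
noncomputable def xH (k : ℕ) : ↥(gensClosure presFi22.g [1, 2, 3, 4, 5, 6, 7, 8]) :=
  subGen presFi22.g [1, 2, 3, 4, 5, 6, 7, 8] k

/-- The relators used. -/
def relW : List (List ℕ) :=
  FiN.baseRels ++ (FiN.baseRels.map List.reverse ++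
    [[0, 1, 2, 3, 4, 5, 6, 0, 1, 2, 3, 4, 5, 6, 0, 1, 2, 3, 4, 5, 6, 0, 1, 2, 3, 4, 5, 6, 0, 1, 2, 3, 4, 5, 6, 0, 1, 2, 3, 4, 5, 6, 0, 1, 2, 3, 4, 5, 6, 0, 1, 2, 3, 4, 5, 6, 0, 1, 2, 3, 4, 5, 6]])

theorem relW_ok : relW.all (fun r => r.all (fun i => Nat.blt i 8) &&
    Fi22U6.fixesBase (r.map fun i => ([1, 2, 3, 4, 5, 6, 7, 8] : List ℕ).getD i 0) && idWord r) = true := by
  decide +kernel

/-- The generators of both groups. -/
noncomputable def p (k : ℕ) :
    ↥(gensClosure presFi22.g [1, 2, 3, 4, 5, 6, 7, 8]) × FormsLib.oGroup Q3 := (xH k, R k)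

theorem p_prod (r : List ℕ) : (r.map p).prod = ((r.map xH).prod, (r.map R).prod) := by
  induction r with
  | nil => rfl
  | cons k r ih => simp only [List.map_cons, List.prod_cons, ih]; rfl

theorem p_rels : ∀ r ∈ relW, (r.map p).prod = 1 := by
  intro r hr
  have h := List.all_eq_true.mp relW_ok r hr
  simp only [Bool.and_eq_true, List.all_eq_true] at h
  have hx : (r.map xH).prod = 1 := Subtype.ext
    ((coe_prod_subGen (g := presFi22.g) [1, 2, 3, 4, 5, 6, 7, 8] fun i hi => (Table.blt_lt (h.1.1 i hi) : i < 8)).trans (Fi22U6.word_one _ h.1.2))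
  rw [p_prod, hx, word_eq_one h.2]
  rfl

theorem p_junk (k : ℕ) (hk : 8 ≤ k) : p k = 1 := by
  rw [p, R_junk k hk, xH, subGen, dif_neg (by simpa using hk)]
  rfl

theorem p_sq (k : ℕ) : p k * p k = 1 := by
  rcases Nat.lt_or_ge k 8 with hk | hk
  · have h : ∀ k < 8, [k, k] ∈ relW := by decide +kernel
    simpa using p_rels _ (h k hk)
  · rw [p_junk k hk, one_mul]

theorem pstep {L L' : List ℕ} {t : CoverData} {d : Data} {base : List (List ℕ)} {n : ℕ}
    (hbase : subRelsOK L relW base = true)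
    (hcov : ∀ {G : Type} [Group G] {g : ℕ → G}, Holding g n base →
      Subgroup.closure (Set.range g) = ⊤ → Covers g (wordClosure g d.subs) t d)
    (hn : L.length = n)
    (hL' : d.subs.map (fun w => w.map fun i => L.getD i 0) = L'.map fun x => [x])
    (hlt : d.subs.all (fun w => w.all fun i => Nat.blt i L.length) = true) {m : ℕ}
    (h : Finite (gensClosure p L') ∧ Nat.card (gensClosure p L') ≤ m) :
    Finite (gensClosure p L) ∧ Nat.card (gensClosure p L) ≤ t.N * m :=
  chain_step (hcov (hn ▸ holding_subGen p_sq p_rels L hbase) (subGen_gen L)) hL' hlt h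

theorem cardV : Finite (gensClosure p [0]) ∧ Nat.card (gensClosure p [0]) ≤ 2 * (1) :=
  pstep (by decide +kernel) (fun h hgen => FiV.covers h hgen) rfl (by decide +kernel)
    (by decide +kernel) chain_base

theorem cardU : Finite (gensClosure p [0, 1]) ∧ Nat.card (gensClosure p [0, 1]) ≤ 3 * (2 * (1)) :=
  pstep (by decide +kernel) (fun h hgen => FiU.covers h hgen) rfl (by decide +kernel)
    (by decide +kernel) cardV

theorem cardT : Finite (gensClosure p [0, 1, 2]) ∧
    Nat.card (gensClosure p [0, 1, 2]) ≤ 4 * (3 * (2 * (1))) :=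
  pstep (by decide +kernel) (fun h hgen => FiT.covers h hgen) rfl (by decide +kernel)
    (by decide +kernel) cardU

theorem cardS : Finite (gensClosure p [0, 1, 2, 6]) ∧
    Nat.card (gensClosure p [0, 1, 2, 6]) ≤ 5 * (4 * (3 * (2 * (1)))) :=
  pstep (by decide +kernel) (fun h hgen => FiS.covers h hgen) rfl (by decide +kernel)
    (by decide +kernel) cardT

theorem cardR : Finite (gensClosure p [0, 1, 2, 3, 6]) ∧
    Nat.card (gensClosure p [0, 1, 2, 3, 6]) ≤ 16 * (5 * (4 * (3 * (2 * (1))))) :=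
  pstep (by decide +kernel) (fun h hgen => FiR.covers h hgen) rfl (by decide +kernel)
    (by decide +kernel) cardS

theorem cardP : Finite (gensClosure p [0, 1, 2, 3, 4, 6]) ∧
    Nat.card (gensClosure p [0, 1, 2, 3, 4, 6]) ≤ 27 * (16 * (5 * (4 * (3 * (2 * (1)))))) :=
  pstep (by decide +kernel) (fun h hgen => FiP.covers h hgen) rfl (by decide +kernel)
    (by decide +kernel) cardR

theorem cardO : Finite (gensClosure p [0, 1, 2, 3, 4, 5, 6]) ∧
    Nat.card (gensClosure p [0, 1, 2, 3, 4, 5, 6]) ≤ 28 * (27 * (16 * (5 * (4 * (3 * (2 * (1))))))) :=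
  pstep (by decide +kernel) (fun h hgen => FiO.covers h hgen) rfl (by decide +kernel)
    (by decide +kernel) cardP

theorem cardD : Finite (gensClosure p [0, 1, 2, 3, 4, 5, 6, 7]) ∧
    Nat.card (gensClosure p [0, 1, 2, 3, 4, 5, 6, 7]) ≤ 3159 * (28 * (27 * (16 * (5 * (4 * (3 * (2 * (1)))))))) :=
  pstep (by decide +kernel) (fun h hgen => FiN.covers h hgen) rfl (by decide +kernel)
    (by decide +kernel) cardO

/-- The diagonal subgroup. -/
noncomputable abbrev D : Subgroup (↥(gensClosure presFi22.g [1, 2, 3, 4, 5, 6, 7, 8]) × FormsLib.oGroup Q3) :=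
  gensClosure p [0, 1, 2, 3, 4, 5, 6, 7]

theorem p_mem (k : ℕ) : p k ∈ D := by
  rcases Nat.lt_or_ge k 8 with hk | hk
  · exact Subgroup.subset_closure ⟨k, by simp; omega, rfl⟩
  · rw [p_junk k hk]; exact one_mem _

theorem card_H : Nat.card ↥(gensClosure presFi22.g [1, 2, 3, 4, 5, 6, 7, 8]) = 4585351680 := by
  have h := Subgroup.index_mul_card (gensClosure presFi22.g [1, 2, 3, 4, 5, 6, 7, 8])
  rw [FiMain.index_bi, FiMain.card_grp] at h
  omega

theorem card_pOmega : Nat.card (Cfsg.POmega (ZMod 3) Qf) = 4585351680 := by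
  have h := S0292.result (F := ZMod 3) (q := 3) (ZMod.card 3) (by decide) 3 le_rfl
  norm_num [Finset.prod_range_succ] at h
  show Nat.card (Cfsg.POmega (ZMod 3) (Cfsg.quadFormOdd 3 (ZMod 3))) = 4585351680
  omega

/-- The elements as matrices. -/
noncomputable def toIso : FormsLib.oGroup Q3 ≃* Cfsg.isometryGroup (ZMod 3) Qf :=
  (FormsLib.oEquiv Q3).symm.trans
    (MulEquiv.subgroupCongr (congrArg (Cfsg.isometryGroup (ZMod 3)) FormsLib.coe_qOdd))

/-- The elements in matrix form. -/
noncomputable def Rm (k : ℕ) : Cfsg.isometryGroup (ZMod 3) Qf := toIso (R k)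

theorem Rm_rel (r : List ℕ) (h : idWord r = true) : (r.map Rm).prod = 1 := by
  rw [show r.map Rm = (r.map R).map toIso by rw [List.map_map]; rfl, ← map_list_prod,
    word_eq_one h, map_one]

theorem Rm_mem (k : ℕ) : Rm k ∈ commutator (Cfsg.isometryGroup (ZMod 3) Qf) := by
  rw [← Abelianization.ker_of, MonoidHom.mem_ker]
  set u : ℕ → Abelianization (Cfsg.isometryGroup (ZMod 3) Qf) := fun i => Abelianization.of (Rm i) with hu
  have hw : ∀ r : List ℕ, idWord r = true → (r.map u).prod = 1 := fun r h => by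
    rw [show r.map u = (r.map Rm).map Abelianization.of by rw [List.map_map]; rfl, ← map_list_prod,
      Rm_rel r h, map_one]
  have hsq : ∀ i, u i * u i = 1 := fun i => by
    rcases Nat.lt_or_ge i 8 with hi | hi
    · have h : ∀ i < 8, idWord [i, i] = true := by decide +kernel
      simpa using hw _ (h i hi)
    · simp [hu, Rm, R_junk i hi]
  have hbr : ∀ i j, idWord [i, j, i, j, i, j] = true → u i = u j := fun i j h => by
    have h' := hw _ h
    simp only [List.map_cons, List.map_nil, List.prod_cons, List.prod_nil, mul_one] at h'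
    have hij : u i * u j = 1 := by
      calc u i * u j = u i * u j * ((u i * u i) * (u j * u j)) := by rw [hsq, hsq, mul_one, mul_one]
        _ = u i * (u j * (u i * (u j * (u i * u j)))) := by ac_rfl
        _ = 1 := h'
    calc u i = u i * u j * u j := by rw [mul_assoc, hsq, mul_one]
      _ = u j := by rw [hij, one_mul]
  have e1 := hbr 0 1 (by decide +kernel)
  have e2 := hbr 1 2 (by decide +kernel)
  have e3 := hbr 2 3 (by decide +kernel)
  have e4 := hbr 2 6 (by decide +kernel)
  have e5 := hbr 3 4 (by decide +kernel)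
  have e6 := hbr 4 5 (by decide +kernel)
  have e7 := hbr 6 7 (by decide +kernel)
  have h63 := hw (List.replicate 9 [0, 1, 2, 3, 4, 5, 6]).flatten (by decide +kernel)
  rw [List.map_flatten, List.map_replicate, List.prod_flatten, List.map_replicate, List.prod_replicate] at h63
  simp only [List.map_cons, List.map_nil, List.prod_cons, List.prod_nil, mul_one,
    ← e6, ← e5, ← e4, ← e3, ← e2, ← e1] at h63
  have h0 : u 0 = 1 := by
    have hp : u 0 ^ 2 = 1 := by rw [sq]; exact hsq 0
    have e : u 0 * (u 0 * (u 0 * (u 0 * (u 0 * (u 0 * u 0))))) = u 0 ^ 7 := by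
      simp only [pow_succ, pow_zero, one_mul, mul_assoc]
    rw [e, ← pow_mul, show 7 * 9 = 2 * 31 + 1 from rfl, pow_succ, pow_mul, hp, one_pow, one_mul] at h63
    exact h63
  show u k = 1
  rcases Nat.lt_or_ge k 8 with hk | hk
  · interval_cases k <;> simp only [← e7, ← e6, ← e5, ← e4, ← e3, ← e2, ← e1, h0]
  · simp [hu, Rm, R_junk k hk]

/-- The first projection. -/
noncomputable def f1 : ↥D →* ↥(gensClosure presFi22.g [1, 2, 3, 4, 5, 6, 7, 8]) :=
  (MonoidHom.fst _ _).comp D.subtype

/-- The second projection, as matrices. -/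
noncomputable def f2 : ↥D →* Cfsg.isometryGroup (ZMod 3) Qf :=
  toIso.toMonoidHom.comp ((MonoidHom.snd _ _).comp D.subtype)

theorem f2_mem (d : ↥D) : f2 d ∈ commutator (Cfsg.isometryGroup (ZMod 3) Qf) := by
  have hle : D ≤ (commutator (Cfsg.isometryGroup (ZMod 3) Qf)).comap
      (toIso.toMonoidHom.comp (MonoidHom.snd _ _)) := by
    refine (Subgroup.closure_le _).mpr ?_
    rintro _ ⟨k, -, rfl⟩
    exact Rm_mem k
  exact hle d.2

/-- The map to the projective group. -/
noncomputable def psi : ↥D →* Cfsg.POmega (ZMod 3) Qf :=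
  (QuotientGroup.mk' _).comp (f2.codRestrict _ f2_mem)

/-- Check one point of the orbit. -/
def chkPt (i : ℕ) : Bool :=
  Nat.beq i 0 || (Nat.blt (field 16 prev i / 16) i &&
    Nat.beq (step (field 16 prev i % 16) (field 16 pts (field 16 prev i / 16))) (field 16 pts i))

/-- Check that a code of the norm is listed. -/
def chkVec (n : ℕ) : Bool :=
  (Nat.blt (field 16 pos n) size && Nat.beq (field 16 pts (field 16 pos n)) n) ||
    decide (Qf (vec n) ≠ 2)

theorem pts_ok : allRange chkPt 64 0 size = true := by decide +kernel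

theorem pts0 : field 16 pts 0 = vList.getD 0 0 := by decide +kernel

theorem vecs_ok : allRange chkVec 64 0 2187 = true := by decide +kernel

theorem negRefl_mem_closure (x : V) (hx : Qf x = 2) (h : Q3 x ≠ 0) :
    negRefl x h ∈ Subgroup.closure (Set.range R) := by
  set S := Subgroup.closure (Set.range R) with hS
  have horb : ∀ i, i < size → ∃ g ∈ S, g.1 (vR 0) = vec (field 16 pts i) := by
    intro i
    induction i using Nat.strong_induction_on with
    | _ i ih =>
      intro hi
      have h := allRange_spec 64 0 size pts_ok i (Nat.zero_le _) (by simpa using hi)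
      simp only [chkPt, Bool.or_eq_true, Bool.and_eq_true] at h
      rcases h with h | ⟨h1, h2⟩
      · rw [Nat.eq_of_beq_eq_true h, pts0]
        exact ⟨1, one_mem _, rfl⟩
      · have hlt := Table.blt_lt h1
        obtain ⟨g, hg, he⟩ := ih _ hlt (hlt.trans hi)
        refine ⟨R (field 16 prev i % 16) * g, mul_mem (Subgroup.subset_closure ⟨_, rfl⟩) hg, ?_⟩
        rw [← Nat.eq_of_beq_eq_true h2, vec_step, ← he]
        rfl
  have hv := allRange_spec 64 0 2187 vecs_ok (enc x) (Nat.zero_le _) (by simpa using enc_lt x)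
  simp only [chkVec, Bool.or_eq_true, Bool.and_eq_true, decide_eq_true_eq, vec_enc] at hv
  rcases hv with ⟨h1, h2⟩ | hv
  · obtain ⟨u, hu, he⟩ := horb _ (Table.blt_lt h1)
    rw [Nat.eq_of_beq_eq_true h2, vec_enc] at he
    have e : u * R 0 * u⁻¹ = negRefl x h := by
      rw [R, dif_pos (by decide), negRefl_conj]
      subst he
      rfl
    rw [← e]
    exact mul_mem (mul_mem hu (Subgroup.subset_closure ⟨0, rfl⟩)) (inv_mem hu)
  · exact absurd hx hv

theorem closure_R_normal : (Subgroup.closure (Set.range R)).Normal := by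
  refine ⟨fun n hn g => ?_⟩
  induction hn using Subgroup.closure_induction with
  | mem n hn =>
    obtain ⟨k, rfl⟩ := hn
    rcases Nat.lt_or_ge k 8 with hk | hk
    · rw [R, dif_pos hk, negRefl_conj]
      refine negRefl_mem_closure _ ?_ _
      have e : ∀ y, Q3 y = Qf y := congrFun FormsLib.coe_qOdd
      rw [← e, g.2, e]
      exact vR_norm ⟨k, hk⟩
    · rw [R_junk k hk, mul_one, mul_inv_cancel]
      exact one_mem _
  | one => rw [mul_one, mul_inv_cancel]; exact one_mem _
  | mul a b _ _ iha ihb =>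
    have e : g * (a * b) * g⁻¹ = g * a * g⁻¹ * (g * b * g⁻¹) := by group
    rw [e]; exact mul_mem iha ihb
  | inv a _ iha =>
    have e : g * a⁻¹ * g⁻¹ = (g * a * g⁻¹)⁻¹ := by group
    rw [e]; exact inv_mem iha

theorem range_f2 : f2.range = (Subgroup.closure (Set.range R)).map toIso.toMonoidHom := by
  refine le_antisymm ?_ ?_
  · rintro _ ⟨d, rfl⟩
    refine ⟨d.1.2, ?_, rfl⟩
    have hle : D ≤ (Subgroup.closure (Set.range R)).comap (MonoidHom.snd _ _) := by
      refine (Subgroup.closure_le _).mpr ?_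
      rintro _ ⟨k, -, rfl⟩
      exact Subgroup.subset_closure ⟨k, rfl⟩
    exact hle d.2
  · rw [Subgroup.map_le_iff_le_comap, Subgroup.closure_le]
    rintro _ ⟨k, rfl⟩
    exact ⟨⟨p k, p_mem k⟩, rfl⟩

theorem psi_surjective : Function.Surjective psi := by
  haveI : IsSimpleGroup (Cfsg.POmega (ZMod 3) Qf) := S0295.result (F := ZMod 3) (by decide) 3 le_rfl
  haveI hN : f2.range.Normal := by
    rw [range_f2]
    exact closure_R_normal.map _ toIso.surjective
  haveI hn : psi.range.Normal := by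
    refine ⟨?_⟩
    rintro _ ⟨d, rfl⟩ q
    obtain ⟨u, rfl⟩ := QuotientGroup.mk_surjective q
    obtain ⟨d', hd'⟩ := hN.conj_mem (f2 d) ⟨d, rfl⟩ (u : Cfsg.isometryGroup (ZMod 3) Qf)
    refine ⟨d', ?_⟩
    show QuotientGroup.mk _ = QuotientGroup.mk u * QuotientGroup.mk _ * (QuotientGroup.mk u)⁻¹
    rw [← QuotientGroup.mk_inv, ← QuotientGroup.mk_mul, ← QuotientGroup.mk_mul]
    exact congrArg _ (Subtype.ext hd')
  rw [← MonoidHom.range_eq_top]
  refine (IsSimpleGroup.eq_bot_or_eq_top_of_normal psi.range hn).resolve_left fun hb => ?_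
  have h1 : ∀ i : Fin 8, ∀ j : Fin 8, psi ⟨p i, p_mem i⟩ = 1 ∧ psi ⟨p j, p_mem j⟩ = 1 := fun i j =>
    ⟨Subgroup.mem_bot.mp (hb ▸ ⟨_, rfl⟩), Subgroup.mem_bot.mp (hb ▸ ⟨_, rfl⟩)⟩
  have hc : (f2.codRestrict _ f2_mem) ⟨p 0, p_mem 0⟩ ∈
      Subgroup.center (Cfsg.Omega (ZMod 3) Qf) := (QuotientGroup.eq_one_iff _).mp (h1 0 0).1
  have hcomm := congrArg Subtype.val (Subgroup.mem_center_iff.mp hc ((f2.codRestrict _ f2_mem) ⟨p 1, p_mem 1⟩))
  have hcomm' : toIso (R 1 * R 0) = toIso (R 0 * R 1) := by rw [map_mul, map_mul]; exact hcomm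
  have e := congrArg (fun g : FormsLib.oGroup Q3 => g.1 (vec 1)) (toIso.injective hcomm')
  have e10 := vec_word [1, 0] 1
  have e01 := vec_word [0, 1] 1
  simp only [List.map_cons, List.map_nil, List.prod_cons, List.prod_nil, mul_one] at e10 e01
  rw [← e10, ← e01] at e
  revert e
  decide +kernel

/-- The subgroup is O7(3). -/
theorem iso : Nonempty (↥(gensClosure presFi22.g [1, 2, 3, 4, 5, 6, 7, 8]) ≃* Cfsg.POmega (ZMod 3) Qf) := by
  haveI := cardD.1
  have h1 : Function.Surjective f1 := by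
    rw [← MonoidHom.range_eq_top, eq_top_iff, ← subGen_gen (g := presFi22.g) [1, 2, 3, 4, 5, 6, 7, 8],
      Subgroup.closure_le]
    rintro _ ⟨k, rfl⟩
    exact ⟨⟨p k, p_mem k⟩, rfl⟩
  have hD : Nat.card ↥D = 4585351680 := by
    refine le_antisymm (cardD.2.trans (by norm_num)) ?_
    rw [← card_H]
    exact Nat.card_le_card_of_surjective _ h1
  exact ⟨(MulEquiv.ofBijective f1 ((Nat.bijective_iff_surjective_and_card f1).mpr
    ⟨h1, hD.trans card_H.symm⟩)).symm.trans (MulEquiv.ofBijective psi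
      ((Nat.bijective_iff_surjective_and_card psi).mpr ⟨psi_surjective, hD.trans card_pOmega.symm⟩))⟩

end Cfsg.Agent.Enum.O7
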