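import Cfsg.Agent.Lib.Enum.Fi22U6
import Cfsg.Agent.Lib.Enum.CoverConj

/-!
# The 3-transpositions of the presented Fi22
-/

set_option autoImplicit false
set_option maxRecDepth 10000

namespace Cfsg.Agent.Enum.Fi22U6

open Cfsg.Agent.Enum

/-- The transposition. -/
noncomputable abbrev t0 : presFi22.Grp := presFi22.g 0

theorem maximal (M : Subgroup presFi22.Grp) (hM : FiA.sub ≤ M) : M = FiA.sub ∨ M = ⊤ :=
  overgroup_cases FiA.certified FiA.suborbits FiA.suborbits_ok FiA.sub_words 3
    (by decide +kernel) (by decide +kernel) (by decide +kernel) [1, 2816, 693] rfl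
    (by decide +kernel) (by decide +kernel) (by decide +kernel) M hM

theorem center_grp : Subgroup.center presFi22.Grp = ⊥ := by
  haveI := FiMain.isSimple
  refine (IsSimpleGroup.eq_bot_or_eq_top_of_normal _ inferInstance).resolve_right fun h => noncomm ?_
  have hc : ∀ u v : presFi22.Grp, u * v = v * u := fun u v =>
    Subgroup.mem_center_iff.mp (h ▸ Subgroup.mem_top v) u
  rw [xq, xq, ← QuotientGroup.mk_mul, ← QuotientGroup.mk_mul]
  exact congrArg _ (Subtype.ext (hc _ _))

theorem centralizer_t0 : Subgroup.centralizer ({t0} : Set presFi22.Grp) = FiA.sub := by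
  refine (maximal _ fun b hb => Subgroup.mem_centralizer_singleton_iff.mpr ?_).resolve_right fun h => ?_
  · exact a_comm b hb
  · refine a_ne (Subgroup.mem_bot.mp (center_grp ▸ Subgroup.mem_center_iff.mpr fun b => ?_))
    exact Subgroup.mem_centralizer_singleton_iff.mp (h ▸ Subgroup.mem_top b)

theorem mem_sub_iff (b : presFi22.Grp) : b ∈ FiA.sub ↔ b * t0 = t0 * b := by
  rw [← centralizer_t0, Subgroup.mem_centralizer_singleton_iff]

theorem t0_sq : t0 * t0 = 1 := presFi22.g_mul_self 0

/-! ### The class of 3-transpositions -/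

theorem card_class : Nat.card (conjugatesOf t0) = 3510 := by
  rw [← FiA.index_sub, Subgroup.index]
  refine (Nat.card_congr (Equiv.ofBijective (Quotient.lift
    (fun a => (⟨a * t0 * a⁻¹, isConj_iff.mpr ⟨a, rfl⟩⟩ : conjugatesOf t0))
    fun a b hab => Subtype.ext ?_) ⟨?_, ?_⟩)).symm
  · have h := (mem_sub_iff _).mp (QuotientGroup.leftRel_apply.mp hab)
    show a * t0 * a⁻¹ = b * t0 * b⁻¹
    calc a * t0 * a⁻¹ = a * (t0 * (a⁻¹ * b)) * b⁻¹ := by group
      _ = a * (a⁻¹ * b * t0) * b⁻¹ := by rw [h]
      _ = b * t0 * b⁻¹ := by group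
  · intro q q'
    induction q using QuotientGroup.induction_on with | H a => ?_
    induction q' using QuotientGroup.induction_on with | H b => ?_
    intro h
    have h' : a * t0 * a⁻¹ = b * t0 * b⁻¹ := congrArg Subtype.val h
    refine QuotientGroup.eq.mpr ((mem_sub_iff _).mpr ?_)
    calc a⁻¹ * b * t0 = a⁻¹ * (b * t0 * b⁻¹) * b := by group
      _ = t0 * (a⁻¹ * b) := by rw [← h']; group
  · rintro ⟨d, hd⟩
    obtain ⟨a, rfl⟩ := isConj_iff.mp hd
    exact ⟨QuotientGroup.mk a, rfl⟩

theorem closure_class : Subgroup.closure (conjugatesOf t0) = ⊤ := by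
  haveI := FiMain.isSimple
  have h : Subgroup.closure (conjugatesOf t0) = Subgroup.normalClosure {t0} := by
    simp [Subgroup.normalClosure, Group.conjugatesOfSet]
  rw [h]
  refine (IsSimpleGroup.eq_bot_or_eq_top_of_normal _ inferInstance).resolve_left fun hb => a_ne ?_
  exact Subgroup.mem_bot.mp (hb ▸ Subgroup.subset_normalClosure rfl)

/-- The conjugate of the transposition by the element of a word. -/
noncomputable def conjWord (w : List ℕ) : presFi22.Grp :=
  (w.map presFi22.g).reverse.prod * t0 * ((w.map presFi22.g).reverse.prod)⁻¹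

theorem pair_pow (w : List ℕ) (k : ℕ)
    (hw : fixesBase (List.replicate k ([0] ++ w.reverse ++ [0] ++ w)).flatten = true) :
    (t0 * conjWord w) ^ k = 1 := by
  have h := word_one _ hw
  rw [List.map_flatten, List.map_replicate, List.prod_flatten, List.map_replicate, List.prod_replicate,
    List.map_append, List.map_append, List.map_append, List.prod_append, List.prod_append,
    List.prod_append, List.map_reverse] at h
  simp only [List.map_cons, List.map_nil, List.prod_cons, List.prod_nil, mul_one] at h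
  rw [conjWord, ← h, Data.reverse_prod _ presFi22.g_mul_self, inv_inv]
  simp only [mul_assoc]

theorem three (c : presFi22.Grp) :
    (t0 * (c * t0 * c⁻¹)) ^ 2 = 1 ∨ (t0 * (c * t0 * c⁻¹)) ^ 3 = 1 := by
  obtain ⟨i, hi⟩ := (Table.coset_bijective FiA.certified).2 (QuotientGroup.mk c)
  have key : ∀ (w : List ℕ) (k j : ℕ) (hj : FiA.suborbits.root j < FiA.table.N),
      field 8 FiA.suborbits.label (FiA.suborbits.root j) = j →
      FiA.table.imgWord w 0 = FiA.suborbits.root j → (t0 * conjWord w) ^ k = 1 →
      field 8 FiA.suborbits.label i = j → (t0 * (c * t0 * c⁻¹)) ^ k = 1 := by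
    intro w k j hj hlab hw hpow hij
    set u := (w.map presFi22.g).reverse.prod with hu
    have hroot : Table.coset presFi22.g FiA.sub FiA.table FiA.data ⟨FiA.suborbits.root j, hj⟩ =
        QuotientGroup.mk u := by
      have h := Table.act_coset FiA.certified w ⟨0, FiA.certified.pos⟩
      rw [Table.coset_zero FiA.certified, Data.act_eq] at h
      refine Eq.trans ?_ (h.symm.trans ?_)
      · exact congrArg _ (Fin.ext hw.symm)
      · show QuotientGroup.mk (u * 1) = _
        rw [mul_one]
    have hm : (QuotientGroup.mk c : presFi22.Grp ⧸ FiA.sub) ∈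
        MulAction.orbit FiA.sub (Table.coset presFi22.g FiA.sub FiA.table FiA.data ⟨_, hj⟩) := by
      rw [Suborbits.orbit_eq_image FiA.certified FiA.suborbits FiA.suborbits_ok FiA.sub_words j hj hlab]
      exact ⟨i, hij, hi⟩
    obtain ⟨⟨h, hh⟩, he⟩ := hm
    rw [hroot] at he
    have he' : QuotientGroup.mk (h * u) = (QuotientGroup.mk c : presFi22.Grp ⧸ FiA.sub) := he
    have e1 := (mem_sub_iff _).mp (QuotientGroup.eq.mp he')
    have e2 := (mem_sub_iff _).mp hh
    have e : c * t0 * c⁻¹ = h * conjWord w * h⁻¹ := by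
      rw [conjWord, ← hu]
      calc c * t0 * c⁻¹ = h * u * ((h * u)⁻¹ * c * t0) * c⁻¹ := by group
        _ = h * u * (t0 * ((h * u)⁻¹ * c)) * c⁻¹ := by rw [e1]
        _ = h * (u * t0 * u⁻¹) * h⁻¹ := by group
    have e' : t0 * (c * t0 * c⁻¹) = h * (t0 * conjWord w) * h⁻¹ := by
      rw [e, ← mul_assoc h, e2]; simp only [mul_assoc]
    rw [e', conj_pow, hpow, mul_one, mul_inv_cancel]
  have hlab : allRange (fun i => Nat.blt (field 8 FiA.suborbits.label i) 3) 64 0 3510 = true := by
    decide +kernel
  have h3 := Table.blt_lt (allRange_spec 64 0 3510 hlab i (Nat.zero_le _) (lt_of_lt_of_le i.2 (by decide +kernel)))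
  rcases (show field 8 FiA.suborbits.label i = 0 ∨ field 8 FiA.suborbits.label i = 1 ∨
      field 8 FiA.suborbits.label i = 2 by omega) with h | h | h
  · left
    exact key [] 2 0 (by decide +kernel) (by decide +kernel) (by decide +kernel) (pair_pow _ _ (by decide +kernel)) h
  · right
    exact key [1] 3 1 (by decide +kernel) (by decide +kernel) (by decide +kernel) (pair_pow _ _ (by decide +kernel)) h
  · left
    exact key [1, 0, 2, 1, 3, 4, 7] 2 2 (by decide +kernel) (by decide +kernel) (by decide +kernel)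
      (pair_pow _ _ (by decide +kernel)) h

theorem three_transposition_class : Cfsg.IsThreeTranspositionClass (conjugatesOf t0) := by
  refine ⟨⟨?_, ?_⟩, ⟨t0, mem_conjugatesOf_self, rfl⟩, closure_class⟩
  · intro d hd
    obtain ⟨a, rfl⟩ := isConj_iff.mp hd
    exact orderOf_eq_prime (by rw [conj_pow, sq, t0_sq, mul_one, mul_inv_cancel])
      (fun h => a_ne (by simpa using h))
  · intro d hd e he
    obtain ⟨a, rfl⟩ := isConj_iff.mp hd
    obtain ⟨b, rfl⟩ := isConj_iff.mp he
    have e1 : a * t0 * a⁻¹ * (b * t0 * b⁻¹) =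
        a * (t0 * (a⁻¹ * b * t0 * (a⁻¹ * b)⁻¹)) * a⁻¹ := by group
    rw [e1, conj_pow, conj_pow]
    rcases three (a⁻¹ * b) with h | h
    · left; rw [h, mul_one, mul_inv_cancel]
    · right; rw [h, mul_one, mul_inv_cancel]

theorem conj_double_cover (a : presFi22.Grp) : Cfsg.IsNonsplitDoubleCover
    (Subgroup.centralizer ({a * t0 * a⁻¹} : Set presFi22.Grp)) (Cfsg.PSU 6 F4 2) :=
  nonsplit_cover_congr ((MulEquiv.subgroupCongr centralizer_t0.symm).trans (centralizerConj a t0))
    double_cover

end Cfsg.Agent.Enum.Fi22U6
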