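import Cfsg.Agent.Lib.Enum.F4
import Cfsg.Agent.Lib.Enum.Fi22U6Orbit
import Cfsg.Agent.Lib.ThreeTransp.Unitary

/-!
# Eight transvections generating SU(6,2), computed on coded vectors
-/

set_option autoImplicit false
set_option maxRecDepth 10000

namespace Cfsg.Agent.Enum.U6

open Matrix

instance qf4 : AutPSU.QField F4 2 := AutPSU.QField.of_card F4.card_eq

/-- The vector of a code. -/
def vec (n : ℕ) : Fin 6 → F4 := fun i => ⟨⟨n >>> (2 * (i : ℕ)) % 4, Nat.mod_lt _ (by decide)⟩⟩

theorem vec_xor (n m : ℕ) : vec (Nat.xor n m) = vec n + vec m := by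
  funext i
  refine F4.ext' (Fin.ext ?_)
  show (n ^^^ m) >>> (2 * (i : ℕ)) % 4 =
    ((n >>> (2 * (i : ℕ)) % 4) ^^^ (m >>> (2 * (i : ℕ)) % 4)) % 4
  rw [Nat.shiftRight_xor_distrib]
  have e := Nat.xor_mod_two_pow (n := 2) (a := n >>> (2 * (i : ℕ))) (b := m >>> (2 * (i : ℕ)))
  norm_num at e
  have hlt : (n >>> (2 * (i : ℕ)) % 4 ^^^ m >>> (2 * (i : ℕ)) % 4) < 4 :=
    Nat.xor_lt_two_pow (n := 2) (Nat.mod_lt _ (by decide)) (Nat.mod_lt _ (by decide))
  rw [e]
  exact (Nat.mod_eq_of_lt hlt).symm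

/-- The code of a vector. -/
def enc (x : Fin 6 → F4) : ℕ :=
  (x 0).val + 4 * (x 1).val + 16 * (x 2).val + 64 * (x 3).val + 256 * (x 4).val + 1024 * (x 5).val

theorem enc_lt (x : Fin 6 → F4) : enc x < 4096 := by
  simp only [enc]
  omega

theorem vec_enc (x : Fin 6 → F4) : vec (enc x) = x := by
  funext i
  refine F4.ext' (Fin.ext ?_)
  simp only [vec, enc, Nat.shiftRight_eq_div_pow]
  have h0 := (x 0).val.isLt
  have h1 := (x 1).val.isLt
  have h2 := (x 2).val.isLt
  have h3 := (x 3).val.isLt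
  have h4 := (x 4).val.isLt
  have h5 := (x 5).val.isLt
  fin_cases i <;> simp only [Nat.reduceMul, Nat.reducePow] <;> simp <;> omega

/-- The code of a multiple of the vector of a code. -/
def smulN (c : F4) (n : ℕ) : ℕ :=
  (List.range 6).foldr (fun i acc => acc + 4 ^ i * (c * ⟨⟨n >>> (2 * i) % 4, Nat.mod_lt _ (by decide)⟩⟩ : F4).val) 0

/-- The code of the vector of transvection `k`. -/
def vN (k : ℕ) : ℕ := vList.getD k 0

theorem vN_junk (k : ℕ) (hk : 8 ≤ k) : vN k = 0 :=
  List.getD_eq_default _ _ (by simpa [vList] using hk)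

theorem vec_zero : vec 0 = 0 := by decide +kernel

theorem isot (k : ℕ) : Cfsg.hermForm 6 F4 2 (vec (vN k)) (vec (vN k)) = 0 := by
  rcases Nat.lt_or_ge k 8 with hk | hk
  · revert k
    decide +kernel
  · rw [vN_junk k hk, vec_zero]
    decide +kernel

theorem vec_smulN_fin : ∀ (k : Fin 8) (c : F4), vec (smulN c (vN k)) = c • vec (vN k) := by
  decide +kernel

theorem vec_smulN (k : ℕ) (c : F4) : vec (smulN c (vN k)) = c • vec (vN k) := by
  rcases Nat.lt_or_ge k 8 with hk | hk
  · exact vec_smulN_fin ⟨k, hk⟩ c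
  · rw [vN_junk k hk]
    revert c
    decide +kernel

/-- The transvections. -/
noncomputable def M (k : ℕ) : ↥(Cfsg.SU 6 F4 2) :=
  AutPSU.tr (vec (vN k)) 1 (ThreeTransp.isT_one F4.card_eq (isot k))

theorem M_apply (k : ℕ) (x : Fin 6 → F4) :
    AutPSU.app (M k) x = x + Cfsg.hermForm 6 F4 2 x (vec (vN k)) • vec (vN k) := by
  rw [M, AutPSU.tr_apply, one_mul]

theorem M_junk (k : ℕ) (hk : 8 ≤ k) : M k = 1 := by
  refine AutPSU.su_ext fun v => ?_
  show AutPSU.app (M k) v = AutPSU.app (1 : ↥(Cfsg.SU 6 F4 2)) v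
  rw [M_apply, AutPSU.app_one, vN_junk k hk, vec_zero, smul_zero, add_zero]

/-- The code of the image of a coded vector under a transvection. -/
def step (k n : ℕ) : ℕ :=
  Nat.xor n (smulN (Cfsg.hermForm 6 F4 2 (vec n) (vec (vN k))) (vN k))

theorem vec_step (k n : ℕ) : vec (step k n) = AutPSU.app (M k) (vec n) := by
  rw [step, vec_xor, vec_smulN, M_apply]

theorem vec_word (w : List ℕ) (n : ℕ) :
    vec (w.foldr step n) = AutPSU.app (w.map M).prod (vec n) := by
  induction w with
  | nil => simp [AutPSU.app_one]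
  | cons k w ih => rw [List.foldr_cons, vec_step, ih, List.map_cons, List.prod_cons, AutPSU.app_mul]

/-! ### Words acting as scalars -/

/-- A word maps every unit vector to the same multiple of itself. -/
def scalarWord (w : List ℕ) : Bool :=
  [1, 2, 3].any fun c => (List.range 6).all fun i => Nat.beq (w.foldr step (4 ^ i)) (c * 4 ^ i)

theorem vec_unit : ∀ (c : Fin 4) (i : Fin 6),
    vec ((c : ℕ) * 4 ^ (i : ℕ)) = Pi.single i (⟨c⟩ : F4) := by decide +kernel

theorem word_central {w : List ℕ} (h : scalarWord w = true) :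
    (w.map M).prod ∈ Subgroup.center ↥(Cfsg.SU 6 F4 2) := by
  simp only [scalarWord, List.any_eq_true, List.all_eq_true, List.mem_range] at h
  obtain ⟨c, hc, h⟩ := h
  have hc4 : c < 4 := by
    simp at hc
    omega
  have happ : ∀ x : Fin 6 → F4, AutPSU.app (w.map M).prod x = (⟨⟨c, hc4⟩⟩ : F4) • x := by
    have he : ∀ i : Fin 6, AutPSU.app (w.map M).prod (Pi.single i 1) = Pi.single i (⟨⟨c, hc4⟩⟩ : F4) := by
      intro i
      have h1 : vec (4 ^ (i : ℕ)) = Pi.single i (1 : F4) := by
        have h2 := vec_unit 1 i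
        rw [Fin.val_one, one_mul] at h2
        exact h2
      rw [← h1, ← vec_word, Nat.eq_of_beq_eq_true (h i i.2)]
      exact vec_unit ⟨c, hc4⟩ i
    intro x
    conv_lhs => rw [pi_eq_sum_univ' x]
    rw [show AutPSU.app (w.map M).prod (∑ i, x i • Pi.single i 1) =
      ∑ i, x i • AutPSU.app (w.map M).prod (Pi.single i 1) from by
        simp [AutPSU.app, Matrix.mulVec_sum, Matrix.mulVec_smul]]
    simp only [he]
    funext j
    simp [Finset.sum_apply, Pi.single_apply, mul_comm]
  refine Subgroup.mem_center_iff.mpr fun g => AutPSU.su_ext fun v => ?_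
  show AutPSU.app (g * (w.map M).prod) v = AutPSU.app ((w.map M).prod * g) v
  rw [AutPSU.app_mul, AutPSU.app_mul, happ, happ, AutPSU.app_smul]

/-! ### Generation -/

/-- Check one point of the orbit. -/
def chkPt (i : ℕ) : Bool :=
  Nat.beq i 0 || (Nat.blt (field 16 prev i / 16) i &&
    Nat.beq (step (field 16 prev i % 16) (field 16 pts (field 16 prev i / 16))) (field 16 pts i))

/-- Check that a nonzero isotropic code is listed. -/
def chkVec (n : ℕ) : Bool :=
  Nat.beq n 0 || (Nat.blt (field 16 pos n) 2079 && Nat.beq (field 16 pts (field 16 pos n)) n) ||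
    decide (Cfsg.hermForm 6 F4 2 (vec n) (vec n) ≠ 0)

theorem pts_ok : allRange chkPt 64 0 2079 = true := by decide +kernel

theorem pts0 : field 16 pts 0 = vN 0 := by decide +kernel

theorem vecs_ok : allRange chkVec 64 0 4096 = true := by decide +kernel

/-- The transvections generate. -/
theorem closure_M : Subgroup.closure (Set.range M) = ⊤ := by
  set S := Subgroup.closure (Set.range M) with hS
  have horb : ∀ i, i < 2079 → ∃ g ∈ S, AutPSU.app g (vec (vN 0)) = vec (field 16 pts i) := by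
    intro i
    induction i using Nat.strong_induction_on with
    | _ i ih =>
      intro hi
      have h := allRange_spec 64 0 2079 pts_ok i (Nat.zero_le _) (by simpa using hi)
      simp only [chkPt, Bool.or_eq_true, Bool.and_eq_true] at h
      rcases h with h | ⟨h1, h2⟩
      · rw [Nat.eq_of_beq_eq_true h, pts0]
        exact ⟨1, one_mem _, AutPSU.app_one _⟩
      · have hlt := Table.blt_lt h1
        obtain ⟨g, hg, he⟩ := ih _ hlt (hlt.trans hi)
        refine ⟨M (field 16 prev i % 16) * g, mul_mem (Subgroup.subset_closure ⟨_, rfl⟩) hg, ?_⟩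
        rw [AutPSU.app_mul, he, ← vec_step, Nat.eq_of_beq_eq_true h2]
  obtain ⟨-, -, htop⟩ := ThreeTransp.unitary_class (F := F4) (n := 6) F4.card_eq (by norm_num)
  rw [eq_top_iff, ← htop, Subgroup.closure_le]
  intro g hg
  obtain ⟨x, hx, hx0, rfl⟩ := (ThreeTransp.unitary_mem_iff F4.card_eq g).1 hg
  have h := allRange_spec 64 0 4096 vecs_ok (enc x) (Nat.zero_le _) (by simpa using enc_lt x)
  simp only [chkVec, Bool.or_eq_true, Bool.and_eq_true, decide_eq_true_eq, vec_enc] at h
  rcases h with (h | ⟨h1, h2⟩) | h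
  · exact absurd (by rw [← vec_enc x, Nat.eq_of_beq_eq_true h, vec_zero]) hx0
  · obtain ⟨u, hu, he⟩ := horb _ (Table.blt_lt h1)
    rw [Nat.eq_of_beq_eq_true h2, vec_enc] at he
    have e : u * M 0 * u⁻¹ = AutPSU.tr x 1 (ThreeTransp.isT_one F4.card_eq hx) := by
      rw [M, AutPSU.tr_conj]
      exact AutPSU.tr_congr he rfl
    rw [← e]
    exact mul_mem (mul_mem hu (Subgroup.subset_closure ⟨0, rfl⟩)) (inv_mem hu)
  · exact absurd hx h

end Cfsg.Agent.Enum.U6
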