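import Cfsg.Agent.Lib.Enum.FiASteps0
import Cfsg.Agent.Lib.Enum.FiASteps1
import Cfsg.Agent.Lib.Enum.FiASteps2
import Cfsg.Agent.Lib.Enum.FiASteps3
import Cfsg.Agent.Lib.Enum.FiASuborbits

/-! Generated: the certified table. -/

set_option autoImplicit false
set_option maxRecDepth 10000

namespace Cfsg.Agent.Enum.FiA

open Cfsg.Agent.Enum

/-- The subgroup of the table. -/
noncomputable def sub : Subgroup presFi22.Grp :=
  Subgroup.closure {a | ∃ w ∈ data.subs, a = (w.map presFi22.g).prod}

theorem base_ok : baseRels.all (fun r => r ∈ presFi22.relWords ∨ r = []) = true := by decide +kernel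

theorem rot_ok : (data.rels.zip provenance).all (fun wp => Pres.RotOK baseRels wp.1 wp.2) = true := by
  decide +kernel

theorem rels_one : ∀ w ∈ data.rels, (w.map presFi22.g).prod = 1 :=
  presFi22.certRels_one baseRels provenance data.rels base_ok rot_ok rfl

theorem g15 : presFi22.g 15 = 1 := presFi22.g_junk 15 (by decide)

theorem subs_fix : ∀ w ∈ data.subs, Data.act presFi22.g w (QuotientGroup.mk (s := sub) (1 : presFi22.Grp)) =
    QuotientGroup.mk 1 := by
  intro w hw
  rw [Data.act_eq, Data.reverse_prod _ presFi22.g_mul_self]
  show QuotientGroup.mk (_ * (1 : presFi22.Grp)) = _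
  rw [QuotientGroup.eq]
  simp only [mul_one, inv_inv]
  exact Subgroup.subset_closure ⟨w, hw, rfl⟩

/-- The facts below a bound hold. -/
def Upto (k : ℕ) : Prop :=
  ∀ f, f < k → Data.Holds presFi22.g
    (Data.points presFi22.g data (QuotientGroup.mk (s := sub) (1 : presFi22.Grp))) (data.fact f)

theorem upto_step {k k' : ℕ} (l : List ℕ) (h : data.chkSteps k l = true) (hk : k' = k + l.length)
    (hu : Upto k) : Upto k' := by
  subst hk
  exact Data.chkSteps_sound _ presFi22.g_mul_self g15 data _ rels_one subs_fix l k hu h

theorem upto0 : Upto 0 := fun f hf => absurd hf (Nat.not_lt_zero f)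
theorem upto1 : Upto 256 := upto_step (k := 0) st0 chk0 (by decide +kernel) upto0
theorem upto2 : Upto 512 := upto_step (k := 256) st1 chk1 (by decide +kernel) upto1
theorem upto3 : Upto 768 := upto_step (k := 512) st2 chk2 (by decide +kernel) upto2
theorem upto4 : Upto 1024 := upto_step (k := 768) st3 chk3 (by decide +kernel) upto3
theorem upto5 : Upto 1280 := upto_step (k := 1024) st4 chk4 (by decide +kernel) upto4
theorem upto6 : Upto 1536 := upto_step (k := 1280) st5 chk5 (by decide +kernel) upto5
theorem upto7 : Upto 1792 := upto_step (k := 1536) st6 chk6 (by decide +kernel) upto6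
theorem upto8 : Upto 2048 := upto_step (k := 1792) st7 chk7 (by decide +kernel) upto7
theorem upto9 : Upto 2304 := upto_step (k := 2048) st8 chk8 (by decide +kernel) upto8
theorem upto10 : Upto 2560 := upto_step (k := 2304) st9 chk9 (by decide +kernel) upto9
theorem upto11 : Upto 2816 := upto_step (k := 2560) st10 chk10 (by decide +kernel) upto10
theorem upto12 : Upto 3072 := upto_step (k := 2816) st11 chk11 (by decide +kernel) upto11
theorem upto13 : Upto 3328 := upto_step (k := 3072) st12 chk12 (by decide +kernel) upto12
theorem upto14 : Upto 3584 := upto_step (k := 3328) st13 chk13 (by decide +kernel) upto13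
theorem upto15 : Upto 3840 := upto_step (k := 3584) st14 chk14 (by decide +kernel) upto14
theorem upto16 : Upto 4096 := upto_step (k := 3840) st15 chk15 (by decide +kernel) upto15
theorem upto17 : Upto 4352 := upto_step (k := 4096) st16 chk16 (by decide +kernel) upto16
theorem upto18 : Upto 4608 := upto_step (k := 4352) st17 chk17 (by decide +kernel) upto17
theorem upto19 : Upto 4864 := upto_step (k := 4608) st18 chk18 (by decide +kernel) upto18
theorem upto20 : Upto 5120 := upto_step (k := 4864) st19 chk19 (by decide +kernel) upto19
theorem upto21 : Upto 5376 := upto_step (k := 5120) st20 chk20 (by decide +kernel) upto20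
theorem upto22 : Upto 5632 := upto_step (k := 5376) st21 chk21 (by decide +kernel) upto21
theorem upto23 : Upto 5888 := upto_step (k := 5632) st22 chk22 (by decide +kernel) upto22
theorem upto24 : Upto 6144 := upto_step (k := 5888) st23 chk23 (by decide +kernel) upto23
theorem upto25 : Upto 6400 := upto_step (k := 6144) st24 chk24 (by decide +kernel) upto24
theorem upto26 : Upto 6656 := upto_step (k := 6400) st25 chk25 (by decide +kernel) upto25
theorem upto27 : Upto 6912 := upto_step (k := 6656) st26 chk26 (by decide +kernel) upto26
theorem upto28 : Upto 7168 := upto_step (k := 6912) st27 chk27 (by decide +kernel) upto27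
theorem upto29 : Upto 7424 := upto_step (k := 7168) st28 chk28 (by decide +kernel) upto28
theorem upto30 : Upto 7680 := upto_step (k := 7424) st29 chk29 (by decide +kernel) upto29
theorem upto31 : Upto 7936 := upto_step (k := 7680) st30 chk30 (by decide +kernel) upto30
theorem upto32 : Upto 8192 := upto_step (k := 7936) st31 chk31 (by decide +kernel) upto31
theorem upto33 : Upto 8448 := upto_step (k := 8192) st32 chk32 (by decide +kernel) upto32
theorem upto34 : Upto 8704 := upto_step (k := 8448) st33 chk33 (by decide +kernel) upto33
theorem upto35 : Upto 8960 := upto_step (k := 8704) st34 chk34 (by decide +kernel) upto34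
theorem upto36 : Upto 9216 := upto_step (k := 8960) st35 chk35 (by decide +kernel) upto35
theorem upto37 : Upto 9472 := upto_step (k := 9216) st36 chk36 (by decide +kernel) upto36
theorem upto38 : Upto 9728 := upto_step (k := 9472) st37 chk37 (by decide +kernel) upto37
theorem upto39 : Upto 9984 := upto_step (k := 9728) st38 chk38 (by decide +kernel) upto38
theorem upto40 : Upto 10240 := upto_step (k := 9984) st39 chk39 (by decide +kernel) upto39
theorem upto41 : Upto 10496 := upto_step (k := 10240) st40 chk40 (by decide +kernel) upto40
theorem upto42 : Upto 10752 := upto_step (k := 10496) st41 chk41 (by decide +kernel) upto41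
theorem upto43 : Upto 11008 := upto_step (k := 10752) st42 chk42 (by decide +kernel) upto42
theorem upto44 : Upto 11264 := upto_step (k := 11008) st43 chk43 (by decide +kernel) upto43
theorem upto45 : Upto 11520 := upto_step (k := 11264) st44 chk44 (by decide +kernel) upto44
theorem upto46 : Upto 11776 := upto_step (k := 11520) st45 chk45 (by decide +kernel) upto45
theorem upto47 : Upto 12032 := upto_step (k := 11776) st46 chk46 (by decide +kernel) upto46
theorem upto48 : Upto 12288 := upto_step (k := 12032) st47 chk47 (by decide +kernel) upto47
theorem upto49 : Upto 12544 := upto_step (k := 12288) st48 chk48 (by decide +kernel) upto48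
theorem upto50 : Upto 12800 := upto_step (k := 12544) st49 chk49 (by decide +kernel) upto49
theorem upto51 : Upto 13056 := upto_step (k := 12800) st50 chk50 (by decide +kernel) upto50
theorem upto52 : Upto 13312 := upto_step (k := 13056) st51 chk51 (by decide +kernel) upto51
theorem upto53 : Upto 13568 := upto_step (k := 13312) st52 chk52 (by decide +kernel) upto52
theorem upto54 : Upto 13824 := upto_step (k := 13568) st53 chk53 (by decide +kernel) upto53
theorem upto55 : Upto 14080 := upto_step (k := 13824) st54 chk54 (by decide +kernel) upto54
theorem upto56 : Upto 14336 := upto_step (k := 14080) st55 chk55 (by decide +kernel) upto55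
theorem upto57 : Upto 14592 := upto_step (k := 14336) st56 chk56 (by decide +kernel) upto56
theorem upto58 : Upto 14848 := upto_step (k := 14592) st57 chk57 (by decide +kernel) upto57
theorem upto59 : Upto 15104 := upto_step (k := 14848) st58 chk58 (by decide +kernel) upto58
theorem upto60 : Upto 15360 := upto_step (k := 15104) st59 chk59 (by decide +kernel) upto59
theorem upto61 : Upto 15616 := upto_step (k := 15360) st60 chk60 (by decide +kernel) upto60
theorem upto62 : Upto 15872 := upto_step (k := 15616) st61 chk61 (by decide +kernel) upto61
theorem upto63 : Upto 16128 := upto_step (k := 15872) st62 chk62 (by decide +kernel) upto62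
theorem upto64 : Upto 16384 := upto_step (k := 16128) st63 chk63 (by decide +kernel) upto63
theorem upto65 : Upto 16640 := upto_step (k := 16384) st64 chk64 (by decide +kernel) upto64
theorem upto66 : Upto 16896 := upto_step (k := 16640) st65 chk65 (by decide +kernel) upto65
theorem upto67 : Upto 17152 := upto_step (k := 16896) st66 chk66 (by decide +kernel) upto66
theorem upto68 : Upto 17408 := upto_step (k := 17152) st67 chk67 (by decide +kernel) upto67
theorem upto69 : Upto 17664 := upto_step (k := 17408) st68 chk68 (by decide +kernel) upto68
theorem upto70 : Upto 17920 := upto_step (k := 17664) st69 chk69 (by decide +kernel) upto69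
theorem upto71 : Upto 18176 := upto_step (k := 17920) st70 chk70 (by decide +kernel) upto70
theorem upto72 : Upto 18432 := upto_step (k := 18176) st71 chk71 (by decide +kernel) upto71
theorem upto73 : Upto 18688 := upto_step (k := 18432) st72 chk72 (by decide +kernel) upto72
theorem upto74 : Upto 18944 := upto_step (k := 18688) st73 chk73 (by decide +kernel) upto73
theorem upto75 : Upto 19035 := upto_step (k := 18944) st74 chk74 (by decide +kernel) upto74

theorem certified : Table.Certified presFi22.g sub table data where
  invol := invol
  pos := by decide
  invol_g := presFi22.g_mul_self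
  junk := fun x hx => presFi22.g_junk x hx
  gen := presFi22.g_gen
  facts := upto75
  links := links_ok
  labels := labels_ok
  rep_hom := presFi22.rep_hom table invol rfl (by decide) words_ok data.subs fix_ok sub le_rfl

theorem index_sub : sub.index = 3510 := Table.index_eq certified

theorem sub_words : sub = Subgroup.closure {a | ∃ w ∈ suborbits.words, a = (w.map presFi22.g).prod} := rfl

theorem count0 : suborbits.count 0 17 0 3510 = 1 := by decide +kernel

theorem orbit0 : ∃ q : presFi22.Grp ⧸ sub, (MulAction.orbit sub q).ncard = 1 :=
  ⟨_, (Suborbits.orbit_ncard certified suborbits suborbits_ok sub_words 0 (by decide +kernel)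
    (by decide +kernel) (by decide +kernel)).trans count0⟩

theorem count1 : suborbits.count 1 17 0 3510 = 2816 := by decide +kernel

theorem orbit1 : ∃ q : presFi22.Grp ⧸ sub, (MulAction.orbit sub q).ncard = 2816 :=
  ⟨_, (Suborbits.orbit_ncard certified suborbits suborbits_ok sub_words 1 (by decide +kernel)
    (by decide +kernel) (by decide +kernel)).trans count1⟩

theorem count2 : suborbits.count 2 17 0 3510 = 693 := by decide +kernel

theorem orbit2 : ∃ q : presFi22.Grp ⧸ sub, (MulAction.orbit sub q).ncard = 693 :=
  ⟨_, (Suborbits.orbit_ncard certified suborbits suborbits_ok sub_words 2 (by decide +kernel)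
    (by decide +kernel) (by decide +kernel)).trans count2⟩

end Cfsg.Agent.Enum.FiA
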