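import Cfsg.Agent.Lib.Enum.FiMSteps0
import Cfsg.Agent.Lib.Enum.FiMSteps1
import Cfsg.Agent.Lib.Enum.FiMSteps2
import Cfsg.Agent.Lib.Enum.FiMSteps3
import Cfsg.Agent.Lib.Enum.FiMSteps4
import Cfsg.Agent.Lib.Enum.FiMSteps5
import Cfsg.Agent.Lib.Enum.FiMSteps6
import Cfsg.Agent.Lib.Enum.FiMSteps7
import Cfsg.Agent.Lib.Enum.FiMSteps8
import Cfsg.Agent.Lib.Enum.FiMSteps9
import Cfsg.Agent.Lib.Enum.FiMSteps10
import Cfsg.Agent.Lib.Enum.FiMSteps11
import Cfsg.Agent.Lib.Enum.FiMSteps12
import Cfsg.Agent.Lib.Enum.FiMSteps13
import Cfsg.Agent.Lib.Enum.FiMSteps14
import Cfsg.Agent.Lib.Enum.FiMItems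

/-! Generated: upper bound for an index. -/

set_option autoImplicit false
set_option maxRecDepth 10000

namespace Cfsg.Agent.Enum.FiM

open Cfsg.Agent.Enum

theorem rot_ok : (data.rels.zip provenance).all (fun wp => Pres.RotOK baseRels wp.1 wp.2) = true := by
  decide +kernel

theorem upto_step {G : Type*} [Group G] {g : ℕ → G} (h : Holding g 9 baseRels) {k k' : ℕ}
    (l : List ℕ) (hc : data.chkSteps k l = true) (hk : k' = k + l.length)
    (hu : UptoFor g data k) : UptoFor g data k' :=
  uptoFor_step h (by decide) rot_ok rfl l hc hk hu

variable {G : Type*} [Group G] {g : ℕ → G} (h : Holding g 9 baseRels)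
include h

theorem upto0 : UptoFor g data 0 := uptoFor_zero _ _
theorem upto1 : UptoFor g data 256 := upto_step h (k := 0) st0 chk0 (by decide +kernel) (upto0 h)
theorem upto2 : UptoFor g data 512 := upto_step h (k := 256) st1 chk1 (by decide +kernel) (upto1 h)
theorem upto3 : UptoFor g data 768 := upto_step h (k := 512) st2 chk2 (by decide +kernel) (upto2 h)
theorem upto4 : UptoFor g data 1024 := upto_step h (k := 768) st3 chk3 (by decide +kernel) (upto3 h)
theorem upto5 : UptoFor g data 1280 := upto_step h (k := 1024) st4 chk4 (by decide +kernel) (upto4 h)
theorem upto6 : UptoFor g data 1536 := upto_step h (k := 1280) st5 chk5 (by decide +kernel) (upto5 h)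
theorem upto7 : UptoFor g data 1792 := upto_step h (k := 1536) st6 chk6 (by decide +kernel) (upto6 h)
theorem upto8 : UptoFor g data 2048 := upto_step h (k := 1792) st7 chk7 (by decide +kernel) (upto7 h)
theorem upto9 : UptoFor g data 2304 := upto_step h (k := 2048) st8 chk8 (by decide +kernel) (upto8 h)
theorem upto10 : UptoFor g data 2560 := upto_step h (k := 2304) st9 chk9 (by decide +kernel) (upto9 h)
theorem upto11 : UptoFor g data 2816 := upto_step h (k := 2560) st10 chk10 (by decide +kernel) (upto10 h)
theorem upto12 : UptoFor g data 3072 := upto_step h (k := 2816) st11 chk11 (by decide +kernel) (upto11 h)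
theorem upto13 : UptoFor g data 3328 := upto_step h (k := 3072) st12 chk12 (by decide +kernel) (upto12 h)
theorem upto14 : UptoFor g data 3584 := upto_step h (k := 3328) st13 chk13 (by decide +kernel) (upto13 h)
theorem upto15 : UptoFor g data 3840 := upto_step h (k := 3584) st14 chk14 (by decide +kernel) (upto14 h)
theorem upto16 : UptoFor g data 4096 := upto_step h (k := 3840) st15 chk15 (by decide +kernel) (upto15 h)
theorem upto17 : UptoFor g data 4352 := upto_step h (k := 4096) st16 chk16 (by decide +kernel) (upto16 h)
theorem upto18 : UptoFor g data 4608 := upto_step h (k := 4352) st17 chk17 (by decide +kernel) (upto17 h)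
theorem upto19 : UptoFor g data 4864 := upto_step h (k := 4608) st18 chk18 (by decide +kernel) (upto18 h)
theorem upto20 : UptoFor g data 5120 := upto_step h (k := 4864) st19 chk19 (by decide +kernel) (upto19 h)
theorem upto21 : UptoFor g data 5376 := upto_step h (k := 5120) st20 chk20 (by decide +kernel) (upto20 h)
theorem upto22 : UptoFor g data 5632 := upto_step h (k := 5376) st21 chk21 (by decide +kernel) (upto21 h)
theorem upto23 : UptoFor g data 5888 := upto_step h (k := 5632) st22 chk22 (by decide +kernel) (upto22 h)
theorem upto24 : UptoFor g data 6144 := upto_step h (k := 5888) st23 chk23 (by decide +kernel) (upto23 h)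
theorem upto25 : UptoFor g data 6400 := upto_step h (k := 6144) st24 chk24 (by decide +kernel) (upto24 h)
theorem upto26 : UptoFor g data 6656 := upto_step h (k := 6400) st25 chk25 (by decide +kernel) (upto25 h)
theorem upto27 : UptoFor g data 6912 := upto_step h (k := 6656) st26 chk26 (by decide +kernel) (upto26 h)
theorem upto28 : UptoFor g data 7168 := upto_step h (k := 6912) st27 chk27 (by decide +kernel) (upto27 h)
theorem upto29 : UptoFor g data 7424 := upto_step h (k := 7168) st28 chk28 (by decide +kernel) (upto28 h)
theorem upto30 : UptoFor g data 7680 := upto_step h (k := 7424) st29 chk29 (by decide +kernel) (upto29 h)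
theorem upto31 : UptoFor g data 7936 := upto_step h (k := 7680) st30 chk30 (by decide +kernel) (upto30 h)
theorem upto32 : UptoFor g data 8192 := upto_step h (k := 7936) st31 chk31 (by decide +kernel) (upto31 h)
theorem upto33 : UptoFor g data 8448 := upto_step h (k := 8192) st32 chk32 (by decide +kernel) (upto32 h)
theorem upto34 : UptoFor g data 8704 := upto_step h (k := 8448) st33 chk33 (by decide +kernel) (upto33 h)
theorem upto35 : UptoFor g data 8960 := upto_step h (k := 8704) st34 chk34 (by decide +kernel) (upto34 h)
theorem upto36 : UptoFor g data 9216 := upto_step h (k := 8960) st35 chk35 (by decide +kernel) (upto35 h)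
theorem upto37 : UptoFor g data 9472 := upto_step h (k := 9216) st36 chk36 (by decide +kernel) (upto36 h)
theorem upto38 : UptoFor g data 9728 := upto_step h (k := 9472) st37 chk37 (by decide +kernel) (upto37 h)
theorem upto39 : UptoFor g data 9984 := upto_step h (k := 9728) st38 chk38 (by decide +kernel) (upto38 h)
theorem upto40 : UptoFor g data 10240 := upto_step h (k := 9984) st39 chk39 (by decide +kernel) (upto39 h)
theorem upto41 : UptoFor g data 10496 := upto_step h (k := 10240) st40 chk40 (by decide +kernel) (upto40 h)
theorem upto42 : UptoFor g data 10752 := upto_step h (k := 10496) st41 chk41 (by decide +kernel) (upto41 h)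
theorem upto43 : UptoFor g data 11008 := upto_step h (k := 10752) st42 chk42 (by decide +kernel) (upto42 h)
theorem upto44 : UptoFor g data 11264 := upto_step h (k := 11008) st43 chk43 (by decide +kernel) (upto43 h)
theorem upto45 : UptoFor g data 11520 := upto_step h (k := 11264) st44 chk44 (by decide +kernel) (upto44 h)
theorem upto46 : UptoFor g data 11776 := upto_step h (k := 11520) st45 chk45 (by decide +kernel) (upto45 h)
theorem upto47 : UptoFor g data 12032 := upto_step h (k := 11776) st46 chk46 (by decide +kernel) (upto46 h)
theorem upto48 : UptoFor g data 12288 := upto_step h (k := 12032) st47 chk47 (by decide +kernel) (upto47 h)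
theorem upto49 : UptoFor g data 12544 := upto_step h (k := 12288) st48 chk48 (by decide +kernel) (upto48 h)
theorem upto50 : UptoFor g data 12800 := upto_step h (k := 12544) st49 chk49 (by decide +kernel) (upto49 h)
theorem upto51 : UptoFor g data 13056 := upto_step h (k := 12800) st50 chk50 (by decide +kernel) (upto50 h)
theorem upto52 : UptoFor g data 13312 := upto_step h (k := 13056) st51 chk51 (by decide +kernel) (upto51 h)
theorem upto53 : UptoFor g data 13568 := upto_step h (k := 13312) st52 chk52 (by decide +kernel) (upto52 h)
theorem upto54 : UptoFor g data 13824 := upto_step h (k := 13568) st53 chk53 (by decide +kernel) (upto53 h)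
theorem upto55 : UptoFor g data 14080 := upto_step h (k := 13824) st54 chk54 (by decide +kernel) (upto54 h)
theorem upto56 : UptoFor g data 14336 := upto_step h (k := 14080) st55 chk55 (by decide +kernel) (upto55 h)
theorem upto57 : UptoFor g data 14592 := upto_step h (k := 14336) st56 chk56 (by decide +kernel) (upto56 h)
theorem upto58 : UptoFor g data 14848 := upto_step h (k := 14592) st57 chk57 (by decide +kernel) (upto57 h)
theorem upto59 : UptoFor g data 15104 := upto_step h (k := 14848) st58 chk58 (by decide +kernel) (upto58 h)
theorem upto60 : UptoFor g data 15360 := upto_step h (k := 15104) st59 chk59 (by decide +kernel) (upto59 h)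
theorem upto61 : UptoFor g data 15616 := upto_step h (k := 15360) st60 chk60 (by decide +kernel) (upto60 h)
theorem upto62 : UptoFor g data 15872 := upto_step h (k := 15616) st61 chk61 (by decide +kernel) (upto61 h)
theorem upto63 : UptoFor g data 16128 := upto_step h (k := 15872) st62 chk62 (by decide +kernel) (upto62 h)
theorem upto64 : UptoFor g data 16384 := upto_step h (k := 16128) st63 chk63 (by decide +kernel) (upto63 h)
theorem upto65 : UptoFor g data 16640 := upto_step h (k := 16384) st64 chk64 (by decide +kernel) (upto64 h)
theorem upto66 : UptoFor g data 16896 := upto_step h (k := 16640) st65 chk65 (by decide +kernel) (upto65 h)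
theorem upto67 : UptoFor g data 17152 := upto_step h (k := 16896) st66 chk66 (by decide +kernel) (upto66 h)
theorem upto68 : UptoFor g data 17408 := upto_step h (k := 17152) st67 chk67 (by decide +kernel) (upto67 h)
theorem upto69 : UptoFor g data 17664 := upto_step h (k := 17408) st68 chk68 (by decide +kernel) (upto68 h)
theorem upto70 : UptoFor g data 17920 := upto_step h (k := 17664) st69 chk69 (by decide +kernel) (upto69 h)
theorem upto71 : UptoFor g data 18176 := upto_step h (k := 17920) st70 chk70 (by decide +kernel) (upto70 h)
theorem upto72 : UptoFor g data 18432 := upto_step h (k := 18176) st71 chk71 (by decide +kernel) (upto71 h)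
theorem upto73 : UptoFor g data 18688 := upto_step h (k := 18432) st72 chk72 (by decide +kernel) (upto72 h)
theorem upto74 : UptoFor g data 18944 := upto_step h (k := 18688) st73 chk73 (by decide +kernel) (upto73 h)
theorem upto75 : UptoFor g data 19200 := upto_step h (k := 18944) st74 chk74 (by decide +kernel) (upto74 h)
theorem upto76 : UptoFor g data 19456 := upto_step h (k := 19200) st75 chk75 (by decide +kernel) (upto75 h)
theorem upto77 : UptoFor g data 19712 := upto_step h (k := 19456) st76 chk76 (by decide +kernel) (upto76 h)
theorem upto78 : UptoFor g data 19968 := upto_step h (k := 19712) st77 chk77 (by decide +kernel) (upto77 h)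
theorem upto79 : UptoFor g data 20224 := upto_step h (k := 19968) st78 chk78 (by decide +kernel) (upto78 h)
theorem upto80 : UptoFor g data 20480 := upto_step h (k := 20224) st79 chk79 (by decide +kernel) (upto79 h)
theorem upto81 : UptoFor g data 20736 := upto_step h (k := 20480) st80 chk80 (by decide +kernel) (upto80 h)
theorem upto82 : UptoFor g data 20992 := upto_step h (k := 20736) st81 chk81 (by decide +kernel) (upto81 h)
theorem upto83 : UptoFor g data 21248 := upto_step h (k := 20992) st82 chk82 (by decide +kernel) (upto82 h)
theorem upto84 : UptoFor g data 21504 := upto_step h (k := 21248) st83 chk83 (by decide +kernel) (upto83 h)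
theorem upto85 : UptoFor g data 21760 := upto_step h (k := 21504) st84 chk84 (by decide +kernel) (upto84 h)
theorem upto86 : UptoFor g data 22016 := upto_step h (k := 21760) st85 chk85 (by decide +kernel) (upto85 h)
theorem upto87 : UptoFor g data 22272 := upto_step h (k := 22016) st86 chk86 (by decide +kernel) (upto86 h)
theorem upto88 : UptoFor g data 22528 := upto_step h (k := 22272) st87 chk87 (by decide +kernel) (upto87 h)
theorem upto89 : UptoFor g data 22784 := upto_step h (k := 22528) st88 chk88 (by decide +kernel) (upto88 h)
theorem upto90 : UptoFor g data 23040 := upto_step h (k := 22784) st89 chk89 (by decide +kernel) (upto89 h)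
theorem upto91 : UptoFor g data 23296 := upto_step h (k := 23040) st90 chk90 (by decide +kernel) (upto90 h)
theorem upto92 : UptoFor g data 23552 := upto_step h (k := 23296) st91 chk91 (by decide +kernel) (upto91 h)
theorem upto93 : UptoFor g data 23808 := upto_step h (k := 23552) st92 chk92 (by decide +kernel) (upto92 h)
theorem upto94 : UptoFor g data 24064 := upto_step h (k := 23808) st93 chk93 (by decide +kernel) (upto93 h)
theorem upto95 : UptoFor g data 24320 := upto_step h (k := 24064) st94 chk94 (by decide +kernel) (upto94 h)
theorem upto96 : UptoFor g data 24576 := upto_step h (k := 24320) st95 chk95 (by decide +kernel) (upto95 h)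
theorem upto97 : UptoFor g data 24832 := upto_step h (k := 24576) st96 chk96 (by decide +kernel) (upto96 h)
theorem upto98 : UptoFor g data 25088 := upto_step h (k := 24832) st97 chk97 (by decide +kernel) (upto97 h)
theorem upto99 : UptoFor g data 25344 := upto_step h (k := 25088) st98 chk98 (by decide +kernel) (upto98 h)
theorem upto100 : UptoFor g data 25600 := upto_step h (k := 25344) st99 chk99 (by decide +kernel) (upto99 h)
theorem upto101 : UptoFor g data 25856 := upto_step h (k := 25600) st100 chk100 (by decide +kernel) (upto100 h)
theorem upto102 : UptoFor g data 26112 := upto_step h (k := 25856) st101 chk101 (by decide +kernel) (upto101 h)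
theorem upto103 : UptoFor g data 26368 := upto_step h (k := 26112) st102 chk102 (by decide +kernel) (upto102 h)
theorem upto104 : UptoFor g data 26624 := upto_step h (k := 26368) st103 chk103 (by decide +kernel) (upto103 h)
theorem upto105 : UptoFor g data 26880 := upto_step h (k := 26624) st104 chk104 (by decide +kernel) (upto104 h)
theorem upto106 : UptoFor g data 27136 := upto_step h (k := 26880) st105 chk105 (by decide +kernel) (upto105 h)
theorem upto107 : UptoFor g data 27392 := upto_step h (k := 27136) st106 chk106 (by decide +kernel) (upto106 h)
theorem upto108 : UptoFor g data 27648 := upto_step h (k := 27392) st107 chk107 (by decide +kernel) (upto107 h)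
theorem upto109 : UptoFor g data 27904 := upto_step h (k := 27648) st108 chk108 (by decide +kernel) (upto108 h)
theorem upto110 : UptoFor g data 28160 := upto_step h (k := 27904) st109 chk109 (by decide +kernel) (upto109 h)
theorem upto111 : UptoFor g data 28416 := upto_step h (k := 28160) st110 chk110 (by decide +kernel) (upto110 h)
theorem upto112 : UptoFor g data 28672 := upto_step h (k := 28416) st111 chk111 (by decide +kernel) (upto111 h)
theorem upto113 : UptoFor g data 28928 := upto_step h (k := 28672) st112 chk112 (by decide +kernel) (upto112 h)
theorem upto114 : UptoFor g data 29184 := upto_step h (k := 28928) st113 chk113 (by decide +kernel) (upto113 h)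
theorem upto115 : UptoFor g data 29440 := upto_step h (k := 29184) st114 chk114 (by decide +kernel) (upto114 h)
theorem upto116 : UptoFor g data 29696 := upto_step h (k := 29440) st115 chk115 (by decide +kernel) (upto115 h)
theorem upto117 : UptoFor g data 29952 := upto_step h (k := 29696) st116 chk116 (by decide +kernel) (upto116 h)
theorem upto118 : UptoFor g data 30208 := upto_step h (k := 29952) st117 chk117 (by decide +kernel) (upto117 h)
theorem upto119 : UptoFor g data 30464 := upto_step h (k := 30208) st118 chk118 (by decide +kernel) (upto118 h)
theorem upto120 : UptoFor g data 30720 := upto_step h (k := 30464) st119 chk119 (by decide +kernel) (upto119 h)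
theorem upto121 : UptoFor g data 30976 := upto_step h (k := 30720) st120 chk120 (by decide +kernel) (upto120 h)
theorem upto122 : UptoFor g data 31232 := upto_step h (k := 30976) st121 chk121 (by decide +kernel) (upto121 h)
theorem upto123 : UptoFor g data 31488 := upto_step h (k := 31232) st122 chk122 (by decide +kernel) (upto122 h)
theorem upto124 : UptoFor g data 31744 := upto_step h (k := 31488) st123 chk123 (by decide +kernel) (upto123 h)
theorem upto125 : UptoFor g data 32000 := upto_step h (k := 31744) st124 chk124 (by decide +kernel) (upto124 h)
theorem upto126 : UptoFor g data 32256 := upto_step h (k := 32000) st125 chk125 (by decide +kernel) (upto125 h)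
theorem upto127 : UptoFor g data 32512 := upto_step h (k := 32256) st126 chk126 (by decide +kernel) (upto126 h)
theorem upto128 : UptoFor g data 32768 := upto_step h (k := 32512) st127 chk127 (by decide +kernel) (upto127 h)
theorem upto129 : UptoFor g data 33024 := upto_step h (k := 32768) st128 chk128 (by decide +kernel) (upto128 h)
theorem upto130 : UptoFor g data 33280 := upto_step h (k := 33024) st129 chk129 (by decide +kernel) (upto129 h)
theorem upto131 : UptoFor g data 33536 := upto_step h (k := 33280) st130 chk130 (by decide +kernel) (upto130 h)
theorem upto132 : UptoFor g data 33792 := upto_step h (k := 33536) st131 chk131 (by decide +kernel) (upto131 h)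
theorem upto133 : UptoFor g data 34048 := upto_step h (k := 33792) st132 chk132 (by decide +kernel) (upto132 h)
theorem upto134 : UptoFor g data 34304 := upto_step h (k := 34048) st133 chk133 (by decide +kernel) (upto133 h)
theorem upto135 : UptoFor g data 34560 := upto_step h (k := 34304) st134 chk134 (by decide +kernel) (upto134 h)
theorem upto136 : UptoFor g data 34816 := upto_step h (k := 34560) st135 chk135 (by decide +kernel) (upto135 h)
theorem upto137 : UptoFor g data 35072 := upto_step h (k := 34816) st136 chk136 (by decide +kernel) (upto136 h)
theorem upto138 : UptoFor g data 35328 := upto_step h (k := 35072) st137 chk137 (by decide +kernel) (upto137 h)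
theorem upto139 : UptoFor g data 35584 := upto_step h (k := 35328) st138 chk138 (by decide +kernel) (upto138 h)
theorem upto140 : UptoFor g data 35840 := upto_step h (k := 35584) st139 chk139 (by decide +kernel) (upto139 h)
theorem upto141 : UptoFor g data 36096 := upto_step h (k := 35840) st140 chk140 (by decide +kernel) (upto140 h)
theorem upto142 : UptoFor g data 36352 := upto_step h (k := 36096) st141 chk141 (by decide +kernel) (upto141 h)
theorem upto143 : UptoFor g data 36608 := upto_step h (k := 36352) st142 chk142 (by decide +kernel) (upto142 h)
theorem upto144 : UptoFor g data 36864 := upto_step h (k := 36608) st143 chk143 (by decide +kernel) (upto143 h)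
theorem upto145 : UptoFor g data 37120 := upto_step h (k := 36864) st144 chk144 (by decide +kernel) (upto144 h)
theorem upto146 : UptoFor g data 37376 := upto_step h (k := 37120) st145 chk145 (by decide +kernel) (upto145 h)
theorem upto147 : UptoFor g data 37632 := upto_step h (k := 37376) st146 chk146 (by decide +kernel) (upto146 h)
theorem upto148 : UptoFor g data 37888 := upto_step h (k := 37632) st147 chk147 (by decide +kernel) (upto147 h)
theorem upto149 : UptoFor g data 38144 := upto_step h (k := 37888) st148 chk148 (by decide +kernel) (upto148 h)
theorem upto150 : UptoFor g data 38400 := upto_step h (k := 38144) st149 chk149 (by decide +kernel) (upto149 h)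
theorem upto151 : UptoFor g data 38656 := upto_step h (k := 38400) st150 chk150 (by decide +kernel) (upto150 h)
theorem upto152 : UptoFor g data 38912 := upto_step h (k := 38656) st151 chk151 (by decide +kernel) (upto151 h)
theorem upto153 : UptoFor g data 39168 := upto_step h (k := 38912) st152 chk152 (by decide +kernel) (upto152 h)
theorem upto154 : UptoFor g data 39424 := upto_step h (k := 39168) st153 chk153 (by decide +kernel) (upto153 h)
theorem upto155 : UptoFor g data 39680 := upto_step h (k := 39424) st154 chk154 (by decide +kernel) (upto154 h)
theorem upto156 : UptoFor g data 39936 := upto_step h (k := 39680) st155 chk155 (by decide +kernel) (upto155 h)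
theorem upto157 : UptoFor g data 40192 := upto_step h (k := 39936) st156 chk156 (by decide +kernel) (upto156 h)
theorem upto158 : UptoFor g data 40448 := upto_step h (k := 40192) st157 chk157 (by decide +kernel) (upto157 h)
theorem upto159 : UptoFor g data 40704 := upto_step h (k := 40448) st158 chk158 (by decide +kernel) (upto158 h)
theorem upto160 : UptoFor g data 40960 := upto_step h (k := 40704) st159 chk159 (by decide +kernel) (upto159 h)
theorem upto161 : UptoFor g data 41216 := upto_step h (k := 40960) st160 chk160 (by decide +kernel) (upto160 h)
theorem upto162 : UptoFor g data 41472 := upto_step h (k := 41216) st161 chk161 (by decide +kernel) (upto161 h)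
theorem upto163 : UptoFor g data 41728 := upto_step h (k := 41472) st162 chk162 (by decide +kernel) (upto162 h)
theorem upto164 : UptoFor g data 41984 := upto_step h (k := 41728) st163 chk163 (by decide +kernel) (upto163 h)
theorem upto165 : UptoFor g data 42240 := upto_step h (k := 41984) st164 chk164 (by decide +kernel) (upto164 h)
theorem upto166 : UptoFor g data 42496 := upto_step h (k := 42240) st165 chk165 (by decide +kernel) (upto165 h)
theorem upto167 : UptoFor g data 42752 := upto_step h (k := 42496) st166 chk166 (by decide +kernel) (upto166 h)
theorem upto168 : UptoFor g data 43008 := upto_step h (k := 42752) st167 chk167 (by decide +kernel) (upto167 h)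
theorem upto169 : UptoFor g data 43264 := upto_step h (k := 43008) st168 chk168 (by decide +kernel) (upto168 h)
theorem upto170 : UptoFor g data 43520 := upto_step h (k := 43264) st169 chk169 (by decide +kernel) (upto169 h)
theorem upto171 : UptoFor g data 43776 := upto_step h (k := 43520) st170 chk170 (by decide +kernel) (upto170 h)
theorem upto172 : UptoFor g data 44032 := upto_step h (k := 43776) st171 chk171 (by decide +kernel) (upto171 h)
theorem upto173 : UptoFor g data 44288 := upto_step h (k := 44032) st172 chk172 (by decide +kernel) (upto172 h)
theorem upto174 : UptoFor g data 44544 := upto_step h (k := 44288) st173 chk173 (by decide +kernel) (upto173 h)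
theorem upto175 : UptoFor g data 44800 := upto_step h (k := 44544) st174 chk174 (by decide +kernel) (upto174 h)
theorem upto176 : UptoFor g data 45056 := upto_step h (k := 44800) st175 chk175 (by decide +kernel) (upto175 h)
theorem upto177 : UptoFor g data 45312 := upto_step h (k := 45056) st176 chk176 (by decide +kernel) (upto176 h)
theorem upto178 : UptoFor g data 45568 := upto_step h (k := 45312) st177 chk177 (by decide +kernel) (upto177 h)
theorem upto179 : UptoFor g data 45824 := upto_step h (k := 45568) st178 chk178 (by decide +kernel) (upto178 h)
theorem upto180 : UptoFor g data 46080 := upto_step h (k := 45824) st179 chk179 (by decide +kernel) (upto179 h)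
theorem upto181 : UptoFor g data 46336 := upto_step h (k := 46080) st180 chk180 (by decide +kernel) (upto180 h)
theorem upto182 : UptoFor g data 46592 := upto_step h (k := 46336) st181 chk181 (by decide +kernel) (upto181 h)
theorem upto183 : UptoFor g data 46848 := upto_step h (k := 46592) st182 chk182 (by decide +kernel) (upto182 h)
theorem upto184 : UptoFor g data 47104 := upto_step h (k := 46848) st183 chk183 (by decide +kernel) (upto183 h)
theorem upto185 : UptoFor g data 47360 := upto_step h (k := 47104) st184 chk184 (by decide +kernel) (upto184 h)
theorem upto186 : UptoFor g data 47616 := upto_step h (k := 47360) st185 chk185 (by decide +kernel) (upto185 h)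
theorem upto187 : UptoFor g data 47872 := upto_step h (k := 47616) st186 chk186 (by decide +kernel) (upto186 h)
theorem upto188 : UptoFor g data 48128 := upto_step h (k := 47872) st187 chk187 (by decide +kernel) (upto187 h)
theorem upto189 : UptoFor g data 48384 := upto_step h (k := 48128) st188 chk188 (by decide +kernel) (upto188 h)
theorem upto190 : UptoFor g data 48640 := upto_step h (k := 48384) st189 chk189 (by decide +kernel) (upto189 h)
theorem upto191 : UptoFor g data 48896 := upto_step h (k := 48640) st190 chk190 (by decide +kernel) (upto190 h)
theorem upto192 : UptoFor g data 49152 := upto_step h (k := 48896) st191 chk191 (by decide +kernel) (upto191 h)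
theorem upto193 : UptoFor g data 49408 := upto_step h (k := 49152) st192 chk192 (by decide +kernel) (upto192 h)
theorem upto194 : UptoFor g data 49664 := upto_step h (k := 49408) st193 chk193 (by decide +kernel) (upto193 h)
theorem upto195 : UptoFor g data 49920 := upto_step h (k := 49664) st194 chk194 (by decide +kernel) (upto194 h)
theorem upto196 : UptoFor g data 50176 := upto_step h (k := 49920) st195 chk195 (by decide +kernel) (upto195 h)
theorem upto197 : UptoFor g data 50432 := upto_step h (k := 50176) st196 chk196 (by decide +kernel) (upto196 h)
theorem upto198 : UptoFor g data 50688 := upto_step h (k := 50432) st197 chk197 (by decide +kernel) (upto197 h)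
theorem upto199 : UptoFor g data 50944 := upto_step h (k := 50688) st198 chk198 (by decide +kernel) (upto198 h)
theorem upto200 : UptoFor g data 51200 := upto_step h (k := 50944) st199 chk199 (by decide +kernel) (upto199 h)
theorem upto201 : UptoFor g data 51456 := upto_step h (k := 51200) st200 chk200 (by decide +kernel) (upto200 h)
theorem upto202 : UptoFor g data 51712 := upto_step h (k := 51456) st201 chk201 (by decide +kernel) (upto201 h)
theorem upto203 : UptoFor g data 51968 := upto_step h (k := 51712) st202 chk202 (by decide +kernel) (upto202 h)
theorem upto204 : UptoFor g data 52224 := upto_step h (k := 51968) st203 chk203 (by decide +kernel) (upto203 h)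
theorem upto205 : UptoFor g data 52480 := upto_step h (k := 52224) st204 chk204 (by decide +kernel) (upto204 h)
theorem upto206 : UptoFor g data 52736 := upto_step h (k := 52480) st205 chk205 (by decide +kernel) (upto205 h)
theorem upto207 : UptoFor g data 52992 := upto_step h (k := 52736) st206 chk206 (by decide +kernel) (upto206 h)
theorem upto208 : UptoFor g data 53248 := upto_step h (k := 52992) st207 chk207 (by decide +kernel) (upto207 h)
theorem upto209 : UptoFor g data 53504 := upto_step h (k := 53248) st208 chk208 (by decide +kernel) (upto208 h)
theorem upto210 : UptoFor g data 53760 := upto_step h (k := 53504) st209 chk209 (by decide +kernel) (upto209 h)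
theorem upto211 : UptoFor g data 54016 := upto_step h (k := 53760) st210 chk210 (by decide +kernel) (upto210 h)
theorem upto212 : UptoFor g data 54272 := upto_step h (k := 54016) st211 chk211 (by decide +kernel) (upto211 h)
theorem upto213 : UptoFor g data 54528 := upto_step h (k := 54272) st212 chk212 (by decide +kernel) (upto212 h)
theorem upto214 : UptoFor g data 54784 := upto_step h (k := 54528) st213 chk213 (by decide +kernel) (upto213 h)
theorem upto215 : UptoFor g data 55040 := upto_step h (k := 54784) st214 chk214 (by decide +kernel) (upto214 h)
theorem upto216 : UptoFor g data 55296 := upto_step h (k := 55040) st215 chk215 (by decide +kernel) (upto215 h)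
theorem upto217 : UptoFor g data 55552 := upto_step h (k := 55296) st216 chk216 (by decide +kernel) (upto216 h)
theorem upto218 : UptoFor g data 55808 := upto_step h (k := 55552) st217 chk217 (by decide +kernel) (upto217 h)
theorem upto219 : UptoFor g data 56064 := upto_step h (k := 55808) st218 chk218 (by decide +kernel) (upto218 h)
theorem upto220 : UptoFor g data 56320 := upto_step h (k := 56064) st219 chk219 (by decide +kernel) (upto219 h)
theorem upto221 : UptoFor g data 56576 := upto_step h (k := 56320) st220 chk220 (by decide +kernel) (upto220 h)
theorem upto222 : UptoFor g data 56832 := upto_step h (k := 56576) st221 chk221 (by decide +kernel) (upto221 h)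
theorem upto223 : UptoFor g data 57088 := upto_step h (k := 56832) st222 chk222 (by decide +kernel) (upto222 h)
theorem upto224 : UptoFor g data 57344 := upto_step h (k := 57088) st223 chk223 (by decide +kernel) (upto223 h)
theorem upto225 : UptoFor g data 57600 := upto_step h (k := 57344) st224 chk224 (by decide +kernel) (upto224 h)
theorem upto226 : UptoFor g data 57856 := upto_step h (k := 57600) st225 chk225 (by decide +kernel) (upto225 h)
theorem upto227 : UptoFor g data 58112 := upto_step h (k := 57856) st226 chk226 (by decide +kernel) (upto226 h)
theorem upto228 : UptoFor g data 58368 := upto_step h (k := 58112) st227 chk227 (by decide +kernel) (upto227 h)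
theorem upto229 : UptoFor g data 58624 := upto_step h (k := 58368) st228 chk228 (by decide +kernel) (upto228 h)
theorem upto230 : UptoFor g data 58880 := upto_step h (k := 58624) st229 chk229 (by decide +kernel) (upto229 h)
theorem upto231 : UptoFor g data 59136 := upto_step h (k := 58880) st230 chk230 (by decide +kernel) (upto230 h)
theorem upto232 : UptoFor g data 59392 := upto_step h (k := 59136) st231 chk231 (by decide +kernel) (upto231 h)
theorem upto233 : UptoFor g data 59648 := upto_step h (k := 59392) st232 chk232 (by decide +kernel) (upto232 h)
theorem upto234 : UptoFor g data 59904 := upto_step h (k := 59648) st233 chk233 (by decide +kernel) (upto233 h)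
theorem upto235 : UptoFor g data 60160 := upto_step h (k := 59904) st234 chk234 (by decide +kernel) (upto234 h)
theorem upto236 : UptoFor g data 60416 := upto_step h (k := 60160) st235 chk235 (by decide +kernel) (upto235 h)
theorem upto237 : UptoFor g data 60672 := upto_step h (k := 60416) st236 chk236 (by decide +kernel) (upto236 h)
theorem upto238 : UptoFor g data 60928 := upto_step h (k := 60672) st237 chk237 (by decide +kernel) (upto237 h)
theorem upto239 : UptoFor g data 61184 := upto_step h (k := 60928) st238 chk238 (by decide +kernel) (upto238 h)
theorem upto240 : UptoFor g data 61440 := upto_step h (k := 61184) st239 chk239 (by decide +kernel) (upto239 h)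
theorem upto241 : UptoFor g data 61696 := upto_step h (k := 61440) st240 chk240 (by decide +kernel) (upto240 h)
theorem upto242 : UptoFor g data 61952 := upto_step h (k := 61696) st241 chk241 (by decide +kernel) (upto241 h)
theorem upto243 : UptoFor g data 62208 := upto_step h (k := 61952) st242 chk242 (by decide +kernel) (upto242 h)
theorem upto244 : UptoFor g data 62464 := upto_step h (k := 62208) st243 chk243 (by decide +kernel) (upto243 h)
theorem upto245 : UptoFor g data 62720 := upto_step h (k := 62464) st244 chk244 (by decide +kernel) (upto244 h)
theorem upto246 : UptoFor g data 62976 := upto_step h (k := 62720) st245 chk245 (by decide +kernel) (upto245 h)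
theorem upto247 : UptoFor g data 63232 := upto_step h (k := 62976) st246 chk246 (by decide +kernel) (upto246 h)
theorem upto248 : UptoFor g data 63488 := upto_step h (k := 63232) st247 chk247 (by decide +kernel) (upto247 h)
theorem upto249 : UptoFor g data 63744 := upto_step h (k := 63488) st248 chk248 (by decide +kernel) (upto248 h)
theorem upto250 : UptoFor g data 64000 := upto_step h (k := 63744) st249 chk249 (by decide +kernel) (upto249 h)
theorem upto251 : UptoFor g data 64256 := upto_step h (k := 64000) st250 chk250 (by decide +kernel) (upto250 h)
theorem upto252 : UptoFor g data 64512 := upto_step h (k := 64256) st251 chk251 (by decide +kernel) (upto251 h)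
theorem upto253 : UptoFor g data 64768 := upto_step h (k := 64512) st252 chk252 (by decide +kernel) (upto252 h)
theorem upto254 : UptoFor g data 65024 := upto_step h (k := 64768) st253 chk253 (by decide +kernel) (upto253 h)
theorem upto255 : UptoFor g data 65280 := upto_step h (k := 65024) st254 chk254 (by decide +kernel) (upto254 h)
theorem upto256 : UptoFor g data 65536 := upto_step h (k := 65280) st255 chk255 (by decide +kernel) (upto255 h)
theorem upto257 : UptoFor g data 65792 := upto_step h (k := 65536) st256 chk256 (by decide +kernel) (upto256 h)
theorem upto258 : UptoFor g data 66048 := upto_step h (k := 65792) st257 chk257 (by decide +kernel) (upto257 h)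
theorem upto259 : UptoFor g data 66304 := upto_step h (k := 66048) st258 chk258 (by decide +kernel) (upto258 h)
theorem upto260 : UptoFor g data 66560 := upto_step h (k := 66304) st259 chk259 (by decide +kernel) (upto259 h)
theorem upto261 : UptoFor g data 66816 := upto_step h (k := 66560) st260 chk260 (by decide +kernel) (upto260 h)
theorem upto262 : UptoFor g data 67072 := upto_step h (k := 66816) st261 chk261 (by decide +kernel) (upto261 h)
theorem upto263 : UptoFor g data 67328 := upto_step h (k := 67072) st262 chk262 (by decide +kernel) (upto262 h)
theorem upto264 : UptoFor g data 67584 := upto_step h (k := 67328) st263 chk263 (by decide +kernel) (upto263 h)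
theorem upto265 : UptoFor g data 67840 := upto_step h (k := 67584) st264 chk264 (by decide +kernel) (upto264 h)
theorem upto266 : UptoFor g data 68096 := upto_step h (k := 67840) st265 chk265 (by decide +kernel) (upto265 h)
theorem upto267 : UptoFor g data 68352 := upto_step h (k := 68096) st266 chk266 (by decide +kernel) (upto266 h)
theorem upto268 : UptoFor g data 68608 := upto_step h (k := 68352) st267 chk267 (by decide +kernel) (upto267 h)
theorem upto269 : UptoFor g data 68864 := upto_step h (k := 68608) st268 chk268 (by decide +kernel) (upto268 h)
theorem upto270 : UptoFor g data 69120 := upto_step h (k := 68864) st269 chk269 (by decide +kernel) (upto269 h)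
theorem upto271 : UptoFor g data 69376 := upto_step h (k := 69120) st270 chk270 (by decide +kernel) (upto270 h)
theorem upto272 : UptoFor g data 69632 := upto_step h (k := 69376) st271 chk271 (by decide +kernel) (upto271 h)
theorem upto273 : UptoFor g data 69888 := upto_step h (k := 69632) st272 chk272 (by decide +kernel) (upto272 h)
theorem upto274 : UptoFor g data 70144 := upto_step h (k := 69888) st273 chk273 (by decide +kernel) (upto273 h)
theorem upto275 : UptoFor g data 70400 := upto_step h (k := 70144) st274 chk274 (by decide +kernel) (upto274 h)
theorem upto276 : UptoFor g data 70656 := upto_step h (k := 70400) st275 chk275 (by decide +kernel) (upto275 h)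
theorem upto277 : UptoFor g data 70912 := upto_step h (k := 70656) st276 chk276 (by decide +kernel) (upto276 h)
theorem upto278 : UptoFor g data 71168 := upto_step h (k := 70912) st277 chk277 (by decide +kernel) (upto277 h)
theorem upto279 : UptoFor g data 71424 := upto_step h (k := 71168) st278 chk278 (by decide +kernel) (upto278 h)
theorem upto280 : UptoFor g data 71680 := upto_step h (k := 71424) st279 chk279 (by decide +kernel) (upto279 h)
theorem upto281 : UptoFor g data 71936 := upto_step h (k := 71680) st280 chk280 (by decide +kernel) (upto280 h)
theorem upto282 : UptoFor g data 72192 := upto_step h (k := 71936) st281 chk281 (by decide +kernel) (upto281 h)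
theorem upto283 : UptoFor g data 72448 := upto_step h (k := 72192) st282 chk282 (by decide +kernel) (upto282 h)
theorem upto284 : UptoFor g data 72704 := upto_step h (k := 72448) st283 chk283 (by decide +kernel) (upto283 h)
theorem upto285 : UptoFor g data 72960 := upto_step h (k := 72704) st284 chk284 (by decide +kernel) (upto284 h)
theorem upto286 : UptoFor g data 73216 := upto_step h (k := 72960) st285 chk285 (by decide +kernel) (upto285 h)
theorem upto287 : UptoFor g data 73472 := upto_step h (k := 73216) st286 chk286 (by decide +kernel) (upto286 h)
theorem upto288 : UptoFor g data 73728 := upto_step h (k := 73472) st287 chk287 (by decide +kernel) (upto287 h)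
theorem upto289 : UptoFor g data 73984 := upto_step h (k := 73728) st288 chk288 (by decide +kernel) (upto288 h)
theorem upto290 : UptoFor g data 74240 := upto_step h (k := 73984) st289 chk289 (by decide +kernel) (upto289 h)
theorem upto291 : UptoFor g data 74427 := upto_step h (k := 74240) st290 chk290 (by decide +kernel) (upto290 h)

theorem covers (hgen : Subgroup.closure (Set.range g) = ⊤) :
    Covers g (wordClosure g data.subs) cover data where
  pos := by decide
  invol_g := h.invol
  junk := h.junk
  gen := hgen
  facts := upto291 h
  edges := edges55
  rep0 := by decide +kernel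

end Cfsg.Agent.Enum.FiM
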