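import Cfsg.Agent.Lib.Enum.FiNSteps0
import Cfsg.Agent.Lib.Enum.FiNSteps1
import Cfsg.Agent.Lib.Enum.FiNSteps2
import Cfsg.Agent.Lib.Enum.FiNSteps3
import Cfsg.Agent.Lib.Enum.FiNSteps4
import Cfsg.Agent.Lib.Enum.FiNItems

/-! Generated: upper bound for an index. -/

set_option autoImplicit false
set_option maxRecDepth 10000

namespace Cfsg.Agent.Enum.FiN

open Cfsg.Agent.Enum

theorem rot_ok : (data.rels.zip provenance).all (fun wp => Pres.RotOK baseRels wp.1 wp.2) = true := by
  decide +kernel

theorem upto_step {G : Type*} [Group G] {g : ℕ → G} (h : Holding g 8 baseRels) {k k' : ℕ}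
    (l : List ℕ) (hc : data.chkSteps k l = true) (hk : k' = k + l.length)
    (hu : UptoFor g data k) : UptoFor g data k' :=
  uptoFor_step h (by decide) rot_ok rfl l hc hk hu

variable {G : Type*} [Group G] {g : ℕ → G} (h : Holding g 8 baseRels)
include h

theorem upto0 : UptoFor g data 0 := uptoFor_zero _ _
theorem upto1 : UptoFor g data 256 := upto_step h (k := 0) st0 chk0 (by decide +kernel) (upto0 h)
theorem upto2 : UptoFor g data 512 := upto_step h (k := 256) st1 chk1 (by decide +kernel) (upto1 h)
theorem upto3 : UptoFor g data 768 := upto_step h (k := 512) st2 chk2 (by decide +kernel) (upto2 h)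
theorem upto4 : UptoFor g data 1024 := upto_step h (k := 768) st3 chk3 (by decide +kernel) (upto3 h)
theorem upto5 : UptoFor g data 1280 := upto_step h (k := 1024) st4 chk4 (by decide +kernel) (upto4 h)
theorem upto6 : UptoFor g data 1536 := upto_step h (k := 1280) st5 chk5 (by decide +kernel) (upto5 h)
theorem upto7 : UptoFor g data 1792 := upto_step h (k := 1536) st6 chk6 (by decide +kernel) (upto6 h)
theorem upto8 : UptoFor g data 2048 := upto_step h (k := 1792) st7 chk7 (by decide +kernel) (upto7 h)
theorem upto9 : UptoFor g data 2304 := upto_step h (k := 2048) st8 chk8 (by decide +kernel) (upto8 h)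
theorem upto10 : UptoFor g data 2560 := upto_step h (k := 2304) st9 chk9 (by decide +kernel) (upto9 h)
theorem upto11 : UptoFor g data 2816 := upto_step h (k := 2560) st10 chk10 (by decide +kernel) (upto10 h)
theorem upto12 : UptoFor g data 3072 := upto_step h (k := 2816) st11 chk11 (by decide +kernel) (upto11 h)
theorem upto13 : UptoFor g data 3328 := upto_step h (k := 3072) st12 chk12 (by decide +kernel) (upto12 h)
theorem upto14 : UptoFor g data 3584 := upto_step h (k := 3328) st13 chk13 (by decide +kernel) (upto13 h)
theorem upto15 : UptoFor g data 3840 := upto_step h (k := 3584) st14 chk14 (by decide +kernel) (upto14 h)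
theorem upto16 : UptoFor g data 4096 := upto_step h (k := 3840) st15 chk15 (by decide +kernel) (upto15 h)
theorem upto17 : UptoFor g data 4352 := upto_step h (k := 4096) st16 chk16 (by decide +kernel) (upto16 h)
theorem upto18 : UptoFor g data 4608 := upto_step h (k := 4352) st17 chk17 (by decide +kernel) (upto17 h)
theorem upto19 : UptoFor g data 4864 := upto_step h (k := 4608) st18 chk18 (by decide +kernel) (upto18 h)
theorem upto20 : UptoFor g data 5120 := upto_step h (k := 4864) st19 chk19 (by decide +kernel) (upto19 h)
theorem upto21 : UptoFor g data 5376 := upto_step h (k := 5120) st20 chk20 (by decide +kernel) (upto20 h)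
theorem upto22 : UptoFor g data 5632 := upto_step h (k := 5376) st21 chk21 (by decide +kernel) (upto21 h)
theorem upto23 : UptoFor g data 5888 := upto_step h (k := 5632) st22 chk22 (by decide +kernel) (upto22 h)
theorem upto24 : UptoFor g data 6144 := upto_step h (k := 5888) st23 chk23 (by decide +kernel) (upto23 h)
theorem upto25 : UptoFor g data 6400 := upto_step h (k := 6144) st24 chk24 (by decide +kernel) (upto24 h)
theorem upto26 : UptoFor g data 6656 := upto_step h (k := 6400) st25 chk25 (by decide +kernel) (upto25 h)
theorem upto27 : UptoFor g data 6912 := upto_step h (k := 6656) st26 chk26 (by decide +kernel) (upto26 h)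
theorem upto28 : UptoFor g data 7168 := upto_step h (k := 6912) st27 chk27 (by decide +kernel) (upto27 h)
theorem upto29 : UptoFor g data 7424 := upto_step h (k := 7168) st28 chk28 (by decide +kernel) (upto28 h)
theorem upto30 : UptoFor g data 7680 := upto_step h (k := 7424) st29 chk29 (by decide +kernel) (upto29 h)
theorem upto31 : UptoFor g data 7936 := upto_step h (k := 7680) st30 chk30 (by decide +kernel) (upto30 h)
theorem upto32 : UptoFor g data 8192 := upto_step h (k := 7936) st31 chk31 (by decide +kernel) (upto31 h)
theorem upto33 : UptoFor g data 8448 := upto_step h (k := 8192) st32 chk32 (by decide +kernel) (upto32 h)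
theorem upto34 : UptoFor g data 8704 := upto_step h (k := 8448) st33 chk33 (by decide +kernel) (upto33 h)
theorem upto35 : UptoFor g data 8960 := upto_step h (k := 8704) st34 chk34 (by decide +kernel) (upto34 h)
theorem upto36 : UptoFor g data 9216 := upto_step h (k := 8960) st35 chk35 (by decide +kernel) (upto35 h)
theorem upto37 : UptoFor g data 9472 := upto_step h (k := 9216) st36 chk36 (by decide +kernel) (upto36 h)
theorem upto38 : UptoFor g data 9728 := upto_step h (k := 9472) st37 chk37 (by decide +kernel) (upto37 h)
theorem upto39 : UptoFor g data 9984 := upto_step h (k := 9728) st38 chk38 (by decide +kernel) (upto38 h)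
theorem upto40 : UptoFor g data 10240 := upto_step h (k := 9984) st39 chk39 (by decide +kernel) (upto39 h)
theorem upto41 : UptoFor g data 10496 := upto_step h (k := 10240) st40 chk40 (by decide +kernel) (upto40 h)
theorem upto42 : UptoFor g data 10752 := upto_step h (k := 10496) st41 chk41 (by decide +kernel) (upto41 h)
theorem upto43 : UptoFor g data 11008 := upto_step h (k := 10752) st42 chk42 (by decide +kernel) (upto42 h)
theorem upto44 : UptoFor g data 11264 := upto_step h (k := 11008) st43 chk43 (by decide +kernel) (upto43 h)
theorem upto45 : UptoFor g data 11520 := upto_step h (k := 11264) st44 chk44 (by decide +kernel) (upto44 h)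
theorem upto46 : UptoFor g data 11776 := upto_step h (k := 11520) st45 chk45 (by decide +kernel) (upto45 h)
theorem upto47 : UptoFor g data 12032 := upto_step h (k := 11776) st46 chk46 (by decide +kernel) (upto46 h)
theorem upto48 : UptoFor g data 12288 := upto_step h (k := 12032) st47 chk47 (by decide +kernel) (upto47 h)
theorem upto49 : UptoFor g data 12544 := upto_step h (k := 12288) st48 chk48 (by decide +kernel) (upto48 h)
theorem upto50 : UptoFor g data 12800 := upto_step h (k := 12544) st49 chk49 (by decide +kernel) (upto49 h)
theorem upto51 : UptoFor g data 13056 := upto_step h (k := 12800) st50 chk50 (by decide +kernel) (upto50 h)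
theorem upto52 : UptoFor g data 13312 := upto_step h (k := 13056) st51 chk51 (by decide +kernel) (upto51 h)
theorem upto53 : UptoFor g data 13568 := upto_step h (k := 13312) st52 chk52 (by decide +kernel) (upto52 h)
theorem upto54 : UptoFor g data 13824 := upto_step h (k := 13568) st53 chk53 (by decide +kernel) (upto53 h)
theorem upto55 : UptoFor g data 14080 := upto_step h (k := 13824) st54 chk54 (by decide +kernel) (upto54 h)
theorem upto56 : UptoFor g data 14336 := upto_step h (k := 14080) st55 chk55 (by decide +kernel) (upto55 h)
theorem upto57 : UptoFor g data 14592 := upto_step h (k := 14336) st56 chk56 (by decide +kernel) (upto56 h)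
theorem upto58 : UptoFor g data 14848 := upto_step h (k := 14592) st57 chk57 (by decide +kernel) (upto57 h)
theorem upto59 : UptoFor g data 15104 := upto_step h (k := 14848) st58 chk58 (by decide +kernel) (upto58 h)
theorem upto60 : UptoFor g data 15360 := upto_step h (k := 15104) st59 chk59 (by decide +kernel) (upto59 h)
theorem upto61 : UptoFor g data 15616 := upto_step h (k := 15360) st60 chk60 (by decide +kernel) (upto60 h)
theorem upto62 : UptoFor g data 15872 := upto_step h (k := 15616) st61 chk61 (by decide +kernel) (upto61 h)
theorem upto63 : UptoFor g data 16128 := upto_step h (k := 15872) st62 chk62 (by decide +kernel) (upto62 h)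
theorem upto64 : UptoFor g data 16384 := upto_step h (k := 16128) st63 chk63 (by decide +kernel) (upto63 h)
theorem upto65 : UptoFor g data 16640 := upto_step h (k := 16384) st64 chk64 (by decide +kernel) (upto64 h)
theorem upto66 : UptoFor g data 16896 := upto_step h (k := 16640) st65 chk65 (by decide +kernel) (upto65 h)
theorem upto67 : UptoFor g data 17152 := upto_step h (k := 16896) st66 chk66 (by decide +kernel) (upto66 h)
theorem upto68 : UptoFor g data 17408 := upto_step h (k := 17152) st67 chk67 (by decide +kernel) (upto67 h)
theorem upto69 : UptoFor g data 17664 := upto_step h (k := 17408) st68 chk68 (by decide +kernel) (upto68 h)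
theorem upto70 : UptoFor g data 17920 := upto_step h (k := 17664) st69 chk69 (by decide +kernel) (upto69 h)
theorem upto71 : UptoFor g data 18176 := upto_step h (k := 17920) st70 chk70 (by decide +kernel) (upto70 h)
theorem upto72 : UptoFor g data 18432 := upto_step h (k := 18176) st71 chk71 (by decide +kernel) (upto71 h)
theorem upto73 : UptoFor g data 18688 := upto_step h (k := 18432) st72 chk72 (by decide +kernel) (upto72 h)
theorem upto74 : UptoFor g data 18944 := upto_step h (k := 18688) st73 chk73 (by decide +kernel) (upto73 h)
theorem upto75 : UptoFor g data 19200 := upto_step h (k := 18944) st74 chk74 (by decide +kernel) (upto74 h)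
theorem upto76 : UptoFor g data 19456 := upto_step h (k := 19200) st75 chk75 (by decide +kernel) (upto75 h)
theorem upto77 : UptoFor g data 19712 := upto_step h (k := 19456) st76 chk76 (by decide +kernel) (upto76 h)
theorem upto78 : UptoFor g data 19968 := upto_step h (k := 19712) st77 chk77 (by decide +kernel) (upto77 h)
theorem upto79 : UptoFor g data 20224 := upto_step h (k := 19968) st78 chk78 (by decide +kernel) (upto78 h)
theorem upto80 : UptoFor g data 20480 := upto_step h (k := 20224) st79 chk79 (by decide +kernel) (upto79 h)
theorem upto81 : UptoFor g data 20736 := upto_step h (k := 20480) st80 chk80 (by decide +kernel) (upto80 h)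
theorem upto82 : UptoFor g data 20992 := upto_step h (k := 20736) st81 chk81 (by decide +kernel) (upto81 h)
theorem upto83 : UptoFor g data 21248 := upto_step h (k := 20992) st82 chk82 (by decide +kernel) (upto82 h)
theorem upto84 : UptoFor g data 21504 := upto_step h (k := 21248) st83 chk83 (by decide +kernel) (upto83 h)
theorem upto85 : UptoFor g data 21760 := upto_step h (k := 21504) st84 chk84 (by decide +kernel) (upto84 h)
theorem upto86 : UptoFor g data 22016 := upto_step h (k := 21760) st85 chk85 (by decide +kernel) (upto85 h)
theorem upto87 : UptoFor g data 22272 := upto_step h (k := 22016) st86 chk86 (by decide +kernel) (upto86 h)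
theorem upto88 : UptoFor g data 22528 := upto_step h (k := 22272) st87 chk87 (by decide +kernel) (upto87 h)
theorem upto89 : UptoFor g data 22784 := upto_step h (k := 22528) st88 chk88 (by decide +kernel) (upto88 h)
theorem upto90 : UptoFor g data 23040 := upto_step h (k := 22784) st89 chk89 (by decide +kernel) (upto89 h)
theorem upto91 : UptoFor g data 23296 := upto_step h (k := 23040) st90 chk90 (by decide +kernel) (upto90 h)
theorem upto92 : UptoFor g data 23552 := upto_step h (k := 23296) st91 chk91 (by decide +kernel) (upto91 h)
theorem upto93 : UptoFor g data 23808 := upto_step h (k := 23552) st92 chk92 (by decide +kernel) (upto92 h)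
theorem upto94 : UptoFor g data 24064 := upto_step h (k := 23808) st93 chk93 (by decide +kernel) (upto93 h)
theorem upto95 : UptoFor g data 24320 := upto_step h (k := 24064) st94 chk94 (by decide +kernel) (upto94 h)
theorem upto96 : UptoFor g data 24576 := upto_step h (k := 24320) st95 chk95 (by decide +kernel) (upto95 h)
theorem upto97 : UptoFor g data 24832 := upto_step h (k := 24576) st96 chk96 (by decide +kernel) (upto96 h)
theorem upto98 : UptoFor g data 25088 := upto_step h (k := 24832) st97 chk97 (by decide +kernel) (upto97 h)
theorem upto99 : UptoFor g data 25344 := upto_step h (k := 25088) st98 chk98 (by decide +kernel) (upto98 h)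
theorem upto100 : UptoFor g data 25345 := upto_step h (k := 25344) st99 chk99 (by decide +kernel) (upto99 h)

theorem covers (hgen : Subgroup.closure (Set.range g) = ⊤) :
    Covers g (wordClosure g data.subs) cover data where
  pos := by decide
  invol_g := h.invol
  junk := h.junk
  gen := hgen
  facts := upto100 h
  edges := edges13
  rep0 := by decide +kernel

end Cfsg.Agent.Enum.FiN
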