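import Cfsg.Agent.Lib.Enum.Bound
import Cfsg.Agent.Lib.Enum.FiOData

/-! Generated: the list of cosets is closed. -/

set_option autoImplicit false
set_option maxRecDepth 10000

namespace Cfsg.Agent.Enum.FiO

open Cfsg.Agent.Enum

def rep0 : ℕ := 0x1b001a0019001800170016001500140013001200110010000f000e000d000c000b000a0009000800070006000500040003000200010000

def cover : CoverData where
  N := 28
  ngen := 7
  nf := 154
  reps := (.leaf rep0)

def it0 : List ℕ := [0xa00010000c000000008000000006000000004000000002000000000, 0x10001600000000d00020001800010001400010001200010001000010000e, 0x20002200020002000010001900030002400020001e00020001c00020001a, 0x30002e00030002c00030002a000200025000400030000300028000300026, 0x60004400040003800040003600040003400030003100050003a000400032, 0x80005c00050004200050004000050003e00050003c00040003b000700050, 0x40004500060004e00060004c00060004a00060004800080005f000600046, 0x90006600070005a000700058000700056000700054000700052000500051, 0x50005d000800064000800062000800060000a0007200060005e000900069, 0x70006700090007000090006e00090006c000b0007c00090006a000800068, 0xa0007a000a00078000a00076000c00086000800073000a00074000b0007f, 0xb00084000b00082000b00080000e0009c00090007d000d00090000a0007e,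 0xc0008e000c0008c000f000a6000a00087000c0008a000c00088000e0009f, 0xd0009a000d00098000d000960010000b0000d00094000b00091000d00092, 0xe000a4000e000a20011000ba000b0009d000e000a00010000b5000c0009e, 0xf000ae0012000c4000c000a7000f000ac000f000aa000f000a80011000bd, 0x10000b80010000b60014000da000d000b10013000d0000e000b40010000b2, 0x11000c20015000e4000e000bb0011000c00011000be0014000df000f000bc, 0x12000ce000f000c50012000cc0012000ca0012000c80012000c60015000e7, 0x17000f80013000d80016000f00013000d60010000d10013000d40013000d2, 0x14000e20018001040010000db0014000e00016000f70011000de0014000dc, 0x15000ee0011000e50015000ec0015000ea0015000e80018001090012000e6, 0x1b00124001a0011a0013000f10019001100014000f60016000f40016000f2, 0x13000f9001700102001b0012d0017001000017000fe0017000fc0017000fa, 0x180010e00140010500180010c00180010a001a00121001500108001800106, 0x1a00133001b0012e001900118001600111001900116001900114001900112, 0x190013200160011b001a00122001b00131001800120001a0011e001a0011c, 0x160012500190012f00170012c001a00130001b0012a001b00128001b00126]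
theorem chkIt0 : cover.chkItems data 0 it0 = true := by decide +kernel

theorem edges0 : EdgesUpto cover data 0 := edgesUpto_zero _ _
theorem edges1 : EdgesUpto cover data 28 := edgesUpto_step (k := 0) it0 chkIt0 (by decide +kernel) edges0

end Cfsg.Agent.Enum.FiO
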