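import Cfsg.Agent.Lib.Enum.Checker

/-! Generated coset enumeration proof data. -/

set_option autoImplicit false
set_option maxRecDepth 10000

namespace Cfsg.Agent.Enum.FiP

def f0 : ℕ := 0x5001a001a4001a001a3001a001a2001a001a1001a001a0001a001950019001940019001930019001920019001910019001850018001840018001830018001800018001820018001740017001730016001710017001700017001750017001540014001620016001610016001600016001650016001340015001520015001510015001500015001530015001330014001420014001410014001400014001450014001120012001310013001300013001340013001150012001230012001210010001200012001240012000f30011001110011001100011001120011000f5001000103001000102001000100000e001040010000d5000f000f1000d000f0000f000f3000f000c5000e000e3000e000e2000e000e1000e000e4000e000b5000d000d2000d000d0000b000d3000d000a5000c000c4000c000c2000c000c0000c000c1000c000a5000b000b2000b000b1000b000b3000b00095000a000a4000a000a00009000a2000a0008500090009400090009100090009200090007400080008300080008100080008000070008500080006400070007300070007100050007500070004400060006300060006200060006100060006000060004400050005300050005200050005000050005500050003400040004300040004200040004100040003400030003300030003000030003200030002500020002400020002100020002000020002300020001500010001200010001100010001000010001400010000500000000300000000200000000100000000000000000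
def n0 : ℕ := 0x19100182001750015500133001350011400114000f2000f4000d3000c4000b3000a1000a300092000820007500065000400004500031000320002300014000000000

def baseRels : List (List ℕ) := [[0, 0], [0, 1, 0, 1, 0, 1], [0, 2, 0, 2], [0, 3, 0, 3], [0, 4, 0, 4], [0, 5, 0, 5], [1, 1], [1, 2, 1, 2, 1, 2], [1, 3, 1, 3], [1, 4, 1, 4], [1, 5, 1, 5], [2, 2], [2, 3, 2, 3, 2, 3], [2, 4, 2, 4], [2, 5, 2, 5, 2, 5], [3, 3], [3, 4, 3, 4, 3, 4], [3, 5, 3, 5], [4, 4], [4, 5, 4, 5], [5, 5], []]

def provenance : List (ℕ × ℕ) := [(0, 0), (1, 0), (1, 1), (2, 0), (2, 1), (3, 0), (3, 1), (4, 0), (4, 1), (5, 0), (5, 1), (6, 0), (7, 0), (7, 1), (8, 0), (8, 1), (9, 0), (9, 1), (10, 0), (10, 1), (11, 0), (12, 0), (12, 1), (13, 0), (13, 1), (14, 0), (14, 1), (15, 0), (16, 0), (16, 1), (17, 0), (17, 1), (18, 0), (19, 0), (19, 1), (20, 0), (21, 0)]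

def data : Cfsg.Agent.Enum.Data where
  facts := (.leaf f0)
  nodes := (.leaf n0)
  rels := [[0, 0], [0, 1, 0, 1, 0, 1], [1, 0, 1, 0, 1, 0], [0, 2, 0, 2], [2, 0, 2, 0], [0, 3, 0, 3], [3, 0, 3, 0], [0, 4, 0, 4], [4, 0, 4, 0], [0, 5, 0, 5], [5, 0, 5, 0], [1, 1], [1, 2, 1, 2, 1, 2], [2, 1, 2, 1, 2, 1], [1, 3, 1, 3], [3, 1, 3, 1], [1, 4, 1, 4], [4, 1, 4, 1], [1, 5, 1, 5], [5, 1, 5, 1], [2, 2], [2, 3, 2, 3, 2, 3], [3, 2, 3, 2, 3, 2], [2, 4, 2, 4], [4, 2, 4, 2], [2, 5, 2, 5, 2, 5], [5, 2, 5, 2, 5, 2], [3, 3], [3, 4, 3, 4, 3, 4], [4, 3, 4, 3, 4, 3], [3, 5, 3, 5], [5, 3, 5, 3], [4, 4], [4, 5, 4, 5], [5, 4, 5, 4], [5, 5], []]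
  subs := [[0], [1], [2], [3], [5]]

end Cfsg.Agent.Enum.FiP
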