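import Cfsg.Agent.Lib.Enum.Bound
import Cfsg.Agent.Lib.Enum.FiPData

/-! Generated: the list of cosets is closed. -/

set_option autoImplicit false
set_option maxRecDepth 10000

namespace Cfsg.Agent.Enum.FiP

open Cfsg.Agent.Enum

def rep0 : ℕ := 0x1a0019001800170016001500140013001200110010000f000e000d000c000b000a0009000800070006000500040003000200010000

def cover : CoverData where
  N := 27
  ngen := 6
  nf := 126
  reps := (.leaf rep0)

def it0 : List ℕ := [0x800010000a000000006000000004000000002000000000, 0x10001200000000b00020001400010001000010000e00010000c, 0x20001c00020001a00010001500030001e000200018000200016, 0x50002e00030002400030002200020001f000400026000300020, 0x70004200040002c00040002a000400028000300027000600038, 0x30002f000500036000500034000500032000700045000500030, 0x80004a00060004000060003e00060003c00060003a000400039, 0x40004300070004800070004600090005400050004400080004d, 0x60004b000800052000800050000a0005c00080004e00070004c, 0x90005a000900058000b00064000700055000900056000a0005f, 0xa00062000a00060000d0007600080005d000c0006c00090005e, 0xb0006a000e0007e000900065000b00068000b00066000d00079, 0xc00074000c00072000f00088000c00070000a0006d000c0006e, 0xd0007c001000090000a00077000d0007a000f0008d000b00078,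 0xe00086000b0007f000e00084000e00082000e00080001000093, 0xf0008e0012000a2000c0008900110009a000d0008c000f0008a, 0x1000098000d000910010000960010000940012000a7000e00092, 0x14000b40013000ac0011000a0000f0009b00110009e00110009c, 0x12000aa000f000a30012000a80013000b30010000a60012000a4, 0x16000c80011000ad0015000be0012000b20013000b00013000ae, 0x11000b50016000d10014000bc0014000ba0014000b80014000b6, 0x17000d20015000c60013000bf0015000c40015000c20015000c0, 0x13000c90014000d00017000d90016000ce0016000cc0016000ca, 0x15000d30017000da0016000d80018000dc0017000d60017000d4, 0x18000e40018000e20018000e00017000dd0019000e60018000de, 0x19000ee0019000ec0019000ea0019000e80018000e7001a000f0, 0x1a000fa001a000f8001a000f6001a000f4001a000f20019000f1]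
theorem chkIt0 : cover.chkItems data 0 it0 = true := by decide +kernel

theorem edges0 : EdgesUpto cover data 0 := edgesUpto_zero _ _
theorem edges1 : EdgesUpto cover data 27 := edgesUpto_step (k := 0) it0 chkIt0 (by decide +kernel) edges0

end Cfsg.Agent.Enum.FiP
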