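import Cfsg.Agent.Lib.Enum.Checker

/-! Generated coset enumeration proof data. -/

set_option autoImplicit false
set_option maxRecDepth 10000

namespace Cfsg.Agent.Enum.FiR

def f0 : ℕ := 0x3000f000f2000f000f1000f000f0000f000f4000f000e3000e000e1000e000e0000e000e2000e000d4000d000d1000c000d0000d000d3000d000b4000c000c2000c000c0000a000c3000c00094000b000b2000b000b0000b000b1000b00094000a000a2000a000a1000a000a3000a0008400090009000080009200090007400080008100080008200080006300070007100070007000060007400070005300060006100040006400060003300050005200050005100050005000050003300040004200040004000040004400040002300030003200030003100030002300020002000020002200020001400010001100010001000010001300010000400000000200000000100000000000000000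
def n0 : ℕ := 0x4000e2000d3000b30009100093000820007200064000540003000034000210002200013000000000

def baseRels : List (List ℕ) := [[0, 0], [0, 1, 0, 1, 0, 1], [0, 2, 0, 2], [0, 3, 0, 3], [0, 4, 0, 4], [1, 1], [1, 2, 1, 2, 1, 2], [1, 3, 1, 3], [1, 4, 1, 4], [2, 2], [2, 3, 2, 3, 2, 3], [2, 4, 2, 4, 2, 4], [3, 3], [3, 4, 3, 4], [4, 4], []]

def provenance : List (ℕ × ℕ) := [(0, 0), (1, 0), (1, 1), (2, 0), (2, 1), (3, 0), (3, 1), (4, 0), (4, 1), (5, 0), (6, 0), (6, 1), (7, 0), (7, 1), (8, 0), (8, 1), (9, 0), (10, 0), (10, 1), (11, 0), (11, 1), (12, 0), (13, 0), (13, 1), (14, 0), (15, 0)]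

def data : Cfsg.Agent.Enum.Data where
  facts := (.leaf f0)
  nodes := (.leaf n0)
  rels := [[0, 0], [0, 1, 0, 1, 0, 1], [1, 0, 1, 0, 1, 0], [0, 2, 0, 2], [2, 0, 2, 0], [0, 3, 0, 3], [3, 0, 3, 0], [0, 4, 0, 4], [4, 0, 4, 0], [1, 1], [1, 2, 1, 2, 1, 2], [2, 1, 2, 1, 2, 1], [1, 3, 1, 3], [3, 1, 3, 1], [1, 4, 1, 4], [4, 1, 4, 1], [2, 2], [2, 3, 2, 3, 2, 3], [3, 2, 3, 2, 3, 2], [2, 4, 2, 4, 2, 4], [4, 2, 4, 2, 4, 2], [3, 3], [3, 4, 3, 4], [4, 3, 4, 3], [4, 4], []]
  subs := [[0], [1], [2], [4]]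

end Cfsg.Agent.Enum.FiR
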