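import Cfsg.Agent.Lib.Enum.Bound
import Cfsg.Agent.Lib.Enum.FiRData

/-! Generated: the list of cosets is closed. -/

set_option autoImplicit false
set_option maxRecDepth 10000

namespace Cfsg.Agent.Enum.FiR

open Cfsg.Agent.Enum

def rep0 : ℕ := 0xf000e000d000c000b000a0009000800070006000500040003000200010000

def cover : CoverData where
  N := 16
  ngen := 5
  nf := 60
  reps := (.leaf rep0)

def it0 : List ℕ := [0x6000100008000000004000000002000000000, 0x10000e00000000900020001000010000c00010000a, 0x40001c000200014000100011000300016000200012, 0x60002c00030001a000300018000200017000500024, 0x20001d00040002200040002000060002f00040001e, 0x70003200050002a000500028000500026000300025, 0x30002d00060003000080003a00040002e000700035, 0x500033000700038000900040000700036000600034, 0x80003e000a0004600060003b00080003c000900043, 0x900044000c00056000700041000b0004e000800042, 0xa0004c000800047000a0004a000a00048000c00059, 0xb00054000d0005e000b0005200090004f000b00050, 0xc0005c000900057000c0005a000d00063000a00058, 0xd00064000b0005f000e00066000c00062000d00060, 0xf0006e000e0006c000d00067000e0006a000e00068, 0xe0006f000f00076000f00074000f00072000f00070]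
theorem chkIt0 : cover.chkItems data 0 it0 = true := by decide +kernel

theorem edges0 : EdgesUpto cover data 0 := edgesUpto_zero _ _
theorem edges1 : EdgesUpto cover data 16 := edgesUpto_step (k := 0) it0 chkIt0 (by decide +kernel) edges0

end Cfsg.Agent.Enum.FiR
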