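import Cfsg.Agent.Lib.Enum.Bound
import Cfsg.Agent.Lib.Enum.FiSData

/-! Generated: the list of cosets is closed. -/

set_option autoImplicit false
set_option maxRecDepth 10000

namespace Cfsg.Agent.Enum.FiS

open Cfsg.Agent.Enum

def rep0 : ℕ := 0x40003000200010000

def cover : CoverData where
  N := 5
  ngen := 4
  nf := 16
  reps := (.leaf rep0)

def it0 : List ℕ := [0x100006000000004000000002000000000, 0x700020000c00010000a000100008, 0x20001000010000d00030001200020000e, 0x300016000300014000200013000400018, 0x40001e00040001c00040001a000300019]
theorem chkIt0 : cover.chkItems data 0 it0 = true := by decide +kernel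

theorem edges0 : EdgesUpto cover data 0 := edgesUpto_zero _ _
theorem edges1 : EdgesUpto cover data 5 := edgesUpto_step (k := 0) it0 chkIt0 (by decide +kernel) edges0

end Cfsg.Agent.Enum.FiS
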