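import Cfsg.Agent.Lib.Enum.Checker

/-! Generated coset enumeration proof data. -/

set_option autoImplicit false
set_option maxRecDepth 10000

namespace Cfsg.Agent.Enum.FiU

def f0 : ℕ := 0x100020002000020001100010000000000000
def n0 : ℕ := 0x11000000000

def baseRels : List (List ℕ) := [[0, 0], [0, 1, 0, 1, 0, 1], [1, 1], []]

def provenance : List (ℕ × ℕ) := [(0, 0), (1, 0), (1, 1), (2, 0), (3, 0)]

def data : Cfsg.Agent.Enum.Data where
  facts := (.leaf f0)
  nodes := (.leaf n0)
  rels := [[0, 0], [0, 1, 0, 1, 0, 1], [1, 0, 1, 0, 1, 0], [1, 1], []]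
  subs := [[0]]

end Cfsg.Agent.Enum.FiU
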