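import Cfsg.Agent.Lib.Enum.Bound
import Cfsg.Agent.Lib.Enum.FiUData

/-! Generated: the list of cosets is closed. -/

set_option autoImplicit false
set_option maxRecDepth 10000

namespace Cfsg.Agent.Enum.FiU

open Cfsg.Agent.Enum

def rep0 : ℕ := 0x200010000

def cover : CoverData where
  N := 3
  ngen := 2
  nf := 4
  reps := (.leaf rep0)

def it0 : List ℕ := [0x100002000000000, 0x3000200004, 0x200006000100005]
theorem chkIt0 : cover.chkItems data 0 it0 = true := by decide +kernel

theorem edges0 : EdgesUpto cover data 0 := edgesUpto_zero _ _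
theorem edges1 : EdgesUpto cover data 3 := edgesUpto_step (k := 0) it0 chkIt0 (by decide +kernel) edges0

end Cfsg.Agent.Enum.FiU
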