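import Cfsg.Prelude.Def_Sporadic
import Cfsg.Agent.Lib.Enum.Bound
import Cfsg.Agent.Lib.Enum.FiACert
import Cfsg.Agent.Lib.Enum.FiALevels
import Cfsg.Agent.Lib.Enum.FiVCover
import Cfsg.Agent.Lib.Enum.FiUCover
import Cfsg.Agent.Lib.Enum.FiTCover
import Cfsg.Agent.Lib.Enum.FiSCover
import Cfsg.Agent.Lib.Enum.FiRCover
import Cfsg.Agent.Lib.Enum.FiPCover
import Cfsg.Agent.Lib.Enum.FiOCover
import Cfsg.Agent.Lib.Enum.FiNCover
import Cfsg.Agent.Lib.Enum.FiMCover
import Cfsg.Agent.Lib.Enum.FiQCover

/-!
# The presented Fischer group Fi22 is simple of order 64561751654400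
-/

set_option autoImplicit false
set_option maxRecDepth 10000

namespace Cfsg.Agent.Enum.FiMain

open Cfsg.Agent.Enum

theorem step {L L' : List ℕ} {t : CoverData} {d : Data} {base : List (List ℕ)} {n : ℕ}
    (hbase : subRelsOK L presFi22.relWords base = true)
    (hcov : ∀ {G : Type} [Group G] {g : ℕ → G}, Holding g n base →
      Subgroup.closure (Set.range g) = ⊤ → Covers g (wordClosure g d.subs) t d)
    (hn : L.length = n)
    (hL' : d.subs.map (fun w => w.map fun i => L.getD i 0) = L'.map fun x => [x])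
    (hlt : d.subs.all (fun w => w.all fun i => Nat.blt i L.length) = true) {m : ℕ}
    (h : Finite (gensClosure presFi22.g L') ∧ Nat.card (gensClosure presFi22.g L') ≤ m) :
    Finite (gensClosure presFi22.g L) ∧ Nat.card (gensClosure presFi22.g L) ≤ t.N * m :=
  chain_step (hcov (hn ▸ holding_subGen presFi22.g_mul_self presFi22.relWords_one L hbase) (subGen_gen L))
    hL' hlt h

theorem cardV : Finite (gensClosure presFi22.g [1]) ∧
    Nat.card (gensClosure presFi22.g [1]) ≤ 2 * (1) :=
  step (by decide +kernel) (fun h hgen => FiV.covers h hgen) rfl (by decide +kernel)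
    (by decide +kernel) chain_base

theorem cardU : Finite (gensClosure presFi22.g [1, 2]) ∧
    Nat.card (gensClosure presFi22.g [1, 2]) ≤ 3 * (2 * (1)) :=
  step (by decide +kernel) (fun h hgen => FiU.covers h hgen) rfl (by decide +kernel)
    (by decide +kernel) cardV

theorem cardT : Finite (gensClosure presFi22.g [1, 2, 3]) ∧
    Nat.card (gensClosure presFi22.g [1, 2, 3]) ≤ 4 * (3 * (2 * (1))) :=
  step (by decide +kernel) (fun h hgen => FiT.covers h hgen) rfl (by decide +kernel)
    (by decide +kernel) cardU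

theorem cardS : Finite (gensClosure presFi22.g [1, 2, 3, 7]) ∧
    Nat.card (gensClosure presFi22.g [1, 2, 3, 7]) ≤ 5 * (4 * (3 * (2 * (1)))) :=
  step (by decide +kernel) (fun h hgen => FiS.covers h hgen) rfl (by decide +kernel)
    (by decide +kernel) cardT

theorem cardR : Finite (gensClosure presFi22.g [1, 2, 3, 4, 7]) ∧
    Nat.card (gensClosure presFi22.g [1, 2, 3, 4, 7]) ≤ 16 * (5 * (4 * (3 * (2 * (1))))) :=
  step (by decide +kernel) (fun h hgen => FiR.covers h hgen) rfl (by decide +kernel)
    (by decide +kernel) cardS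

theorem cardP : Finite (gensClosure presFi22.g [1, 2, 3, 4, 5, 7]) ∧
    Nat.card (gensClosure presFi22.g [1, 2, 3, 4, 5, 7]) ≤ 27 * (16 * (5 * (4 * (3 * (2 * (1)))))) :=
  step (by decide +kernel) (fun h hgen => FiP.covers h hgen) rfl (by decide +kernel)
    (by decide +kernel) cardR

theorem cardO : Finite (gensClosure presFi22.g [1, 2, 3, 4, 5, 6, 7]) ∧
    Nat.card (gensClosure presFi22.g [1, 2, 3, 4, 5, 6, 7]) ≤ 28 * (27 * (16 * (5 * (4 * (3 * (2 * (1))))))) :=
  step (by decide +kernel) (fun h hgen => FiO.covers h hgen) rfl (by decide +kernel)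
    (by decide +kernel) cardP

theorem cardN : Finite (gensClosure presFi22.g [1, 2, 3, 4, 5, 6, 7, 8]) ∧
    Nat.card (gensClosure presFi22.g [1, 2, 3, 4, 5, 6, 7, 8]) ≤ 3159 * (28 * (27 * (16 * (5 * (4 * (3 * (2 * (1)))))))) :=
  step (by decide +kernel) (fun h hgen => FiN.covers h hgen) rfl (by decide +kernel)
    (by decide +kernel) cardO

theorem card_sub : Finite (gensClosure presFi22.g [1, 2, 3, 4, 5, 6, 7, 8]) ∧
    Nat.card (gensClosure presFi22.g [1, 2, 3, 4, 5, 6, 7, 8]) ≤ 4585351680 :=
  ⟨cardN.1, cardN.2.trans (by norm_num)⟩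

theorem coversM : Covers presFi22.g (gensClosure presFi22.g [1, 2, 3, 4, 5, 6, 7, 8]) FiM.cover FiM.data := by
  have h : Holding presFi22.g 9 FiM.baseRels :=
    { invol := presFi22.g_mul_self
      junk := fun x hx => presFi22.g_junk x hx
      base := fun w hw => by
        have h1 : FiM.baseRels.all (fun r => r ∈ presFi22.relWords ∨ r = []) = true := by decide +kernel
        have h2 := List.all_eq_true.mp h1 w hw
        simp only [decide_eq_true_eq] at h2
        rcases h2 with h2 | rfl
        · exact presFi22.relWords_one w h2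
        · simp }
  rw [← wordClosure_singletons]
  exact FiM.covers h presFi22.g_gen

instance finite_grp : Finite presFi22.Grp := by
  haveI := card_sub.1
  haveI := coversM.finite_quotient
  exact Finite.of_equiv _ (Subgroup.groupEquivQuotientProdSubgroup
    (s := gensClosure presFi22.g [1, 2, 3, 4, 5, 6, 7, 8])).symm

theorem card_grp_le : Nat.card presFi22.Grp ≤ 64561751654400 := by
  rw [← Subgroup.index_mul_card (gensClosure presFi22.g [1, 2, 3, 4, 5, 6, 7, 8])]
  exact (Nat.mul_le_mul coversM.index_le card_sub.2).trans (by decide +kernel)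

theorem rep : ∃ φ : presFi22.Grp →* Equiv.Perm (Fin FiA.table.N),
    (∀ x, φ (presFi22.g x) = FiA.table.permOf FiA.certified.invol x) ∧
      Nat.card presFi22.Grp = 64561751654400 ∧ Function.Injective φ := by
  obtain ⟨φ, hφ, -⟩ := FiA.certified.rep_hom
  exact ⟨φ, hφ, card_eq_and_injective presFi22.g_mul_self FiA.certified.invol φ hφ FiA.levels_chain
    FiA.levels_ok FiA.levels_prod card_grp_le⟩

theorem card_grp : Nat.card presFi22.Grp = 64561751654400 := by
  obtain ⟨φ, -, h, -⟩ := rep
  exact h

theorem isSimple : IsSimpleGroup presFi22.Grp := by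
  obtain ⟨φ, hφ, hcard, hinj⟩ := rep
  refine isSimpleGroup_of_certs FiA.certified
    (fun M hM => overgroup_cases FiA.certified FiA.suborbits FiA.suborbits_ok FiA.sub_words 3
      (by decide +kernel) (by decide +kernel) (by decide +kernel) [1, 2816, 693] rfl
      (by decide +kernel) (by decide +kernel) (by decide +kernel) M hM)
    φ hφ hinj (by decide +kernel) (p := 13) (e := 1) (m := 4966288588800) (by norm_num)
    (by rw [hcard]; rfl) (by norm_num) (by decide +kernel) [7, 0, 4, 2, 3, 5, 6, 8, 5, 1]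
    (by decide +kernel) fun N hN hw => ?_
  haveI := hN
  exact eq_top_of_covers rfl rfl (FiQ.covers
    (holding_quotient presFi22.g_mul_self (fun x hx => presFi22.g_junk x hx) presFi22.relWords_one [7, 0, 4, 2, 3, 5, 6, 8, 5, 1] N hw
      (by decide +kernel)) (gen_quotient presFi22.g_gen N))

theorem isFi22 : Cfsg.IsFi22 presFi22.Grp := ⟨isSimple, card_grp⟩

theorem index_bi : (gensClosure presFi22.g [1, 2, 3, 4, 5, 6, 7, 8]).index = 14080 := by
  have h1 : (gensClosure presFi22.g [1, 2, 3, 4, 5, 6, 7, 8]).index ≤ 14080 := coversM.index_le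
  have h2 := card_sub.2
  have h3 := Subgroup.index_mul_card (gensClosure presFi22.g [1, 2, 3, 4, 5, 6, 7, 8])
  rw [card_grp] at h3
  by_contra hne
  have h4 := Nat.mul_le_mul (Nat.le_pred_of_lt (lt_of_le_of_ne h1 hne)) h2
  rw [h3] at h4
  exact absurd h4 (by decide +kernel)

end Cfsg.Agent.Enum.FiMain
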