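import Cfsg.Prelude.Def_SporadicB
import Cfsg.Agent.Lib.Enum.FiMain
import Cfsg.Agent.Lib.Enum.FiU6Cover
import Cfsg.Agent.Lib.Enum.Fi22U6Vec
import Cfsg.Agent.Lib.LinearGroups.UnitaryOrder
import Cfsg.Agent.S0283

/-!
# The subgroup 2.U6(2) of the presented Fi22
-/

set_option autoImplicit false
set_option maxRecDepth 10000

namespace Cfsg.Agent.Enum.Fi22U6

open Cfsg.Agent.Enum

/-- A word fixing the base points of the chain is trivial. -/
theorem word_one (w : List ℕ)
    (hw : (FiA.levels.map Level.base).all (fun p => Nat.beq (FiA.table.imgWord w p) p) = true) :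
    (w.map presFi22.g).prod = 1 := by
  obtain ⟨φ, hφ, hcard, -⟩ := FiMain.rep
  have key : ∀ (ls : List Level) (ps : List ℕ), Level.chain ps ls = true →
      ls.all (Level.chk FiA.table) = true →
      (ls.map Level.n).prod * Nat.card (Level.fixer φ ((ls.map Level.base).reverse ++ ps)) ≤
        Nat.card (Level.fixer φ ps) := by
    intro ls
    induction ls with
    | nil => intro ps _ _; simp
    | cons l ls ih =>
      intro ps hc hall
      simp only [Level.chain, Bool.and_eq_true, beq_iff_eq] at hc
      simp only [List.all_cons, Bool.and_eq_true] at hall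
      have h2 := Level.mul_card_le presFi22.g_mul_self FiA.certified.invol φ hφ l hall.1
      rw [hc.1] at h2
      rw [List.map_cons, List.prod_cons, Nat.mul_assoc, List.map_cons, List.reverse_cons,
        List.append_assoc, List.singleton_append]
      exact (Nat.mul_le_mul_left _ (ih (l.base :: ps) hc.2 hall.2)).trans h2
  have h1 := (key FiA.levels [] FiA.levels_chain FiA.levels_ok).trans (Subgroup.card_le_card_group _)
  rw [FiA.levels_prod, hcard, List.append_nil] at h1
  set K := Level.fixer φ (FiA.levels.map Level.base).reverse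
  have h3 : Nat.card K = 1 := by
    have := Nat.card_pos (α := K)
    omega
  have hm : ((w.map presFi22.g).prod)⁻¹ ∈ K := by
    intro p hp h
    rw [← Data.reverse_prod _ presFi22.g_mul_self, map_list_prod, List.map_reverse, List.map_map,
      show (w.map (φ ∘ presFi22.g)) = w.map (FiA.table.permOf FiA.certified.invol) from
        List.map_congr_left fun x _ => hφ x]
    have e := Table.act_permOf FiA.table FiA.certified.invol w ⟨p, h⟩
    rw [Data.act_eq] at e
    exact e.trans (Fin.ext (Table.beq_eq (List.all_eq_true.mp hw p (List.mem_reverse.mp hp))))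
  haveI := (Nat.card_eq_one_iff_unique.mp h3).1
  exact inv_eq_one.mp (congrArg Subtype.val (Subsingleton.elim (⟨_, hm⟩ : K) 1))

/-- The words of the eight generators besides the central one. -/
def loc : List (List ℕ) := [[2], [3], [4], [5], [6], [7], [8],
  [0, 1, 2, 3, 4, 7, 0, 1, 2, 3, 4, 7, 0, 1, 2, 3, 4, 7, 0, 1, 2, 3, 4, 7, 0, 1, 2, 3, 4, 7]]

/-- A word in the eight generators, expanded. -/
def expand (r : List ℕ) : List ℕ := r.flatMap fun k => loc.getD k []

/-- The eight generators. -/
def x (k : ℕ) : presFi22.Grp := ((loc.getD k []).map presFi22.g).prod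

theorem x_junk (k : ℕ) (hk : 8 ≤ k) : x k = 1 := by
  rw [x, List.getD_eq_default _ _ (by simpa [loc] using hk)]
  rfl

theorem prod_expand (r : List ℕ) : ((expand r).map presFi22.g).prod = (r.map x).prod := by
  induction r with
  | nil => rfl
  | cons k r ih =>
    show (((loc.getD k []) ++ expand r).map presFi22.g).prod = _
    rw [List.map_append, List.prod_append, ih, List.map_cons, List.prod_cons, x]

theorem x_mem (k : ℕ) : x k ∈ FiA.sub := by
  rcases Nat.lt_or_ge k 8 with hk | hk
  · refine Subgroup.subset_closure ⟨loc.getD k [], ?_, rfl⟩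
    revert k
    decide +kernel
  · rw [x_junk k hk]
    exact one_mem _

theorem a_mem : presFi22.g 0 ∈ FiA.sub :=
  Subgroup.subset_closure ⟨[0], by decide +kernel, by simp⟩

/-- The eight generators in the subgroup. -/
noncomputable def xs (k : ℕ) : ↥FiA.sub := ⟨x k, x_mem k⟩

/-- The transposition in the subgroup. -/
noncomputable def aS : ↥FiA.sub := ⟨presFi22.g 0, a_mem⟩

theorem coe_xs_prod (r : List ℕ) : ((r.map xs).prod : presFi22.Grp) = (r.map x).prod := by
  induction r with
  | nil => rfl
  | cons k r ih => rw [List.map_cons, List.prod_cons, Subgroup.coe_mul, ih, List.map_cons, List.prod_cons]; rfl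

/-- A word fixes the base points. -/
def fixesBase (w : List ℕ) : Bool :=
  (FiA.levels.map Level.base).all fun p => Nat.beq (FiA.table.imgWord w p) p

theorem a_ne : presFi22.g 0 ≠ 1 := by
  intro h
  obtain ⟨φ, hφ, -, -⟩ := FiMain.rep
  have h1 := hφ 0
  rw [h, map_one] at h1
  have h2 : ∀ i : Fin FiA.table.N, FiA.table.img 0 i = i := fun i =>
    congrArg Fin.val (congrFun (congrArg DFunLike.coe h1.symm) i)
  have h3 : (List.range 32).all (fun i => Nat.beq (FiA.table.img 0 i) i) = false := by decide +kernel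
  rw [List.all_eq_true.mpr fun i hi => by
    rw [h2 ⟨i, lt_of_lt_of_le (List.mem_range.mp hi) (by decide +kernel)⟩]
    exact Nat.beq_refl i] at h3
  exact Bool.noConfusion h3

theorem aS_sq : aS * aS = 1 := Subtype.ext (presFi22.g_mul_self 0)

theorem aS_ne : aS ≠ 1 := fun h => a_ne (congrArg Subtype.val h)

theorem a_comm : ∀ b ∈ FiA.sub, b * presFi22.g 0 = presFi22.g 0 * b := by
  intro b hb
  rw [FiA.sub] at hb
  induction hb using Subgroup.closure_induction with
  | mem b hb =>
    obtain ⟨w, hw, rfl⟩ := hb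
    have h1 : FiA.data.subs.all (fun w => fixesBase (w ++ [0] ++ w.reverse ++ [0])) = true := by
      decide +kernel
    have h := word_one _ (List.all_eq_true.mp h1 w hw)
    simp only [List.map_append, List.prod_append, List.map_cons, List.map_nil, List.prod_cons,
      List.prod_nil, mul_one, List.map_reverse, Data.reverse_prod _ presFi22.g_mul_self] at h
    generalize (w.map presFi22.g).prod = u at h ⊢
    calc u * presFi22.g 0 = u * presFi22.g 0 * u⁻¹ * u := by group
      _ = (presFi22.g 0)⁻¹ * u := by rw [mul_eq_one_iff_eq_inv.mp h]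
      _ = presFi22.g 0 * u := by rw [inv_eq_of_mul_eq_one_left (presFi22.g_mul_self 0)]
  | one => rw [one_mul, mul_one]
  | mul b c _ _ ihb ihc => rw [mul_assoc, ihc, ← mul_assoc, ihb, mul_assoc]
  | inv b _ ihb => exact (Commute.inv_left ihb).eq

theorem aS_comm (b : ↥FiA.sub) : b * aS = aS * b := Subtype.ext (a_comm b b.2)

theorem zpowers_aS : ∀ b ∈ Subgroup.zpowers aS, b = 1 ∨ b = aS := by
  intro b hb
  obtain ⟨n, rfl⟩ := Subgroup.mem_zpowers_iff.mp hb
  rcases Int.even_or_odd n with ⟨k, rfl⟩ | ⟨k, rfl⟩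
  · left
    rw [← two_mul, zpow_mul, zpow_two, aS_sq, one_zpow]
  · right
    rw [zpow_add, zpow_one, zpow_mul, zpow_two, aS_sq, one_zpow, one_mul]

theorem orderOf_aS : orderOf aS = 2 :=
  orderOf_eq_prime (by rw [sq, aS_sq]) aS_ne

instance normal_aS : (Subgroup.zpowers aS).Normal := by
  refine ⟨fun n hn b => ?_⟩
  have hc : Commute b n := by
    rcases zpowers_aS n hn with rfl | rfl
    · exact Commute.one_right b
    · exact aS_comm b
  rwa [hc.eq, mul_assoc, mul_inv_cancel, mul_one]

theorem card_sub : Nat.card ↥FiA.sub = 18393661440 := by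
  have h := Subgroup.index_mul_card FiA.sub
  rw [Table.index_eq FiA.certified, show FiA.table.N = 3510 from rfl, FiMain.card_grp] at h
  omega

theorem gen_xs : Subgroup.closure (Set.insert aS (Set.range xs)) = ⊤ := by
  apply Subgroup.map_injective FiA.sub.subtype_injective
  rw [MonoidHom.map_closure, ← MonoidHom.range_eq_map, Subgroup.range_subtype]
  refine le_antisymm ((Subgroup.closure_le _).mpr ?_) ?_
  · rintro _ ⟨b, -, rfl⟩
    exact b.2
  · conv_lhs => rw [FiA.sub]
    rw [Subgroup.closure_le]
    rintro _ ⟨w, hw, rfl⟩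
    have hcases : FiA.data.subs.all (fun w => decide (w = [0] ∨ w ∈ loc)) = true := by decide +kernel
    rcases of_decide_eq_true (List.all_eq_true.mp hcases w hw) with rfl | h
    · exact Subgroup.subset_closure ⟨aS, Or.inl rfl, by simp [aS]⟩
    · obtain ⟨k, hk, rfl⟩ := List.getElem_of_mem h
      exact Subgroup.subset_closure ⟨xs k, Or.inr ⟨k, rfl⟩, by simp [xs, x, hk]⟩

/-- The subgroup by its centre. -/
abbrev Q : Type := ↥FiA.sub ⧸ Subgroup.zpowers aS

/-- The generators of the quotient. -/
noncomputable def xq (k : ℕ) : Q := QuotientGroup.mk (xs k)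

theorem gen_xq : Subgroup.closure (Set.range xq) = ⊤ := by
  have h := congrArg (Subgroup.map (QuotientGroup.mk' (Subgroup.zpowers aS))) gen_xs
  rw [MonoidHom.map_closure, Subgroup.map_top_of_surjective _ (QuotientGroup.mk'_surjective _)] at h
  rw [eq_top_iff, ← h, Subgroup.closure_le]
  rintro _ ⟨b, rfl | ⟨k, rfl⟩, rfl⟩
  · rw [QuotientGroup.mk'_apply, (QuotientGroup.eq_one_iff aS).mpr (Subgroup.mem_zpowers _)]
    exact one_mem _
  · exact Subgroup.subset_closure ⟨k, rfl⟩

theorem card_Q : Nat.card Q = 9196830720 := by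
  have h := Subgroup.card_eq_card_quotient_mul_card_subgroup (Subgroup.zpowers aS)
  rw [card_sub, Nat.card_zpowers, orderOf_aS] at h
  show Nat.card (↥FiA.sub ⧸ Subgroup.zpowers aS) = 9196830720
  omega

/-- A word is trivial in the quotient. -/
def trivQ (r : List ℕ) : Bool := fixesBase (expand r) || fixesBase (expand r ++ [0])

theorem xq_prod_eq_one {r : List ℕ} (h : trivQ r = true) : (r.map xq).prod = 1 := by
  have e : (r.map xq).prod = QuotientGroup.mk' _ ((r.map xs).prod) := by
    rw [map_list_prod, List.map_map]; rfl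
  rw [e, QuotientGroup.mk'_apply, QuotientGroup.eq_one_iff]
  simp only [trivQ, Bool.or_eq_true] at h
  rcases h with h | h
  · have h1 : (r.map xs).prod = 1 :=
      Subtype.ext ((coe_xs_prod r).trans ((prod_expand r).symm.trans (word_one _ h)))
    rw [h1]; exact one_mem _
  · have h1 := word_one _ h
    rw [List.map_append, List.prod_append, prod_expand, ← coe_xs_prod] at h1
    simp only [List.map_cons, List.map_nil, List.prod_cons, List.prod_nil, mul_one] at h1
    have h2 : (r.map xs).prod * aS = 1 := Subtype.ext h1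
    rw [mul_eq_one_iff_eq_inv.mp h2]
    exact inv_mem (Subgroup.mem_zpowers _)

/-! ### The pairs -/

/-- The relators used. -/
def relW : List (List ℕ) := FiU6.baseRels ++ FiU6.baseRels.map List.reverse

theorem relW_ok : relW.all (fun r => trivQ r && U6.scalarWord r) = true := by decide +kernel

/-- The generators of both groups. -/
noncomputable def p (k : ℕ) : Q × Cfsg.PSU 6 F4 2 := (xq k, AutPSU.proj 6 F4 2 (U6.M k))

theorem p_prod (r : List ℕ) :
    (r.map p).prod = ((r.map xq).prod, AutPSU.proj 6 F4 2 (r.map U6.M).prod) := by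
  induction r with
  | nil => rfl
  | cons k r ih => simp only [List.map_cons, List.prod_cons, ih, map_mul]; rfl

theorem p_rels : ∀ r ∈ relW, (r.map p).prod = 1 := by
  intro r hr
  have h := List.all_eq_true.mp relW_ok r hr
  simp only [Bool.and_eq_true] at h
  rw [p_prod, xq_prod_eq_one h.1, (AutPSU.proj_eq_one_iff _).mpr (U6.word_central h.2)]
  rfl

theorem p_junk (k : ℕ) (hk : 8 ≤ k) : p k = 1 := by
  rw [p, U6.M_junk k hk, map_one, xq, show xs k = 1 from Subtype.ext (x_junk k hk)]
  rfl

theorem p_sq (k : ℕ) : p k * p k = 1 := by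
  rcases Nat.lt_or_ge k 8 with hk | hk
  · have h : ∀ k < 8, [k, k] ∈ relW := by decide +kernel
    simpa using p_rels _ (h k hk)
  · rw [p_junk k hk, one_mul]

theorem pstep {L L' : List ℕ} {t : CoverData} {d : Data} {base : List (List ℕ)} {n : ℕ}
    (hbase : subRelsOK L relW base = true)
    (hcov : ∀ {G : Type} [Group G] {g : ℕ → G}, Holding g n base →
      Subgroup.closure (Set.range g) = ⊤ → Covers g (wordClosure g d.subs) t d)
    (hn : L.length = n)
    (hL' : d.subs.map (fun w => w.map fun i => L.getD i 0) = L'.map fun x => [x])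
    (hlt : d.subs.all (fun w => w.all fun i => Nat.blt i L.length) = true) {m : ℕ}
    (h : Finite (gensClosure p L') ∧ Nat.card (gensClosure p L') ≤ m) :
    Finite (gensClosure p L) ∧ Nat.card (gensClosure p L) ≤ t.N * m :=
  chain_step (hcov (hn ▸ holding_subGen p_sq p_rels L hbase) (subGen_gen L)) hL' hlt h

theorem cardV : Finite (gensClosure p [6]) ∧ Nat.card (gensClosure p [6]) ≤ 2 * (1) :=
  pstep (by decide +kernel) (fun h hgen => FiV.covers h hgen) rfl (by decide +kernel)
    (by decide +kernel) chain_base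

theorem cardU : Finite (gensClosure p [6, 5]) ∧ Nat.card (gensClosure p [6, 5]) ≤ 3 * (2 * (1)) :=
  pstep (by decide +kernel) (fun h hgen => FiU.covers h hgen) rfl (by decide +kernel)
    (by decide +kernel) cardV

theorem cardT : Finite (gensClosure p [6, 5, 1]) ∧
    Nat.card (gensClosure p [6, 5, 1]) ≤ 4 * (3 * (2 * (1))) :=
  pstep (by decide +kernel) (fun h hgen => FiT.covers h hgen) rfl (by decide +kernel)
    (by decide +kernel) cardU

theorem cardS : Finite (gensClosure p [6, 5, 1, 0]) ∧
    Nat.card (gensClosure p [6, 5, 1, 0]) ≤ 5 * (4 * (3 * (2 * (1)))) :=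
  pstep (by decide +kernel) (fun h hgen => FiS.covers h hgen) rfl (by decide +kernel)
    (by decide +kernel) cardT

theorem cardR : Finite (gensClosure p [6, 5, 1, 2, 0]) ∧
    Nat.card (gensClosure p [6, 5, 1, 2, 0]) ≤ 16 * (5 * (4 * (3 * (2 * (1))))) :=
  pstep (by decide +kernel) (fun h hgen => FiR.covers h hgen) rfl (by decide +kernel)
    (by decide +kernel) cardS

theorem cardP : Finite (gensClosure p [6, 5, 1, 2, 3, 0]) ∧
    Nat.card (gensClosure p [6, 5, 1, 2, 3, 0]) ≤ 27 * (16 * (5 * (4 * (3 * (2 * (1)))))) :=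
  pstep (by decide +kernel) (fun h hgen => FiP.covers h hgen) rfl (by decide +kernel)
    (by decide +kernel) cardR

theorem cardO : Finite (gensClosure p [6, 5, 1, 2, 3, 4, 0]) ∧
    Nat.card (gensClosure p [6, 5, 1, 2, 3, 4, 0]) ≤ 28 * (27 * (16 * (5 * (4 * (3 * (2 * (1))))))) :=
  pstep (by decide +kernel) (fun h hgen => FiO.covers h hgen) rfl (by decide +kernel)
    (by decide +kernel) cardP

theorem gens_perm : gensClosure p [6, 5, 1, 2, 3, 4, 0] = gensClosure p [0, 1, 2, 3, 4, 5, 6] := by
  unfold gensClosure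
  congr 1
  ext b
  constructor <;> rintro ⟨k, hk, rfl⟩ <;> exact ⟨k, by simp at hk ⊢; omega, rfl⟩

theorem cardD : Finite (gensClosure p [0, 1, 2, 3, 4, 5, 6, 7]) ∧
    Nat.card (gensClosure p [0, 1, 2, 3, 4, 5, 6, 7]) ≤ 6336 * (28 * (27 * (16 * (5 * (4 * (3 * (2 * (1)))))))) :=
  pstep (by decide +kernel) (fun h hgen => FiU6.covers h hgen) rfl (by decide +kernel)
    (by decide +kernel) (gens_perm ▸ cardO)

/-- The diagonal subgroup. -/
noncomputable abbrev D : Subgroup (Q × Cfsg.PSU 6 F4 2) := gensClosure p [0, 1, 2, 3, 4, 5, 6, 7]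

theorem p_mem (k : ℕ) : p k ∈ D := by
  rcases Nat.lt_or_ge k 8 with hk | hk
  · exact Subgroup.subset_closure ⟨k, by simp; omega, rfl⟩
  · rw [p_junk k hk]; exact one_mem _

/-- The first projection. -/
noncomputable def f1 : ↥D →* Q := (MonoidHom.fst _ _).comp D.subtype

/-- The second projection. -/
noncomputable def f2 : ↥D →* Cfsg.PSU 6 F4 2 := (MonoidHom.snd _ _).comp D.subtype

theorem f1_surjective : Function.Surjective f1 := by
  rw [← MonoidHom.range_eq_top, eq_top_iff, ← gen_xq, Subgroup.closure_le]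
  rintro _ ⟨k, rfl⟩
  exact ⟨⟨p k, p_mem k⟩, rfl⟩

theorem f2_surjective : Function.Surjective f2 := by
  rw [← MonoidHom.range_eq_top, eq_top_iff]
  have h := congrArg (Subgroup.map (AutPSU.proj 6 F4 2)) U6.closure_M
  rw [MonoidHom.map_closure, Subgroup.map_top_of_surjective _ AutPSU.proj_surjective] at h
  rw [← h, Subgroup.closure_le]
  rintro _ ⟨_, ⟨k, rfl⟩, rfl⟩
  exact ⟨⟨p k, p_mem k⟩, rfl⟩

theorem card_psu : Nat.card (Cfsg.PSU 6 F4 2) = 9196830720 := by
  have h := UnitaryOrder.card_PSU (F := F4) (q := 2) F4.card_eq 6 (by norm_num)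
  rw [UnitaryOrder.card_GU (F := F4) (q := 2) F4.card_eq] at h
  norm_num [Finset.prod_range_succ, Nat.even_iff] at h
  omega

theorem card_D : Nat.card ↥D = 9196830720 := by
  haveI := cardD.1
  refine le_antisymm (cardD.2.trans (by norm_num)) ?_
  rw [← card_Q]
  exact Nat.card_le_card_of_surjective _ f1_surjective

/-- The quotient is PSU(6,2). -/
noncomputable def iso : Q ≃* Cfsg.PSU 6 F4 2 :=
  haveI := cardD.1
  (MulEquiv.ofBijective f1 ((Nat.bijective_iff_surjective_and_card f1).mpr
      ⟨f1_surjective, card_D.trans card_Q.symm⟩)).symm.trans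
    (MulEquiv.ofBijective f2 ((Nat.bijective_iff_surjective_and_card f2).mpr
      ⟨f2_surjective, card_D.trans card_psu.symm⟩))

/-! ### The centre -/

theorem noncomm : xq 0 * xq 1 ≠ xq 1 * xq 0 := by
  intro h
  rw [xq, xq, ← QuotientGroup.mk_mul, ← QuotientGroup.mk_mul, QuotientGroup.eq] at h
  have ew : (((xs 0 * xs 1)⁻¹ * (xs 1 * xs 0) : ↥FiA.sub) : presFi22.Grp) =
      ((expand [1, 0, 1, 0]).map presFi22.g).prod := by
    rw [prod_expand]
    have h0 : x 0 * x 0 = 1 := by simp [x, loc, presFi22.g_mul_self]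
    have h1 : x 1 * x 1 = 1 := by simp [x, loc, presFi22.g_mul_self]
    simp only [Subgroup.coe_mul, Subgroup.coe_inv, mul_inv_rev, xs, inv_eq_of_mul_eq_one_left h0,
      inv_eq_of_mul_eq_one_left h1, List.map_cons, List.map_nil, List.prod_cons, List.prod_nil,
      mul_one, mul_assoc]
  have hmoved : ∀ w : List ℕ, (w.map presFi22.g).prod = 1 → fixesBase w.reverse = true := by
    intro w hw
    refine List.all_eq_true.mpr fun q hq => ?_
    obtain ⟨φ, hφ, -, -⟩ := FiMain.rep
    have hlt : (FiA.levels.map Level.base).all (fun p => Nat.blt p 3510) = true := by decide +kernel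
    have e := Table.act_permOf FiA.table FiA.certified.invol w.reverse ⟨q, Table.blt_lt (List.all_eq_true.mp hlt q hq)⟩
    rw [Data.act_eq, List.map_reverse, List.reverse_reverse,
      show w.map (FiA.table.permOf FiA.certified.invol) = (w.map presFi22.g).map φ by
        rw [List.map_map]; exact List.map_congr_left fun x _ => (hφ x).symm,
      ← map_list_prod, hw, map_one] at e
    have e' : (q : ℕ) = FiA.table.imgWord w.reverse q := congrArg Fin.val e
    rw [← e']
    exact Nat.beq_refl q
  rcases zpowers_aS _ h with h2 | h2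
  · have := hmoved _ (ew.symm.trans (congrArg Subtype.val h2))
    revert this
    decide +kernel
  · have hp : ((expand [1, 0, 1, 0] ++ [0]).map presFi22.g).prod = 1 := by
      rw [List.map_append, List.prod_append, ← ew, h2]
      simp [aS, presFi22.g_mul_self]
    have := hmoved _ hp
    revert this
    decide +kernel

theorem center_Q : Subgroup.center Q = ⊥ := by
  haveI : IsSimpleGroup (Cfsg.PSU 6 F4 2) := S0283.result (q := 2) F4.card_eq 6 (by norm_num) (by norm_num)
  haveI : IsSimpleGroup Q := iso.isSimpleGroup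
  refine (IsSimpleGroup.eq_bot_or_eq_top_of_normal _ inferInstance).resolve_right fun h => noncomm ?_
  exact Subgroup.mem_center_iff.mp (h ▸ Subgroup.mem_top (xq 1)) (xq 0)

theorem center_sub : Subgroup.center ↥FiA.sub = Subgroup.zpowers aS := by
  refine le_antisymm (fun b hb => ?_) ?_
  · rw [← QuotientGroup.eq_one_iff, ← Subgroup.mem_bot, ← center_Q, Subgroup.mem_center_iff]
    intro c
    obtain ⟨c', rfl⟩ := QuotientGroup.mk_surjective c
    rw [← QuotientGroup.mk_mul, ← QuotientGroup.mk_mul, Subgroup.mem_center_iff.mp hb c']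
  · rw [Subgroup.zpowers_le, Subgroup.mem_center_iff]
    exact aS_comm

/-- The subgroup is a non-split double cover of PSU(6,2). -/
theorem double_cover : Cfsg.IsNonsplitDoubleCover ↥FiA.sub (Cfsg.PSU 6 F4 2) := by
  have hcard : Nat.card (Subgroup.center ↥FiA.sub) = 2 := by
    rw [center_sub, Nat.card_zpowers, orderOf_aS]
  refine ⟨hcard, ⟨(QuotientGroup.quotientMulEquivOfEq center_sub).trans iso⟩, fun L hL => ?_⟩
  have hi : L.index = 2 := by rw [hL.index_eq_card, hcard]
  have hz : aS ∉ L := fun h => by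
    have := Subgroup.disjoint_def.mp hL.disjoint (center_sub.symm ▸ Subgroup.mem_zpowers aS) h
    exact aS_ne this
  have hm : ∀ a b : ↥FiA.sub, a * b ∈ L ↔ (a ∈ L ↔ b ∈ L) := fun a b => Subgroup.mul_mem_iff_of_index_two hi
  have hone : ∀ r : List ℕ, fixesBase (expand r) = true → (r.map xs).prod = 1 := fun r h =>
    Subtype.ext ((coe_xs_prod r).trans ((prod_expand r).symm.trans (word_one _ h)))
  have hadj : ∀ i k : ℕ, fixesBase (expand [i, k, i, k, i, k]) = true → (xs i ∈ L ↔ xs k ∈ L) := by
    intro i k h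
    have h1 : (([i, k, i, k, i, k] : List ℕ).map xs).prod ∈ L := hone _ h ▸ one_mem L
    simp only [List.map_cons, List.map_nil, List.prod_cons, List.prod_nil, mul_one, hm] at h1
    tauto
  have e01 := hadj 0 1 (by decide +kernel)
  have e12 := hadj 1 2 (by decide +kernel)
  have e23 := hadj 2 3 (by decide +kernel)
  have e15 := hadj 1 5 (by decide +kernel)
  have e37 := hadj 3 7 (by decide +kernel)
  have h5 : fixesBase (expand (List.replicate 5 [0, 2, 7, 3, 5, 1]).flatten ++ [0]) = true := by
    decide +kernel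
  have h5' := word_one _ h5
  rw [List.map_append, List.prod_append, prod_expand, ← coe_xs_prod] at h5'
  have h6 : ((List.replicate 5 ([0, 2, 7, 3, 5, 1] : List ℕ)).flatten.map xs).prod * aS = 1 :=
    Subtype.ext (by simpa [aS] using h5')
  rw [List.map_flatten, List.map_replicate, List.prod_flatten, List.map_replicate, List.prod_replicate] at h6
  have hin : (([0, 2, 7, 3, 5, 1] : List ℕ).map xs).prod ∈ L := by
    simp only [List.map_cons, List.map_nil, List.prod_cons, List.prod_nil, mul_one, hm]
    tauto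
  have h7 : (([0, 2, 7, 3, 5, 1] : List ℕ).map xs).prod ^ 5 * aS ∈ L := by rw [h6]; exact one_mem L
  exact hz (((hm _ _).mp h7).mp (pow_mem hin 5))

end Cfsg.Agent.Enum.Fi22U6
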