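import Cfsg.Agent.Lib.Enum.FiGXSteps0
import Cfsg.Agent.Lib.Enum.FiGXSteps1
import Cfsg.Agent.Lib.Enum.FiGXSteps2
import Cfsg.Agent.Lib.Enum.FiGXSteps3
import Cfsg.Agent.Lib.Enum.FiGXSteps4
import Cfsg.Agent.Lib.Enum.FiGXSteps5
import Cfsg.Agent.Lib.Enum.FiGXSteps6
import Cfsg.Agent.Lib.Enum.FiGXSteps7
import Cfsg.Agent.Lib.Enum.FiGXSteps8
import Cfsg.Agent.Lib.Enum.FiGXSteps9
import Cfsg.Agent.Lib.Enum.FiGXSteps10
import Cfsg.Agent.Lib.Enum.FiGXSteps11
import Cfsg.Agent.Lib.Enum.FiGXSteps12
import Cfsg.Agent.Lib.Enum.FiGXSteps13
import Cfsg.Agent.Lib.Enum.FiGXSteps14
import Cfsg.Agent.Lib.Enum.FiGXSteps15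
import Cfsg.Agent.Lib.Enum.FiGXSteps16
import Cfsg.Agent.Lib.Enum.FiGXSteps17
import Cfsg.Agent.Lib.Enum.FiGXSteps18
import Cfsg.Agent.Lib.Enum.FiGXSteps19
import Cfsg.Agent.Lib.Enum.FiGXSteps20
import Cfsg.Agent.Lib.Enum.FiGXSteps21
import Cfsg.Agent.Lib.Enum.FiGXSteps22
import Cfsg.Agent.Lib.Enum.FiGXSteps23
import Cfsg.Agent.Lib.Enum.FiGXSteps24
import Cfsg.Agent.Lib.Enum.FiGXSteps25
import Cfsg.Agent.Lib.Enum.FiGXSteps26
import Cfsg.Agent.Lib.Enum.FiGXSteps27
import Cfsg.Agent.Lib.Enum.FiGXSteps28
import Cfsg.Agent.Lib.Enum.FiGXSteps29
import Cfsg.Agent.Lib.Enum.FiGXSteps30
import Cfsg.Agent.Lib.Enum.FiGXSteps31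
import Cfsg.Agent.Lib.Enum.FiGXSteps32
import Cfsg.Agent.Lib.Enum.FiGXSteps33
import Cfsg.Agent.Lib.Enum.FiGXSteps34
import Cfsg.Agent.Lib.Enum.FiGXSteps35
import Cfsg.Agent.Lib.Enum.FiGXSteps36
import Cfsg.Agent.Lib.Enum.FiGXSteps37
import Cfsg.Agent.Lib.Enum.FiGXSteps38
import Cfsg.Agent.Lib.Enum.FiGXSteps39
import Cfsg.Agent.Lib.Enum.FiGXSteps40
import Cfsg.Agent.Lib.Enum.FiGXItems

/-! Generated: upper bound for an index. -/

set_option autoImplicit false
set_option maxRecDepth 10000

namespace Cfsg.Agent.Enum.FiGX

open Cfsg.Agent.Enum

theorem rot_ok : (data.rels.zip provenance).all (fun wp => Pres.RotOK baseRels wp.1 wp.2) = true := by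
  decide +kernel

theorem upto_step {G : Type*} [Group G] {g : ℕ → G} (h : Holding g 10 baseRels) {k k' : ℕ}
    (l : List ℕ) (hc : data.chkSteps k l = true) (hk : k' = k + l.length)
    (hu : UptoFor g data k) : UptoFor g data k' :=
  uptoFor_step h (by decide) rot_ok rfl l hc hk hu

variable {G : Type*} [Group G] {g : ℕ → G} (h : Holding g 10 baseRels)
include h

theorem upto0 : UptoFor g data 0 := uptoFor_zero _ _
theorem upto1 : UptoFor g data 256 := upto_step h (k := 0) st0 chk0 (by decide +kernel) (upto0 h)
theorem upto2 : UptoFor g data 512 := upto_step h (k := 256) st1 chk1 (by decide +kernel) (upto1 h)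
theorem upto3 : UptoFor g data 768 := upto_step h (k := 512) st2 chk2 (by decide +kernel) (upto2 h)
theorem upto4 : UptoFor g data 1024 := upto_step h (k := 768) st3 chk3 (by decide +kernel) (upto3 h)
theorem upto5 : UptoFor g data 1280 := upto_step h (k := 1024) st4 chk4 (by decide +kernel) (upto4 h)
theorem upto6 : UptoFor g data 1536 := upto_step h (k := 1280) st5 chk5 (by decide +kernel) (upto5 h)
theorem upto7 : UptoFor g data 1792 := upto_step h (k := 1536) st6 chk6 (by decide +kernel) (upto6 h)
theorem upto8 : UptoFor g data 2048 := upto_step h (k := 1792) st7 chk7 (by decide +kernel) (upto7 h)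
theorem upto9 : UptoFor g data 2304 := upto_step h (k := 2048) st8 chk8 (by decide +kernel) (upto8 h)
theorem upto10 : UptoFor g data 2560 := upto_step h (k := 2304) st9 chk9 (by decide +kernel) (upto9 h)
theorem upto11 : UptoFor g data 2816 := upto_step h (k := 2560) st10 chk10 (by decide +kernel) (upto10 h)
theorem upto12 : UptoFor g data 3072 := upto_step h (k := 2816) st11 chk11 (by decide +kernel) (upto11 h)
theorem upto13 : UptoFor g data 3328 := upto_step h (k := 3072) st12 chk12 (by decide +kernel) (upto12 h)
theorem upto14 : UptoFor g data 3584 := upto_step h (k := 3328) st13 chk13 (by decide +kernel) (upto13 h)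
theorem upto15 : UptoFor g data 3840 := upto_step h (k := 3584) st14 chk14 (by decide +kernel) (upto14 h)
theorem upto16 : UptoFor g data 4096 := upto_step h (k := 3840) st15 chk15 (by decide +kernel) (upto15 h)
theorem upto17 : UptoFor g data 4352 := upto_step h (k := 4096) st16 chk16 (by decide +kernel) (upto16 h)
theorem upto18 : UptoFor g data 4608 := upto_step h (k := 4352) st17 chk17 (by decide +kernel) (upto17 h)
theorem upto19 : UptoFor g data 4864 := upto_step h (k := 4608) st18 chk18 (by decide +kernel) (upto18 h)
theorem upto20 : UptoFor g data 5120 := upto_step h (k := 4864) st19 chk19 (by decide +kernel) (upto19 h)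
theorem upto21 : UptoFor g data 5376 := upto_step h (k := 5120) st20 chk20 (by decide +kernel) (upto20 h)
theorem upto22 : UptoFor g data 5632 := upto_step h (k := 5376) st21 chk21 (by decide +kernel) (upto21 h)
theorem upto23 : UptoFor g data 5888 := upto_step h (k := 5632) st22 chk22 (by decide +kernel) (upto22 h)
theorem upto24 : UptoFor g data 6144 := upto_step h (k := 5888) st23 chk23 (by decide +kernel) (upto23 h)
theorem upto25 : UptoFor g data 6400 := upto_step h (k := 6144) st24 chk24 (by decide +kernel) (upto24 h)
theorem upto26 : UptoFor g data 6656 := upto_step h (k := 6400) st25 chk25 (by decide +kernel) (upto25 h)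
theorem upto27 : UptoFor g data 6912 := upto_step h (k := 6656) st26 chk26 (by decide +kernel) (upto26 h)
theorem upto28 : UptoFor g data 7168 := upto_step h (k := 6912) st27 chk27 (by decide +kernel) (upto27 h)
theorem upto29 : UptoFor g data 7424 := upto_step h (k := 7168) st28 chk28 (by decide +kernel) (upto28 h)
theorem upto30 : UptoFor g data 7680 := upto_step h (k := 7424) st29 chk29 (by decide +kernel) (upto29 h)
theorem upto31 : UptoFor g data 7936 := upto_step h (k := 7680) st30 chk30 (by decide +kernel) (upto30 h)
theorem upto32 : UptoFor g data 8192 := upto_step h (k := 7936) st31 chk31 (by decide +kernel) (upto31 h)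
theorem upto33 : UptoFor g data 8448 := upto_step h (k := 8192) st32 chk32 (by decide +kernel) (upto32 h)
theorem upto34 : UptoFor g data 8704 := upto_step h (k := 8448) st33 chk33 (by decide +kernel) (upto33 h)
theorem upto35 : UptoFor g data 8960 := upto_step h (k := 8704) st34 chk34 (by decide +kernel) (upto34 h)
theorem upto36 : UptoFor g data 9216 := upto_step h (k := 8960) st35 chk35 (by decide +kernel) (upto35 h)
theorem upto37 : UptoFor g data 9472 := upto_step h (k := 9216) st36 chk36 (by decide +kernel) (upto36 h)
theorem upto38 : UptoFor g data 9728 := upto_step h (k := 9472) st37 chk37 (by decide +kernel) (upto37 h)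
theorem upto39 : UptoFor g data 9984 := upto_step h (k := 9728) st38 chk38 (by decide +kernel) (upto38 h)
theorem upto40 : UptoFor g data 10240 := upto_step h (k := 9984) st39 chk39 (by decide +kernel) (upto39 h)
theorem upto41 : UptoFor g data 10496 := upto_step h (k := 10240) st40 chk40 (by decide +kernel) (upto40 h)
theorem upto42 : UptoFor g data 10752 := upto_step h (k := 10496) st41 chk41 (by decide +kernel) (upto41 h)
theorem upto43 : UptoFor g data 11008 := upto_step h (k := 10752) st42 chk42 (by decide +kernel) (upto42 h)
theorem upto44 : UptoFor g data 11264 := upto_step h (k := 11008) st43 chk43 (by decide +kernel) (upto43 h)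
theorem upto45 : UptoFor g data 11520 := upto_step h (k := 11264) st44 chk44 (by decide +kernel) (upto44 h)
theorem upto46 : UptoFor g data 11776 := upto_step h (k := 11520) st45 chk45 (by decide +kernel) (upto45 h)
theorem upto47 : UptoFor g data 12032 := upto_step h (k := 11776) st46 chk46 (by decide +kernel) (upto46 h)
theorem upto48 : UptoFor g data 12288 := upto_step h (k := 12032) st47 chk47 (by decide +kernel) (upto47 h)
theorem upto49 : UptoFor g data 12544 := upto_step h (k := 12288) st48 chk48 (by decide +kernel) (upto48 h)
theorem upto50 : UptoFor g data 12800 := upto_step h (k := 12544) st49 chk49 (by decide +kernel) (upto49 h)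
theorem upto51 : UptoFor g data 13056 := upto_step h (k := 12800) st50 chk50 (by decide +kernel) (upto50 h)
theorem upto52 : UptoFor g data 13312 := upto_step h (k := 13056) st51 chk51 (by decide +kernel) (upto51 h)
theorem upto53 : UptoFor g data 13568 := upto_step h (k := 13312) st52 chk52 (by decide +kernel) (upto52 h)
theorem upto54 : UptoFor g data 13824 := upto_step h (k := 13568) st53 chk53 (by decide +kernel) (upto53 h)
theorem upto55 : UptoFor g data 14080 := upto_step h (k := 13824) st54 chk54 (by decide +kernel) (upto54 h)
theorem upto56 : UptoFor g data 14336 := upto_step h (k := 14080) st55 chk55 (by decide +kernel) (upto55 h)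
theorem upto57 : UptoFor g data 14592 := upto_step h (k := 14336) st56 chk56 (by decide +kernel) (upto56 h)
theorem upto58 : UptoFor g data 14848 := upto_step h (k := 14592) st57 chk57 (by decide +kernel) (upto57 h)
theorem upto59 : UptoFor g data 15104 := upto_step h (k := 14848) st58 chk58 (by decide +kernel) (upto58 h)
theorem upto60 : UptoFor g data 15360 := upto_step h (k := 15104) st59 chk59 (by decide +kernel) (upto59 h)
theorem upto61 : UptoFor g data 15616 := upto_step h (k := 15360) st60 chk60 (by decide +kernel) (upto60 h)
theorem upto62 : UptoFor g data 15872 := upto_step h (k := 15616) st61 chk61 (by decide +kernel) (upto61 h)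
theorem upto63 : UptoFor g data 16128 := upto_step h (k := 15872) st62 chk62 (by decide +kernel) (upto62 h)
theorem upto64 : UptoFor g data 16384 := upto_step h (k := 16128) st63 chk63 (by decide +kernel) (upto63 h)
theorem upto65 : UptoFor g data 16640 := upto_step h (k := 16384) st64 chk64 (by decide +kernel) (upto64 h)
theorem upto66 : UptoFor g data 16896 := upto_step h (k := 16640) st65 chk65 (by decide +kernel) (upto65 h)
theorem upto67 : UptoFor g data 17152 := upto_step h (k := 16896) st66 chk66 (by decide +kernel) (upto66 h)
theorem upto68 : UptoFor g data 17408 := upto_step h (k := 17152) st67 chk67 (by decide +kernel) (upto67 h)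
theorem upto69 : UptoFor g data 17664 := upto_step h (k := 17408) st68 chk68 (by decide +kernel) (upto68 h)
theorem upto70 : UptoFor g data 17920 := upto_step h (k := 17664) st69 chk69 (by decide +kernel) (upto69 h)
theorem upto71 : UptoFor g data 18176 := upto_step h (k := 17920) st70 chk70 (by decide +kernel) (upto70 h)
theorem upto72 : UptoFor g data 18432 := upto_step h (k := 18176) st71 chk71 (by decide +kernel) (upto71 h)
theorem upto73 : UptoFor g data 18688 := upto_step h (k := 18432) st72 chk72 (by decide +kernel) (upto72 h)
theorem upto74 : UptoFor g data 18944 := upto_step h (k := 18688) st73 chk73 (by decide +kernel) (upto73 h)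
theorem upto75 : UptoFor g data 19200 := upto_step h (k := 18944) st74 chk74 (by decide +kernel) (upto74 h)
theorem upto76 : UptoFor g data 19456 := upto_step h (k := 19200) st75 chk75 (by decide +kernel) (upto75 h)
theorem upto77 : UptoFor g data 19712 := upto_step h (k := 19456) st76 chk76 (by decide +kernel) (upto76 h)
theorem upto78 : UptoFor g data 19968 := upto_step h (k := 19712) st77 chk77 (by decide +kernel) (upto77 h)
theorem upto79 : UptoFor g data 20224 := upto_step h (k := 19968) st78 chk78 (by decide +kernel) (upto78 h)
theorem upto80 : UptoFor g data 20480 := upto_step h (k := 20224) st79 chk79 (by decide +kernel) (upto79 h)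
theorem upto81 : UptoFor g data 20736 := upto_step h (k := 20480) st80 chk80 (by decide +kernel) (upto80 h)
theorem upto82 : UptoFor g data 20992 := upto_step h (k := 20736) st81 chk81 (by decide +kernel) (upto81 h)
theorem upto83 : UptoFor g data 21248 := upto_step h (k := 20992) st82 chk82 (by decide +kernel) (upto82 h)
theorem upto84 : UptoFor g data 21504 := upto_step h (k := 21248) st83 chk83 (by decide +kernel) (upto83 h)
theorem upto85 : UptoFor g data 21760 := upto_step h (k := 21504) st84 chk84 (by decide +kernel) (upto84 h)
theorem upto86 : UptoFor g data 22016 := upto_step h (k := 21760) st85 chk85 (by decide +kernel) (upto85 h)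
theorem upto87 : UptoFor g data 22272 := upto_step h (k := 22016) st86 chk86 (by decide +kernel) (upto86 h)
theorem upto88 : UptoFor g data 22528 := upto_step h (k := 22272) st87 chk87 (by decide +kernel) (upto87 h)
theorem upto89 : UptoFor g data 22784 := upto_step h (k := 22528) st88 chk88 (by decide +kernel) (upto88 h)
theorem upto90 : UptoFor g data 23040 := upto_step h (k := 22784) st89 chk89 (by decide +kernel) (upto89 h)
theorem upto91 : UptoFor g data 23296 := upto_step h (k := 23040) st90 chk90 (by decide +kernel) (upto90 h)
theorem upto92 : UptoFor g data 23552 := upto_step h (k := 23296) st91 chk91 (by decide +kernel) (upto91 h)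
theorem upto93 : UptoFor g data 23808 := upto_step h (k := 23552) st92 chk92 (by decide +kernel) (upto92 h)
theorem upto94 : UptoFor g data 24064 := upto_step h (k := 23808) st93 chk93 (by decide +kernel) (upto93 h)
theorem upto95 : UptoFor g data 24320 := upto_step h (k := 24064) st94 chk94 (by decide +kernel) (upto94 h)
theorem upto96 : UptoFor g data 24576 := upto_step h (k := 24320) st95 chk95 (by decide +kernel) (upto95 h)
theorem upto97 : UptoFor g data 24832 := upto_step h (k := 24576) st96 chk96 (by decide +kernel) (upto96 h)
theorem upto98 : UptoFor g data 25088 := upto_step h (k := 24832) st97 chk97 (by decide +kernel) (upto97 h)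
theorem upto99 : UptoFor g data 25344 := upto_step h (k := 25088) st98 chk98 (by decide +kernel) (upto98 h)
theorem upto100 : UptoFor g data 25600 := upto_step h (k := 25344) st99 chk99 (by decide +kernel) (upto99 h)
theorem upto101 : UptoFor g data 25856 := upto_step h (k := 25600) st100 chk100 (by decide +kernel) (upto100 h)
theorem upto102 : UptoFor g data 26112 := upto_step h (k := 25856) st101 chk101 (by decide +kernel) (upto101 h)
theorem upto103 : UptoFor g data 26368 := upto_step h (k := 26112) st102 chk102 (by decide +kernel) (upto102 h)
theorem upto104 : UptoFor g data 26624 := upto_step h (k := 26368) st103 chk103 (by decide +kernel) (upto103 h)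
theorem upto105 : UptoFor g data 26880 := upto_step h (k := 26624) st104 chk104 (by decide +kernel) (upto104 h)
theorem upto106 : UptoFor g data 27136 := upto_step h (k := 26880) st105 chk105 (by decide +kernel) (upto105 h)
theorem upto107 : UptoFor g data 27392 := upto_step h (k := 27136) st106 chk106 (by decide +kernel) (upto106 h)
theorem upto108 : UptoFor g data 27648 := upto_step h (k := 27392) st107 chk107 (by decide +kernel) (upto107 h)
theorem upto109 : UptoFor g data 27904 := upto_step h (k := 27648) st108 chk108 (by decide +kernel) (upto108 h)
theorem upto110 : UptoFor g data 28160 := upto_step h (k := 27904) st109 chk109 (by decide +kernel) (upto109 h)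
theorem upto111 : UptoFor g data 28416 := upto_step h (k := 28160) st110 chk110 (by decide +kernel) (upto110 h)
theorem upto112 : UptoFor g data 28672 := upto_step h (k := 28416) st111 chk111 (by decide +kernel) (upto111 h)
theorem upto113 : UptoFor g data 28928 := upto_step h (k := 28672) st112 chk112 (by decide +kernel) (upto112 h)
theorem upto114 : UptoFor g data 29184 := upto_step h (k := 28928) st113 chk113 (by decide +kernel) (upto113 h)
theorem upto115 : UptoFor g data 29440 := upto_step h (k := 29184) st114 chk114 (by decide +kernel) (upto114 h)
theorem upto116 : UptoFor g data 29696 := upto_step h (k := 29440) st115 chk115 (by decide +kernel) (upto115 h)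
theorem upto117 : UptoFor g data 29952 := upto_step h (k := 29696) st116 chk116 (by decide +kernel) (upto116 h)
theorem upto118 : UptoFor g data 30208 := upto_step h (k := 29952) st117 chk117 (by decide +kernel) (upto117 h)
theorem upto119 : UptoFor g data 30464 := upto_step h (k := 30208) st118 chk118 (by decide +kernel) (upto118 h)
theorem upto120 : UptoFor g data 30720 := upto_step h (k := 30464) st119 chk119 (by decide +kernel) (upto119 h)
theorem upto121 : UptoFor g data 30976 := upto_step h (k := 30720) st120 chk120 (by decide +kernel) (upto120 h)
theorem upto122 : UptoFor g data 31232 := upto_step h (k := 30976) st121 chk121 (by decide +kernel) (upto121 h)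
theorem upto123 : UptoFor g data 31488 := upto_step h (k := 31232) st122 chk122 (by decide +kernel) (upto122 h)
theorem upto124 : UptoFor g data 31744 := upto_step h (k := 31488) st123 chk123 (by decide +kernel) (upto123 h)
theorem upto125 : UptoFor g data 32000 := upto_step h (k := 31744) st124 chk124 (by decide +kernel) (upto124 h)
theorem upto126 : UptoFor g data 32256 := upto_step h (k := 32000) st125 chk125 (by decide +kernel) (upto125 h)
theorem upto127 : UptoFor g data 32512 := upto_step h (k := 32256) st126 chk126 (by decide +kernel) (upto126 h)
theorem upto128 : UptoFor g data 32768 := upto_step h (k := 32512) st127 chk127 (by decide +kernel) (upto127 h)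
theorem upto129 : UptoFor g data 33024 := upto_step h (k := 32768) st128 chk128 (by decide +kernel) (upto128 h)
theorem upto130 : UptoFor g data 33280 := upto_step h (k := 33024) st129 chk129 (by decide +kernel) (upto129 h)
theorem upto131 : UptoFor g data 33536 := upto_step h (k := 33280) st130 chk130 (by decide +kernel) (upto130 h)
theorem upto132 : UptoFor g data 33792 := upto_step h (k := 33536) st131 chk131 (by decide +kernel) (upto131 h)
theorem upto133 : UptoFor g data 34048 := upto_step h (k := 33792) st132 chk132 (by decide +kernel) (upto132 h)
theorem upto134 : UptoFor g data 34304 := upto_step h (k := 34048) st133 chk133 (by decide +kernel) (upto133 h)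
theorem upto135 : UptoFor g data 34560 := upto_step h (k := 34304) st134 chk134 (by decide +kernel) (upto134 h)
theorem upto136 : UptoFor g data 34816 := upto_step h (k := 34560) st135 chk135 (by decide +kernel) (upto135 h)
theorem upto137 : UptoFor g data 35072 := upto_step h (k := 34816) st136 chk136 (by decide +kernel) (upto136 h)
theorem upto138 : UptoFor g data 35328 := upto_step h (k := 35072) st137 chk137 (by decide +kernel) (upto137 h)
theorem upto139 : UptoFor g data 35584 := upto_step h (k := 35328) st138 chk138 (by decide +kernel) (upto138 h)
theorem upto140 : UptoFor g data 35840 := upto_step h (k := 35584) st139 chk139 (by decide +kernel) (upto139 h)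
theorem upto141 : UptoFor g data 36096 := upto_step h (k := 35840) st140 chk140 (by decide +kernel) (upto140 h)
theorem upto142 : UptoFor g data 36352 := upto_step h (k := 36096) st141 chk141 (by decide +kernel) (upto141 h)
theorem upto143 : UptoFor g data 36608 := upto_step h (k := 36352) st142 chk142 (by decide +kernel) (upto142 h)
theorem upto144 : UptoFor g data 36864 := upto_step h (k := 36608) st143 chk143 (by decide +kernel) (upto143 h)
theorem upto145 : UptoFor g data 37120 := upto_step h (k := 36864) st144 chk144 (by decide +kernel) (upto144 h)
theorem upto146 : UptoFor g data 37376 := upto_step h (k := 37120) st145 chk145 (by decide +kernel) (upto145 h)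
theorem upto147 : UptoFor g data 37632 := upto_step h (k := 37376) st146 chk146 (by decide +kernel) (upto146 h)
theorem upto148 : UptoFor g data 37888 := upto_step h (k := 37632) st147 chk147 (by decide +kernel) (upto147 h)
theorem upto149 : UptoFor g data 38144 := upto_step h (k := 37888) st148 chk148 (by decide +kernel) (upto148 h)
theorem upto150 : UptoFor g data 38400 := upto_step h (k := 38144) st149 chk149 (by decide +kernel) (upto149 h)
theorem upto151 : UptoFor g data 38656 := upto_step h (k := 38400) st150 chk150 (by decide +kernel) (upto150 h)
theorem upto152 : UptoFor g data 38912 := upto_step h (k := 38656) st151 chk151 (by decide +kernel) (upto151 h)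
theorem upto153 : UptoFor g data 39168 := upto_step h (k := 38912) st152 chk152 (by decide +kernel) (upto152 h)
theorem upto154 : UptoFor g data 39424 := upto_step h (k := 39168) st153 chk153 (by decide +kernel) (upto153 h)
theorem upto155 : UptoFor g data 39680 := upto_step h (k := 39424) st154 chk154 (by decide +kernel) (upto154 h)
theorem upto156 : UptoFor g data 39936 := upto_step h (k := 39680) st155 chk155 (by decide +kernel) (upto155 h)
theorem upto157 : UptoFor g data 40192 := upto_step h (k := 39936) st156 chk156 (by decide +kernel) (upto156 h)
theorem upto158 : UptoFor g data 40448 := upto_step h (k := 40192) st157 chk157 (by decide +kernel) (upto157 h)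
theorem upto159 : UptoFor g data 40704 := upto_step h (k := 40448) st158 chk158 (by decide +kernel) (upto158 h)
theorem upto160 : UptoFor g data 40960 := upto_step h (k := 40704) st159 chk159 (by decide +kernel) (upto159 h)
theorem upto161 : UptoFor g data 41216 := upto_step h (k := 40960) st160 chk160 (by decide +kernel) (upto160 h)
theorem upto162 : UptoFor g data 41472 := upto_step h (k := 41216) st161 chk161 (by decide +kernel) (upto161 h)
theorem upto163 : UptoFor g data 41728 := upto_step h (k := 41472) st162 chk162 (by decide +kernel) (upto162 h)
theorem upto164 : UptoFor g data 41984 := upto_step h (k := 41728) st163 chk163 (by decide +kernel) (upto163 h)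
theorem upto165 : UptoFor g data 42240 := upto_step h (k := 41984) st164 chk164 (by decide +kernel) (upto164 h)
theorem upto166 : UptoFor g data 42496 := upto_step h (k := 42240) st165 chk165 (by decide +kernel) (upto165 h)
theorem upto167 : UptoFor g data 42752 := upto_step h (k := 42496) st166 chk166 (by decide +kernel) (upto166 h)
theorem upto168 : UptoFor g data 43008 := upto_step h (k := 42752) st167 chk167 (by decide +kernel) (upto167 h)
theorem upto169 : UptoFor g data 43264 := upto_step h (k := 43008) st168 chk168 (by decide +kernel) (upto168 h)
theorem upto170 : UptoFor g data 43520 := upto_step h (k := 43264) st169 chk169 (by decide +kernel) (upto169 h)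
theorem upto171 : UptoFor g data 43776 := upto_step h (k := 43520) st170 chk170 (by decide +kernel) (upto170 h)
theorem upto172 : UptoFor g data 44032 := upto_step h (k := 43776) st171 chk171 (by decide +kernel) (upto171 h)
theorem upto173 : UptoFor g data 44288 := upto_step h (k := 44032) st172 chk172 (by decide +kernel) (upto172 h)
theorem upto174 : UptoFor g data 44544 := upto_step h (k := 44288) st173 chk173 (by decide +kernel) (upto173 h)
theorem upto175 : UptoFor g data 44800 := upto_step h (k := 44544) st174 chk174 (by decide +kernel) (upto174 h)
theorem upto176 : UptoFor g data 45056 := upto_step h (k := 44800) st175 chk175 (by decide +kernel) (upto175 h)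
theorem upto177 : UptoFor g data 45312 := upto_step h (k := 45056) st176 chk176 (by decide +kernel) (upto176 h)
theorem upto178 : UptoFor g data 45568 := upto_step h (k := 45312) st177 chk177 (by decide +kernel) (upto177 h)
theorem upto179 : UptoFor g data 45824 := upto_step h (k := 45568) st178 chk178 (by decide +kernel) (upto178 h)
theorem upto180 : UptoFor g data 46080 := upto_step h (k := 45824) st179 chk179 (by decide +kernel) (upto179 h)
theorem upto181 : UptoFor g data 46336 := upto_step h (k := 46080) st180 chk180 (by decide +kernel) (upto180 h)
theorem upto182 : UptoFor g data 46592 := upto_step h (k := 46336) st181 chk181 (by decide +kernel) (upto181 h)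
theorem upto183 : UptoFor g data 46848 := upto_step h (k := 46592) st182 chk182 (by decide +kernel) (upto182 h)
theorem upto184 : UptoFor g data 47104 := upto_step h (k := 46848) st183 chk183 (by decide +kernel) (upto183 h)
theorem upto185 : UptoFor g data 47360 := upto_step h (k := 47104) st184 chk184 (by decide +kernel) (upto184 h)
theorem upto186 : UptoFor g data 47616 := upto_step h (k := 47360) st185 chk185 (by decide +kernel) (upto185 h)
theorem upto187 : UptoFor g data 47872 := upto_step h (k := 47616) st186 chk186 (by decide +kernel) (upto186 h)
theorem upto188 : UptoFor g data 48128 := upto_step h (k := 47872) st187 chk187 (by decide +kernel) (upto187 h)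
theorem upto189 : UptoFor g data 48384 := upto_step h (k := 48128) st188 chk188 (by decide +kernel) (upto188 h)
theorem upto190 : UptoFor g data 48640 := upto_step h (k := 48384) st189 chk189 (by decide +kernel) (upto189 h)
theorem upto191 : UptoFor g data 48896 := upto_step h (k := 48640) st190 chk190 (by decide +kernel) (upto190 h)
theorem upto192 : UptoFor g data 49152 := upto_step h (k := 48896) st191 chk191 (by decide +kernel) (upto191 h)
theorem upto193 : UptoFor g data 49408 := upto_step h (k := 49152) st192 chk192 (by decide +kernel) (upto192 h)
theorem upto194 : UptoFor g data 49664 := upto_step h (k := 49408) st193 chk193 (by decide +kernel) (upto193 h)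
theorem upto195 : UptoFor g data 49920 := upto_step h (k := 49664) st194 chk194 (by decide +kernel) (upto194 h)
theorem upto196 : UptoFor g data 50176 := upto_step h (k := 49920) st195 chk195 (by decide +kernel) (upto195 h)
theorem upto197 : UptoFor g data 50432 := upto_step h (k := 50176) st196 chk196 (by decide +kernel) (upto196 h)
theorem upto198 : UptoFor g data 50688 := upto_step h (k := 50432) st197 chk197 (by decide +kernel) (upto197 h)
theorem upto199 : UptoFor g data 50944 := upto_step h (k := 50688) st198 chk198 (by decide +kernel) (upto198 h)
theorem upto200 : UptoFor g data 51200 := upto_step h (k := 50944) st199 chk199 (by decide +kernel) (upto199 h)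
theorem upto201 : UptoFor g data 51456 := upto_step h (k := 51200) st200 chk200 (by decide +kernel) (upto200 h)
theorem upto202 : UptoFor g data 51712 := upto_step h (k := 51456) st201 chk201 (by decide +kernel) (upto201 h)
theorem upto203 : UptoFor g data 51968 := upto_step h (k := 51712) st202 chk202 (by decide +kernel) (upto202 h)
theorem upto204 : UptoFor g data 52224 := upto_step h (k := 51968) st203 chk203 (by decide +kernel) (upto203 h)
theorem upto205 : UptoFor g data 52480 := upto_step h (k := 52224) st204 chk204 (by decide +kernel) (upto204 h)
theorem upto206 : UptoFor g data 52736 := upto_step h (k := 52480) st205 chk205 (by decide +kernel) (upto205 h)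
theorem upto207 : UptoFor g data 52992 := upto_step h (k := 52736) st206 chk206 (by decide +kernel) (upto206 h)
theorem upto208 : UptoFor g data 53248 := upto_step h (k := 52992) st207 chk207 (by decide +kernel) (upto207 h)
theorem upto209 : UptoFor g data 53504 := upto_step h (k := 53248) st208 chk208 (by decide +kernel) (upto208 h)
theorem upto210 : UptoFor g data 53760 := upto_step h (k := 53504) st209 chk209 (by decide +kernel) (upto209 h)
theorem upto211 : UptoFor g data 54016 := upto_step h (k := 53760) st210 chk210 (by decide +kernel) (upto210 h)
theorem upto212 : UptoFor g data 54272 := upto_step h (k := 54016) st211 chk211 (by decide +kernel) (upto211 h)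
theorem upto213 : UptoFor g data 54528 := upto_step h (k := 54272) st212 chk212 (by decide +kernel) (upto212 h)
theorem upto214 : UptoFor g data 54784 := upto_step h (k := 54528) st213 chk213 (by decide +kernel) (upto213 h)
theorem upto215 : UptoFor g data 55040 := upto_step h (k := 54784) st214 chk214 (by decide +kernel) (upto214 h)
theorem upto216 : UptoFor g data 55296 := upto_step h (k := 55040) st215 chk215 (by decide +kernel) (upto215 h)
theorem upto217 : UptoFor g data 55552 := upto_step h (k := 55296) st216 chk216 (by decide +kernel) (upto216 h)
theorem upto218 : UptoFor g data 55808 := upto_step h (k := 55552) st217 chk217 (by decide +kernel) (upto217 h)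
theorem upto219 : UptoFor g data 56064 := upto_step h (k := 55808) st218 chk218 (by decide +kernel) (upto218 h)
theorem upto220 : UptoFor g data 56320 := upto_step h (k := 56064) st219 chk219 (by decide +kernel) (upto219 h)
theorem upto221 : UptoFor g data 56576 := upto_step h (k := 56320) st220 chk220 (by decide +kernel) (upto220 h)
theorem upto222 : UptoFor g data 56832 := upto_step h (k := 56576) st221 chk221 (by decide +kernel) (upto221 h)
theorem upto223 : UptoFor g data 57088 := upto_step h (k := 56832) st222 chk222 (by decide +kernel) (upto222 h)
theorem upto224 : UptoFor g data 57344 := upto_step h (k := 57088) st223 chk223 (by decide +kernel) (upto223 h)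
theorem upto225 : UptoFor g data 57600 := upto_step h (k := 57344) st224 chk224 (by decide +kernel) (upto224 h)
theorem upto226 : UptoFor g data 57856 := upto_step h (k := 57600) st225 chk225 (by decide +kernel) (upto225 h)
theorem upto227 : UptoFor g data 58112 := upto_step h (k := 57856) st226 chk226 (by decide +kernel) (upto226 h)
theorem upto228 : UptoFor g data 58368 := upto_step h (k := 58112) st227 chk227 (by decide +kernel) (upto227 h)
theorem upto229 : UptoFor g data 58624 := upto_step h (k := 58368) st228 chk228 (by decide +kernel) (upto228 h)
theorem upto230 : UptoFor g data 58880 := upto_step h (k := 58624) st229 chk229 (by decide +kernel) (upto229 h)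
theorem upto231 : UptoFor g data 59136 := upto_step h (k := 58880) st230 chk230 (by decide +kernel) (upto230 h)
theorem upto232 : UptoFor g data 59392 := upto_step h (k := 59136) st231 chk231 (by decide +kernel) (upto231 h)
theorem upto233 : UptoFor g data 59648 := upto_step h (k := 59392) st232 chk232 (by decide +kernel) (upto232 h)
theorem upto234 : UptoFor g data 59904 := upto_step h (k := 59648) st233 chk233 (by decide +kernel) (upto233 h)
theorem upto235 : UptoFor g data 60160 := upto_step h (k := 59904) st234 chk234 (by decide +kernel) (upto234 h)
theorem upto236 : UptoFor g data 60416 := upto_step h (k := 60160) st235 chk235 (by decide +kernel) (upto235 h)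
theorem upto237 : UptoFor g data 60672 := upto_step h (k := 60416) st236 chk236 (by decide +kernel) (upto236 h)
theorem upto238 : UptoFor g data 60928 := upto_step h (k := 60672) st237 chk237 (by decide +kernel) (upto237 h)
theorem upto239 : UptoFor g data 61184 := upto_step h (k := 60928) st238 chk238 (by decide +kernel) (upto238 h)
theorem upto240 : UptoFor g data 61440 := upto_step h (k := 61184) st239 chk239 (by decide +kernel) (upto239 h)
theorem upto241 : UptoFor g data 61696 := upto_step h (k := 61440) st240 chk240 (by decide +kernel) (upto240 h)
theorem upto242 : UptoFor g data 61952 := upto_step h (k := 61696) st241 chk241 (by decide +kernel) (upto241 h)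
theorem upto243 : UptoFor g data 62208 := upto_step h (k := 61952) st242 chk242 (by decide +kernel) (upto242 h)
theorem upto244 : UptoFor g data 62464 := upto_step h (k := 62208) st243 chk243 (by decide +kernel) (upto243 h)
theorem upto245 : UptoFor g data 62720 := upto_step h (k := 62464) st244 chk244 (by decide +kernel) (upto244 h)
theorem upto246 : UptoFor g data 62976 := upto_step h (k := 62720) st245 chk245 (by decide +kernel) (upto245 h)
theorem upto247 : UptoFor g data 63232 := upto_step h (k := 62976) st246 chk246 (by decide +kernel) (upto246 h)
theorem upto248 : UptoFor g data 63488 := upto_step h (k := 63232) st247 chk247 (by decide +kernel) (upto247 h)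
theorem upto249 : UptoFor g data 63744 := upto_step h (k := 63488) st248 chk248 (by decide +kernel) (upto248 h)
theorem upto250 : UptoFor g data 64000 := upto_step h (k := 63744) st249 chk249 (by decide +kernel) (upto249 h)
theorem upto251 : UptoFor g data 64256 := upto_step h (k := 64000) st250 chk250 (by decide +kernel) (upto250 h)
theorem upto252 : UptoFor g data 64512 := upto_step h (k := 64256) st251 chk251 (by decide +kernel) (upto251 h)
theorem upto253 : UptoFor g data 64768 := upto_step h (k := 64512) st252 chk252 (by decide +kernel) (upto252 h)
theorem upto254 : UptoFor g data 65024 := upto_step h (k := 64768) st253 chk253 (by decide +kernel) (upto253 h)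
theorem upto255 : UptoFor g data 65280 := upto_step h (k := 65024) st254 chk254 (by decide +kernel) (upto254 h)
theorem upto256 : UptoFor g data 65536 := upto_step h (k := 65280) st255 chk255 (by decide +kernel) (upto255 h)
theorem upto257 : UptoFor g data 65792 := upto_step h (k := 65536) st256 chk256 (by decide +kernel) (upto256 h)
theorem upto258 : UptoFor g data 66048 := upto_step h (k := 65792) st257 chk257 (by decide +kernel) (upto257 h)
theorem upto259 : UptoFor g data 66304 := upto_step h (k := 66048) st258 chk258 (by decide +kernel) (upto258 h)
theorem upto260 : UptoFor g data 66560 := upto_step h (k := 66304) st259 chk259 (by decide +kernel) (upto259 h)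
theorem upto261 : UptoFor g data 66816 := upto_step h (k := 66560) st260 chk260 (by decide +kernel) (upto260 h)
theorem upto262 : UptoFor g data 67072 := upto_step h (k := 66816) st261 chk261 (by decide +kernel) (upto261 h)
theorem upto263 : UptoFor g data 67328 := upto_step h (k := 67072) st262 chk262 (by decide +kernel) (upto262 h)
theorem upto264 : UptoFor g data 67584 := upto_step h (k := 67328) st263 chk263 (by decide +kernel) (upto263 h)
theorem upto265 : UptoFor g data 67840 := upto_step h (k := 67584) st264 chk264 (by decide +kernel) (upto264 h)
theorem upto266 : UptoFor g data 68096 := upto_step h (k := 67840) st265 chk265 (by decide +kernel) (upto265 h)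
theorem upto267 : UptoFor g data 68352 := upto_step h (k := 68096) st266 chk266 (by decide +kernel) (upto266 h)
theorem upto268 : UptoFor g data 68608 := upto_step h (k := 68352) st267 chk267 (by decide +kernel) (upto267 h)
theorem upto269 : UptoFor g data 68864 := upto_step h (k := 68608) st268 chk268 (by decide +kernel) (upto268 h)
theorem upto270 : UptoFor g data 69120 := upto_step h (k := 68864) st269 chk269 (by decide +kernel) (upto269 h)
theorem upto271 : UptoFor g data 69376 := upto_step h (k := 69120) st270 chk270 (by decide +kernel) (upto270 h)
theorem upto272 : UptoFor g data 69632 := upto_step h (k := 69376) st271 chk271 (by decide +kernel) (upto271 h)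
theorem upto273 : UptoFor g data 69888 := upto_step h (k := 69632) st272 chk272 (by decide +kernel) (upto272 h)
theorem upto274 : UptoFor g data 70144 := upto_step h (k := 69888) st273 chk273 (by decide +kernel) (upto273 h)
theorem upto275 : UptoFor g data 70400 := upto_step h (k := 70144) st274 chk274 (by decide +kernel) (upto274 h)
theorem upto276 : UptoFor g data 70656 := upto_step h (k := 70400) st275 chk275 (by decide +kernel) (upto275 h)
theorem upto277 : UptoFor g data 70912 := upto_step h (k := 70656) st276 chk276 (by decide +kernel) (upto276 h)
theorem upto278 : UptoFor g data 71168 := upto_step h (k := 70912) st277 chk277 (by decide +kernel) (upto277 h)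
theorem upto279 : UptoFor g data 71424 := upto_step h (k := 71168) st278 chk278 (by decide +kernel) (upto278 h)
theorem upto280 : UptoFor g data 71680 := upto_step h (k := 71424) st279 chk279 (by decide +kernel) (upto279 h)
theorem upto281 : UptoFor g data 71936 := upto_step h (k := 71680) st280 chk280 (by decide +kernel) (upto280 h)
theorem upto282 : UptoFor g data 72192 := upto_step h (k := 71936) st281 chk281 (by decide +kernel) (upto281 h)
theorem upto283 : UptoFor g data 72448 := upto_step h (k := 72192) st282 chk282 (by decide +kernel) (upto282 h)
theorem upto284 : UptoFor g data 72704 := upto_step h (k := 72448) st283 chk283 (by decide +kernel) (upto283 h)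
theorem upto285 : UptoFor g data 72960 := upto_step h (k := 72704) st284 chk284 (by decide +kernel) (upto284 h)
theorem upto286 : UptoFor g data 73216 := upto_step h (k := 72960) st285 chk285 (by decide +kernel) (upto285 h)
theorem upto287 : UptoFor g data 73472 := upto_step h (k := 73216) st286 chk286 (by decide +kernel) (upto286 h)
theorem upto288 : UptoFor g data 73728 := upto_step h (k := 73472) st287 chk287 (by decide +kernel) (upto287 h)
theorem upto289 : UptoFor g data 73984 := upto_step h (k := 73728) st288 chk288 (by decide +kernel) (upto288 h)
theorem upto290 : UptoFor g data 74240 := upto_step h (k := 73984) st289 chk289 (by decide +kernel) (upto289 h)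
theorem upto291 : UptoFor g data 74496 := upto_step h (k := 74240) st290 chk290 (by decide +kernel) (upto290 h)
theorem upto292 : UptoFor g data 74752 := upto_step h (k := 74496) st291 chk291 (by decide +kernel) (upto291 h)
theorem upto293 : UptoFor g data 75008 := upto_step h (k := 74752) st292 chk292 (by decide +kernel) (upto292 h)
theorem upto294 : UptoFor g data 75264 := upto_step h (k := 75008) st293 chk293 (by decide +kernel) (upto293 h)
theorem upto295 : UptoFor g data 75520 := upto_step h (k := 75264) st294 chk294 (by decide +kernel) (upto294 h)
theorem upto296 : UptoFor g data 75776 := upto_step h (k := 75520) st295 chk295 (by decide +kernel) (upto295 h)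
theorem upto297 : UptoFor g data 76032 := upto_step h (k := 75776) st296 chk296 (by decide +kernel) (upto296 h)
theorem upto298 : UptoFor g data 76288 := upto_step h (k := 76032) st297 chk297 (by decide +kernel) (upto297 h)
theorem upto299 : UptoFor g data 76544 := upto_step h (k := 76288) st298 chk298 (by decide +kernel) (upto298 h)
theorem upto300 : UptoFor g data 76800 := upto_step h (k := 76544) st299 chk299 (by decide +kernel) (upto299 h)
theorem upto301 : UptoFor g data 77056 := upto_step h (k := 76800) st300 chk300 (by decide +kernel) (upto300 h)
theorem upto302 : UptoFor g data 77312 := upto_step h (k := 77056) st301 chk301 (by decide +kernel) (upto301 h)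
theorem upto303 : UptoFor g data 77568 := upto_step h (k := 77312) st302 chk302 (by decide +kernel) (upto302 h)
theorem upto304 : UptoFor g data 77824 := upto_step h (k := 77568) st303 chk303 (by decide +kernel) (upto303 h)
theorem upto305 : UptoFor g data 78080 := upto_step h (k := 77824) st304 chk304 (by decide +kernel) (upto304 h)
theorem upto306 : UptoFor g data 78336 := upto_step h (k := 78080) st305 chk305 (by decide +kernel) (upto305 h)
theorem upto307 : UptoFor g data 78592 := upto_step h (k := 78336) st306 chk306 (by decide +kernel) (upto306 h)
theorem upto308 : UptoFor g data 78848 := upto_step h (k := 78592) st307 chk307 (by decide +kernel) (upto307 h)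
theorem upto309 : UptoFor g data 79104 := upto_step h (k := 78848) st308 chk308 (by decide +kernel) (upto308 h)
theorem upto310 : UptoFor g data 79360 := upto_step h (k := 79104) st309 chk309 (by decide +kernel) (upto309 h)
theorem upto311 : UptoFor g data 79616 := upto_step h (k := 79360) st310 chk310 (by decide +kernel) (upto310 h)
theorem upto312 : UptoFor g data 79872 := upto_step h (k := 79616) st311 chk311 (by decide +kernel) (upto311 h)
theorem upto313 : UptoFor g data 80128 := upto_step h (k := 79872) st312 chk312 (by decide +kernel) (upto312 h)
theorem upto314 : UptoFor g data 80384 := upto_step h (k := 80128) st313 chk313 (by decide +kernel) (upto313 h)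
theorem upto315 : UptoFor g data 80640 := upto_step h (k := 80384) st314 chk314 (by decide +kernel) (upto314 h)
theorem upto316 : UptoFor g data 80896 := upto_step h (k := 80640) st315 chk315 (by decide +kernel) (upto315 h)
theorem upto317 : UptoFor g data 81152 := upto_step h (k := 80896) st316 chk316 (by decide +kernel) (upto316 h)
theorem upto318 : UptoFor g data 81408 := upto_step h (k := 81152) st317 chk317 (by decide +kernel) (upto317 h)
theorem upto319 : UptoFor g data 81664 := upto_step h (k := 81408) st318 chk318 (by decide +kernel) (upto318 h)
theorem upto320 : UptoFor g data 81920 := upto_step h (k := 81664) st319 chk319 (by decide +kernel) (upto319 h)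
theorem upto321 : UptoFor g data 82176 := upto_step h (k := 81920) st320 chk320 (by decide +kernel) (upto320 h)
theorem upto322 : UptoFor g data 82432 := upto_step h (k := 82176) st321 chk321 (by decide +kernel) (upto321 h)
theorem upto323 : UptoFor g data 82688 := upto_step h (k := 82432) st322 chk322 (by decide +kernel) (upto322 h)
theorem upto324 : UptoFor g data 82944 := upto_step h (k := 82688) st323 chk323 (by decide +kernel) (upto323 h)
theorem upto325 : UptoFor g data 83200 := upto_step h (k := 82944) st324 chk324 (by decide +kernel) (upto324 h)
theorem upto326 : UptoFor g data 83456 := upto_step h (k := 83200) st325 chk325 (by decide +kernel) (upto325 h)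
theorem upto327 : UptoFor g data 83712 := upto_step h (k := 83456) st326 chk326 (by decide +kernel) (upto326 h)
theorem upto328 : UptoFor g data 83968 := upto_step h (k := 83712) st327 chk327 (by decide +kernel) (upto327 h)
theorem upto329 : UptoFor g data 84224 := upto_step h (k := 83968) st328 chk328 (by decide +kernel) (upto328 h)
theorem upto330 : UptoFor g data 84480 := upto_step h (k := 84224) st329 chk329 (by decide +kernel) (upto329 h)
theorem upto331 : UptoFor g data 84736 := upto_step h (k := 84480) st330 chk330 (by decide +kernel) (upto330 h)
theorem upto332 : UptoFor g data 84992 := upto_step h (k := 84736) st331 chk331 (by decide +kernel) (upto331 h)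
theorem upto333 : UptoFor g data 85248 := upto_step h (k := 84992) st332 chk332 (by decide +kernel) (upto332 h)
theorem upto334 : UptoFor g data 85504 := upto_step h (k := 85248) st333 chk333 (by decide +kernel) (upto333 h)
theorem upto335 : UptoFor g data 85760 := upto_step h (k := 85504) st334 chk334 (by decide +kernel) (upto334 h)
theorem upto336 : UptoFor g data 86016 := upto_step h (k := 85760) st335 chk335 (by decide +kernel) (upto335 h)
theorem upto337 : UptoFor g data 86272 := upto_step h (k := 86016) st336 chk336 (by decide +kernel) (upto336 h)
theorem upto338 : UptoFor g data 86528 := upto_step h (k := 86272) st337 chk337 (by decide +kernel) (upto337 h)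
theorem upto339 : UptoFor g data 86784 := upto_step h (k := 86528) st338 chk338 (by decide +kernel) (upto338 h)
theorem upto340 : UptoFor g data 87040 := upto_step h (k := 86784) st339 chk339 (by decide +kernel) (upto339 h)
theorem upto341 : UptoFor g data 87296 := upto_step h (k := 87040) st340 chk340 (by decide +kernel) (upto340 h)
theorem upto342 : UptoFor g data 87552 := upto_step h (k := 87296) st341 chk341 (by decide +kernel) (upto341 h)
theorem upto343 : UptoFor g data 87808 := upto_step h (k := 87552) st342 chk342 (by decide +kernel) (upto342 h)
theorem upto344 : UptoFor g data 88064 := upto_step h (k := 87808) st343 chk343 (by decide +kernel) (upto343 h)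
theorem upto345 : UptoFor g data 88320 := upto_step h (k := 88064) st344 chk344 (by decide +kernel) (upto344 h)
theorem upto346 : UptoFor g data 88576 := upto_step h (k := 88320) st345 chk345 (by decide +kernel) (upto345 h)
theorem upto347 : UptoFor g data 88832 := upto_step h (k := 88576) st346 chk346 (by decide +kernel) (upto346 h)
theorem upto348 : UptoFor g data 89088 := upto_step h (k := 88832) st347 chk347 (by decide +kernel) (upto347 h)
theorem upto349 : UptoFor g data 89344 := upto_step h (k := 89088) st348 chk348 (by decide +kernel) (upto348 h)
theorem upto350 : UptoFor g data 89600 := upto_step h (k := 89344) st349 chk349 (by decide +kernel) (upto349 h)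
theorem upto351 : UptoFor g data 89856 := upto_step h (k := 89600) st350 chk350 (by decide +kernel) (upto350 h)
theorem upto352 : UptoFor g data 90112 := upto_step h (k := 89856) st351 chk351 (by decide +kernel) (upto351 h)
theorem upto353 : UptoFor g data 90368 := upto_step h (k := 90112) st352 chk352 (by decide +kernel) (upto352 h)
theorem upto354 : UptoFor g data 90624 := upto_step h (k := 90368) st353 chk353 (by decide +kernel) (upto353 h)
theorem upto355 : UptoFor g data 90880 := upto_step h (k := 90624) st354 chk354 (by decide +kernel) (upto354 h)
theorem upto356 : UptoFor g data 91136 := upto_step h (k := 90880) st355 chk355 (by decide +kernel) (upto355 h)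
theorem upto357 : UptoFor g data 91392 := upto_step h (k := 91136) st356 chk356 (by decide +kernel) (upto356 h)
theorem upto358 : UptoFor g data 91648 := upto_step h (k := 91392) st357 chk357 (by decide +kernel) (upto357 h)
theorem upto359 : UptoFor g data 91904 := upto_step h (k := 91648) st358 chk358 (by decide +kernel) (upto358 h)
theorem upto360 : UptoFor g data 92160 := upto_step h (k := 91904) st359 chk359 (by decide +kernel) (upto359 h)
theorem upto361 : UptoFor g data 92416 := upto_step h (k := 92160) st360 chk360 (by decide +kernel) (upto360 h)
theorem upto362 : UptoFor g data 92672 := upto_step h (k := 92416) st361 chk361 (by decide +kernel) (upto361 h)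
theorem upto363 : UptoFor g data 92928 := upto_step h (k := 92672) st362 chk362 (by decide +kernel) (upto362 h)
theorem upto364 : UptoFor g data 93184 := upto_step h (k := 92928) st363 chk363 (by decide +kernel) (upto363 h)
theorem upto365 : UptoFor g data 93440 := upto_step h (k := 93184) st364 chk364 (by decide +kernel) (upto364 h)
theorem upto366 : UptoFor g data 93696 := upto_step h (k := 93440) st365 chk365 (by decide +kernel) (upto365 h)
theorem upto367 : UptoFor g data 93952 := upto_step h (k := 93696) st366 chk366 (by decide +kernel) (upto366 h)
theorem upto368 : UptoFor g data 94208 := upto_step h (k := 93952) st367 chk367 (by decide +kernel) (upto367 h)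
theorem upto369 : UptoFor g data 94464 := upto_step h (k := 94208) st368 chk368 (by decide +kernel) (upto368 h)
theorem upto370 : UptoFor g data 94720 := upto_step h (k := 94464) st369 chk369 (by decide +kernel) (upto369 h)
theorem upto371 : UptoFor g data 94976 := upto_step h (k := 94720) st370 chk370 (by decide +kernel) (upto370 h)
theorem upto372 : UptoFor g data 95232 := upto_step h (k := 94976) st371 chk371 (by decide +kernel) (upto371 h)
theorem upto373 : UptoFor g data 95488 := upto_step h (k := 95232) st372 chk372 (by decide +kernel) (upto372 h)
theorem upto374 : UptoFor g data 95744 := upto_step h (k := 95488) st373 chk373 (by decide +kernel) (upto373 h)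
theorem upto375 : UptoFor g data 96000 := upto_step h (k := 95744) st374 chk374 (by decide +kernel) (upto374 h)
theorem upto376 : UptoFor g data 96256 := upto_step h (k := 96000) st375 chk375 (by decide +kernel) (upto375 h)
theorem upto377 : UptoFor g data 96512 := upto_step h (k := 96256) st376 chk376 (by decide +kernel) (upto376 h)
theorem upto378 : UptoFor g data 96768 := upto_step h (k := 96512) st377 chk377 (by decide +kernel) (upto377 h)
theorem upto379 : UptoFor g data 97024 := upto_step h (k := 96768) st378 chk378 (by decide +kernel) (upto378 h)
theorem upto380 : UptoFor g data 97280 := upto_step h (k := 97024) st379 chk379 (by decide +kernel) (upto379 h)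
theorem upto381 : UptoFor g data 97536 := upto_step h (k := 97280) st380 chk380 (by decide +kernel) (upto380 h)
theorem upto382 : UptoFor g data 97792 := upto_step h (k := 97536) st381 chk381 (by decide +kernel) (upto381 h)
theorem upto383 : UptoFor g data 98048 := upto_step h (k := 97792) st382 chk382 (by decide +kernel) (upto382 h)
theorem upto384 : UptoFor g data 98304 := upto_step h (k := 98048) st383 chk383 (by decide +kernel) (upto383 h)
theorem upto385 : UptoFor g data 98560 := upto_step h (k := 98304) st384 chk384 (by decide +kernel) (upto384 h)
theorem upto386 : UptoFor g data 98816 := upto_step h (k := 98560) st385 chk385 (by decide +kernel) (upto385 h)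
theorem upto387 : UptoFor g data 99072 := upto_step h (k := 98816) st386 chk386 (by decide +kernel) (upto386 h)
theorem upto388 : UptoFor g data 99328 := upto_step h (k := 99072) st387 chk387 (by decide +kernel) (upto387 h)
theorem upto389 : UptoFor g data 99584 := upto_step h (k := 99328) st388 chk388 (by decide +kernel) (upto388 h)
theorem upto390 : UptoFor g data 99840 := upto_step h (k := 99584) st389 chk389 (by decide +kernel) (upto389 h)
theorem upto391 : UptoFor g data 100096 := upto_step h (k := 99840) st390 chk390 (by decide +kernel) (upto390 h)
theorem upto392 : UptoFor g data 100352 := upto_step h (k := 100096) st391 chk391 (by decide +kernel) (upto391 h)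
theorem upto393 : UptoFor g data 100608 := upto_step h (k := 100352) st392 chk392 (by decide +kernel) (upto392 h)
theorem upto394 : UptoFor g data 100864 := upto_step h (k := 100608) st393 chk393 (by decide +kernel) (upto393 h)
theorem upto395 : UptoFor g data 101120 := upto_step h (k := 100864) st394 chk394 (by decide +kernel) (upto394 h)
theorem upto396 : UptoFor g data 101376 := upto_step h (k := 101120) st395 chk395 (by decide +kernel) (upto395 h)
theorem upto397 : UptoFor g data 101632 := upto_step h (k := 101376) st396 chk396 (by decide +kernel) (upto396 h)
theorem upto398 : UptoFor g data 101888 := upto_step h (k := 101632) st397 chk397 (by decide +kernel) (upto397 h)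
theorem upto399 : UptoFor g data 102144 := upto_step h (k := 101888) st398 chk398 (by decide +kernel) (upto398 h)
theorem upto400 : UptoFor g data 102400 := upto_step h (k := 102144) st399 chk399 (by decide +kernel) (upto399 h)
theorem upto401 : UptoFor g data 102656 := upto_step h (k := 102400) st400 chk400 (by decide +kernel) (upto400 h)
theorem upto402 : UptoFor g data 102912 := upto_step h (k := 102656) st401 chk401 (by decide +kernel) (upto401 h)
theorem upto403 : UptoFor g data 103168 := upto_step h (k := 102912) st402 chk402 (by decide +kernel) (upto402 h)
theorem upto404 : UptoFor g data 103424 := upto_step h (k := 103168) st403 chk403 (by decide +kernel) (upto403 h)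
theorem upto405 : UptoFor g data 103680 := upto_step h (k := 103424) st404 chk404 (by decide +kernel) (upto404 h)
theorem upto406 : UptoFor g data 103936 := upto_step h (k := 103680) st405 chk405 (by decide +kernel) (upto405 h)
theorem upto407 : UptoFor g data 104192 := upto_step h (k := 103936) st406 chk406 (by decide +kernel) (upto406 h)
theorem upto408 : UptoFor g data 104448 := upto_step h (k := 104192) st407 chk407 (by decide +kernel) (upto407 h)
theorem upto409 : UptoFor g data 104704 := upto_step h (k := 104448) st408 chk408 (by decide +kernel) (upto408 h)
theorem upto410 : UptoFor g data 104960 := upto_step h (k := 104704) st409 chk409 (by decide +kernel) (upto409 h)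
theorem upto411 : UptoFor g data 105216 := upto_step h (k := 104960) st410 chk410 (by decide +kernel) (upto410 h)
theorem upto412 : UptoFor g data 105472 := upto_step h (k := 105216) st411 chk411 (by decide +kernel) (upto411 h)
theorem upto413 : UptoFor g data 105728 := upto_step h (k := 105472) st412 chk412 (by decide +kernel) (upto412 h)
theorem upto414 : UptoFor g data 105984 := upto_step h (k := 105728) st413 chk413 (by decide +kernel) (upto413 h)
theorem upto415 : UptoFor g data 106240 := upto_step h (k := 105984) st414 chk414 (by decide +kernel) (upto414 h)
theorem upto416 : UptoFor g data 106496 := upto_step h (k := 106240) st415 chk415 (by decide +kernel) (upto415 h)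
theorem upto417 : UptoFor g data 106752 := upto_step h (k := 106496) st416 chk416 (by decide +kernel) (upto416 h)
theorem upto418 : UptoFor g data 107008 := upto_step h (k := 106752) st417 chk417 (by decide +kernel) (upto417 h)
theorem upto419 : UptoFor g data 107264 := upto_step h (k := 107008) st418 chk418 (by decide +kernel) (upto418 h)
theorem upto420 : UptoFor g data 107520 := upto_step h (k := 107264) st419 chk419 (by decide +kernel) (upto419 h)
theorem upto421 : UptoFor g data 107776 := upto_step h (k := 107520) st420 chk420 (by decide +kernel) (upto420 h)
theorem upto422 : UptoFor g data 108032 := upto_step h (k := 107776) st421 chk421 (by decide +kernel) (upto421 h)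
theorem upto423 : UptoFor g data 108288 := upto_step h (k := 108032) st422 chk422 (by decide +kernel) (upto422 h)
theorem upto424 : UptoFor g data 108544 := upto_step h (k := 108288) st423 chk423 (by decide +kernel) (upto423 h)
theorem upto425 : UptoFor g data 108800 := upto_step h (k := 108544) st424 chk424 (by decide +kernel) (upto424 h)
theorem upto426 : UptoFor g data 109056 := upto_step h (k := 108800) st425 chk425 (by decide +kernel) (upto425 h)
theorem upto427 : UptoFor g data 109312 := upto_step h (k := 109056) st426 chk426 (by decide +kernel) (upto426 h)
theorem upto428 : UptoFor g data 109568 := upto_step h (k := 109312) st427 chk427 (by decide +kernel) (upto427 h)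
theorem upto429 : UptoFor g data 109824 := upto_step h (k := 109568) st428 chk428 (by decide +kernel) (upto428 h)
theorem upto430 : UptoFor g data 110080 := upto_step h (k := 109824) st429 chk429 (by decide +kernel) (upto429 h)
theorem upto431 : UptoFor g data 110336 := upto_step h (k := 110080) st430 chk430 (by decide +kernel) (upto430 h)
theorem upto432 : UptoFor g data 110592 := upto_step h (k := 110336) st431 chk431 (by decide +kernel) (upto431 h)
theorem upto433 : UptoFor g data 110848 := upto_step h (k := 110592) st432 chk432 (by decide +kernel) (upto432 h)
theorem upto434 : UptoFor g data 111104 := upto_step h (k := 110848) st433 chk433 (by decide +kernel) (upto433 h)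
theorem upto435 : UptoFor g data 111360 := upto_step h (k := 111104) st434 chk434 (by decide +kernel) (upto434 h)
theorem upto436 : UptoFor g data 111616 := upto_step h (k := 111360) st435 chk435 (by decide +kernel) (upto435 h)
theorem upto437 : UptoFor g data 111872 := upto_step h (k := 111616) st436 chk436 (by decide +kernel) (upto436 h)
theorem upto438 : UptoFor g data 112128 := upto_step h (k := 111872) st437 chk437 (by decide +kernel) (upto437 h)
theorem upto439 : UptoFor g data 112384 := upto_step h (k := 112128) st438 chk438 (by decide +kernel) (upto438 h)
theorem upto440 : UptoFor g data 112640 := upto_step h (k := 112384) st439 chk439 (by decide +kernel) (upto439 h)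
theorem upto441 : UptoFor g data 112896 := upto_step h (k := 112640) st440 chk440 (by decide +kernel) (upto440 h)
theorem upto442 : UptoFor g data 113152 := upto_step h (k := 112896) st441 chk441 (by decide +kernel) (upto441 h)
theorem upto443 : UptoFor g data 113408 := upto_step h (k := 113152) st442 chk442 (by decide +kernel) (upto442 h)
theorem upto444 : UptoFor g data 113664 := upto_step h (k := 113408) st443 chk443 (by decide +kernel) (upto443 h)
theorem upto445 : UptoFor g data 113920 := upto_step h (k := 113664) st444 chk444 (by decide +kernel) (upto444 h)
theorem upto446 : UptoFor g data 114176 := upto_step h (k := 113920) st445 chk445 (by decide +kernel) (upto445 h)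
theorem upto447 : UptoFor g data 114432 := upto_step h (k := 114176) st446 chk446 (by decide +kernel) (upto446 h)
theorem upto448 : UptoFor g data 114688 := upto_step h (k := 114432) st447 chk447 (by decide +kernel) (upto447 h)
theorem upto449 : UptoFor g data 114944 := upto_step h (k := 114688) st448 chk448 (by decide +kernel) (upto448 h)
theorem upto450 : UptoFor g data 115200 := upto_step h (k := 114944) st449 chk449 (by decide +kernel) (upto449 h)
theorem upto451 : UptoFor g data 115456 := upto_step h (k := 115200) st450 chk450 (by decide +kernel) (upto450 h)
theorem upto452 : UptoFor g data 115712 := upto_step h (k := 115456) st451 chk451 (by decide +kernel) (upto451 h)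
theorem upto453 : UptoFor g data 115968 := upto_step h (k := 115712) st452 chk452 (by decide +kernel) (upto452 h)
theorem upto454 : UptoFor g data 116224 := upto_step h (k := 115968) st453 chk453 (by decide +kernel) (upto453 h)
theorem upto455 : UptoFor g data 116480 := upto_step h (k := 116224) st454 chk454 (by decide +kernel) (upto454 h)
theorem upto456 : UptoFor g data 116736 := upto_step h (k := 116480) st455 chk455 (by decide +kernel) (upto455 h)
theorem upto457 : UptoFor g data 116992 := upto_step h (k := 116736) st456 chk456 (by decide +kernel) (upto456 h)
theorem upto458 : UptoFor g data 117248 := upto_step h (k := 116992) st457 chk457 (by decide +kernel) (upto457 h)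
theorem upto459 : UptoFor g data 117504 := upto_step h (k := 117248) st458 chk458 (by decide +kernel) (upto458 h)
theorem upto460 : UptoFor g data 117760 := upto_step h (k := 117504) st459 chk459 (by decide +kernel) (upto459 h)
theorem upto461 : UptoFor g data 118016 := upto_step h (k := 117760) st460 chk460 (by decide +kernel) (upto460 h)
theorem upto462 : UptoFor g data 118272 := upto_step h (k := 118016) st461 chk461 (by decide +kernel) (upto461 h)
theorem upto463 : UptoFor g data 118528 := upto_step h (k := 118272) st462 chk462 (by decide +kernel) (upto462 h)
theorem upto464 : UptoFor g data 118784 := upto_step h (k := 118528) st463 chk463 (by decide +kernel) (upto463 h)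
theorem upto465 : UptoFor g data 119040 := upto_step h (k := 118784) st464 chk464 (by decide +kernel) (upto464 h)
theorem upto466 : UptoFor g data 119296 := upto_step h (k := 119040) st465 chk465 (by decide +kernel) (upto465 h)
theorem upto467 : UptoFor g data 119552 := upto_step h (k := 119296) st466 chk466 (by decide +kernel) (upto466 h)
theorem upto468 : UptoFor g data 119808 := upto_step h (k := 119552) st467 chk467 (by decide +kernel) (upto467 h)
theorem upto469 : UptoFor g data 120064 := upto_step h (k := 119808) st468 chk468 (by decide +kernel) (upto468 h)
theorem upto470 : UptoFor g data 120320 := upto_step h (k := 120064) st469 chk469 (by decide +kernel) (upto469 h)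
theorem upto471 : UptoFor g data 120576 := upto_step h (k := 120320) st470 chk470 (by decide +kernel) (upto470 h)
theorem upto472 : UptoFor g data 120832 := upto_step h (k := 120576) st471 chk471 (by decide +kernel) (upto471 h)
theorem upto473 : UptoFor g data 121088 := upto_step h (k := 120832) st472 chk472 (by decide +kernel) (upto472 h)
theorem upto474 : UptoFor g data 121344 := upto_step h (k := 121088) st473 chk473 (by decide +kernel) (upto473 h)
theorem upto475 : UptoFor g data 121600 := upto_step h (k := 121344) st474 chk474 (by decide +kernel) (upto474 h)
theorem upto476 : UptoFor g data 121856 := upto_step h (k := 121600) st475 chk475 (by decide +kernel) (upto475 h)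
theorem upto477 : UptoFor g data 122112 := upto_step h (k := 121856) st476 chk476 (by decide +kernel) (upto476 h)
theorem upto478 : UptoFor g data 122368 := upto_step h (k := 122112) st477 chk477 (by decide +kernel) (upto477 h)
theorem upto479 : UptoFor g data 122624 := upto_step h (k := 122368) st478 chk478 (by decide +kernel) (upto478 h)
theorem upto480 : UptoFor g data 122880 := upto_step h (k := 122624) st479 chk479 (by decide +kernel) (upto479 h)
theorem upto481 : UptoFor g data 123136 := upto_step h (k := 122880) st480 chk480 (by decide +kernel) (upto480 h)
theorem upto482 : UptoFor g data 123392 := upto_step h (k := 123136) st481 chk481 (by decide +kernel) (upto481 h)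
theorem upto483 : UptoFor g data 123648 := upto_step h (k := 123392) st482 chk482 (by decide +kernel) (upto482 h)
theorem upto484 : UptoFor g data 123904 := upto_step h (k := 123648) st483 chk483 (by decide +kernel) (upto483 h)
theorem upto485 : UptoFor g data 124160 := upto_step h (k := 123904) st484 chk484 (by decide +kernel) (upto484 h)
theorem upto486 : UptoFor g data 124416 := upto_step h (k := 124160) st485 chk485 (by decide +kernel) (upto485 h)
theorem upto487 : UptoFor g data 124672 := upto_step h (k := 124416) st486 chk486 (by decide +kernel) (upto486 h)
theorem upto488 : UptoFor g data 124928 := upto_step h (k := 124672) st487 chk487 (by decide +kernel) (upto487 h)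
theorem upto489 : UptoFor g data 125184 := upto_step h (k := 124928) st488 chk488 (by decide +kernel) (upto488 h)
theorem upto490 : UptoFor g data 125440 := upto_step h (k := 125184) st489 chk489 (by decide +kernel) (upto489 h)
theorem upto491 : UptoFor g data 125696 := upto_step h (k := 125440) st490 chk490 (by decide +kernel) (upto490 h)
theorem upto492 : UptoFor g data 125952 := upto_step h (k := 125696) st491 chk491 (by decide +kernel) (upto491 h)
theorem upto493 : UptoFor g data 126208 := upto_step h (k := 125952) st492 chk492 (by decide +kernel) (upto492 h)
theorem upto494 : UptoFor g data 126464 := upto_step h (k := 126208) st493 chk493 (by decide +kernel) (upto493 h)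
theorem upto495 : UptoFor g data 126720 := upto_step h (k := 126464) st494 chk494 (by decide +kernel) (upto494 h)
theorem upto496 : UptoFor g data 126976 := upto_step h (k := 126720) st495 chk495 (by decide +kernel) (upto495 h)
theorem upto497 : UptoFor g data 127232 := upto_step h (k := 126976) st496 chk496 (by decide +kernel) (upto496 h)
theorem upto498 : UptoFor g data 127488 := upto_step h (k := 127232) st497 chk497 (by decide +kernel) (upto497 h)
theorem upto499 : UptoFor g data 127744 := upto_step h (k := 127488) st498 chk498 (by decide +kernel) (upto498 h)
theorem upto500 : UptoFor g data 128000 := upto_step h (k := 127744) st499 chk499 (by decide +kernel) (upto499 h)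
theorem upto501 : UptoFor g data 128256 := upto_step h (k := 128000) st500 chk500 (by decide +kernel) (upto500 h)
theorem upto502 : UptoFor g data 128512 := upto_step h (k := 128256) st501 chk501 (by decide +kernel) (upto501 h)
theorem upto503 : UptoFor g data 128768 := upto_step h (k := 128512) st502 chk502 (by decide +kernel) (upto502 h)
theorem upto504 : UptoFor g data 129024 := upto_step h (k := 128768) st503 chk503 (by decide +kernel) (upto503 h)
theorem upto505 : UptoFor g data 129280 := upto_step h (k := 129024) st504 chk504 (by decide +kernel) (upto504 h)
theorem upto506 : UptoFor g data 129536 := upto_step h (k := 129280) st505 chk505 (by decide +kernel) (upto505 h)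
theorem upto507 : UptoFor g data 129792 := upto_step h (k := 129536) st506 chk506 (by decide +kernel) (upto506 h)
theorem upto508 : UptoFor g data 130048 := upto_step h (k := 129792) st507 chk507 (by decide +kernel) (upto507 h)
theorem upto509 : UptoFor g data 130304 := upto_step h (k := 130048) st508 chk508 (by decide +kernel) (upto508 h)
theorem upto510 : UptoFor g data 130560 := upto_step h (k := 130304) st509 chk509 (by decide +kernel) (upto509 h)
theorem upto511 : UptoFor g data 130816 := upto_step h (k := 130560) st510 chk510 (by decide +kernel) (upto510 h)
theorem upto512 : UptoFor g data 131072 := upto_step h (k := 130816) st511 chk511 (by decide +kernel) (upto511 h)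
theorem upto513 : UptoFor g data 131328 := upto_step h (k := 131072) st512 chk512 (by decide +kernel) (upto512 h)
theorem upto514 : UptoFor g data 131584 := upto_step h (k := 131328) st513 chk513 (by decide +kernel) (upto513 h)
theorem upto515 : UptoFor g data 131840 := upto_step h (k := 131584) st514 chk514 (by decide +kernel) (upto514 h)
theorem upto516 : UptoFor g data 132096 := upto_step h (k := 131840) st515 chk515 (by decide +kernel) (upto515 h)
theorem upto517 : UptoFor g data 132352 := upto_step h (k := 132096) st516 chk516 (by decide +kernel) (upto516 h)
theorem upto518 : UptoFor g data 132608 := upto_step h (k := 132352) st517 chk517 (by decide +kernel) (upto517 h)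
theorem upto519 : UptoFor g data 132864 := upto_step h (k := 132608) st518 chk518 (by decide +kernel) (upto518 h)
theorem upto520 : UptoFor g data 133120 := upto_step h (k := 132864) st519 chk519 (by decide +kernel) (upto519 h)
theorem upto521 : UptoFor g data 133376 := upto_step h (k := 133120) st520 chk520 (by decide +kernel) (upto520 h)
theorem upto522 : UptoFor g data 133632 := upto_step h (k := 133376) st521 chk521 (by decide +kernel) (upto521 h)
theorem upto523 : UptoFor g data 133888 := upto_step h (k := 133632) st522 chk522 (by decide +kernel) (upto522 h)
theorem upto524 : UptoFor g data 134144 := upto_step h (k := 133888) st523 chk523 (by decide +kernel) (upto523 h)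
theorem upto525 : UptoFor g data 134400 := upto_step h (k := 134144) st524 chk524 (by decide +kernel) (upto524 h)
theorem upto526 : UptoFor g data 134656 := upto_step h (k := 134400) st525 chk525 (by decide +kernel) (upto525 h)
theorem upto527 : UptoFor g data 134912 := upto_step h (k := 134656) st526 chk526 (by decide +kernel) (upto526 h)
theorem upto528 : UptoFor g data 135168 := upto_step h (k := 134912) st527 chk527 (by decide +kernel) (upto527 h)
theorem upto529 : UptoFor g data 135424 := upto_step h (k := 135168) st528 chk528 (by decide +kernel) (upto528 h)
theorem upto530 : UptoFor g data 135680 := upto_step h (k := 135424) st529 chk529 (by decide +kernel) (upto529 h)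
theorem upto531 : UptoFor g data 135936 := upto_step h (k := 135680) st530 chk530 (by decide +kernel) (upto530 h)
theorem upto532 : UptoFor g data 136192 := upto_step h (k := 135936) st531 chk531 (by decide +kernel) (upto531 h)
theorem upto533 : UptoFor g data 136448 := upto_step h (k := 136192) st532 chk532 (by decide +kernel) (upto532 h)
theorem upto534 : UptoFor g data 136704 := upto_step h (k := 136448) st533 chk533 (by decide +kernel) (upto533 h)
theorem upto535 : UptoFor g data 136960 := upto_step h (k := 136704) st534 chk534 (by decide +kernel) (upto534 h)
theorem upto536 : UptoFor g data 137216 := upto_step h (k := 136960) st535 chk535 (by decide +kernel) (upto535 h)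
theorem upto537 : UptoFor g data 137472 := upto_step h (k := 137216) st536 chk536 (by decide +kernel) (upto536 h)
theorem upto538 : UptoFor g data 137728 := upto_step h (k := 137472) st537 chk537 (by decide +kernel) (upto537 h)
theorem upto539 : UptoFor g data 137984 := upto_step h (k := 137728) st538 chk538 (by decide +kernel) (upto538 h)
theorem upto540 : UptoFor g data 138240 := upto_step h (k := 137984) st539 chk539 (by decide +kernel) (upto539 h)
theorem upto541 : UptoFor g data 138496 := upto_step h (k := 138240) st540 chk540 (by decide +kernel) (upto540 h)
theorem upto542 : UptoFor g data 138752 := upto_step h (k := 138496) st541 chk541 (by decide +kernel) (upto541 h)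
theorem upto543 : UptoFor g data 139008 := upto_step h (k := 138752) st542 chk542 (by decide +kernel) (upto542 h)
theorem upto544 : UptoFor g data 139264 := upto_step h (k := 139008) st543 chk543 (by decide +kernel) (upto543 h)
theorem upto545 : UptoFor g data 139520 := upto_step h (k := 139264) st544 chk544 (by decide +kernel) (upto544 h)
theorem upto546 : UptoFor g data 139776 := upto_step h (k := 139520) st545 chk545 (by decide +kernel) (upto545 h)
theorem upto547 : UptoFor g data 140032 := upto_step h (k := 139776) st546 chk546 (by decide +kernel) (upto546 h)
theorem upto548 : UptoFor g data 140288 := upto_step h (k := 140032) st547 chk547 (by decide +kernel) (upto547 h)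
theorem upto549 : UptoFor g data 140544 := upto_step h (k := 140288) st548 chk548 (by decide +kernel) (upto548 h)
theorem upto550 : UptoFor g data 140800 := upto_step h (k := 140544) st549 chk549 (by decide +kernel) (upto549 h)
theorem upto551 : UptoFor g data 141056 := upto_step h (k := 140800) st550 chk550 (by decide +kernel) (upto550 h)
theorem upto552 : UptoFor g data 141312 := upto_step h (k := 141056) st551 chk551 (by decide +kernel) (upto551 h)
theorem upto553 : UptoFor g data 141568 := upto_step h (k := 141312) st552 chk552 (by decide +kernel) (upto552 h)
theorem upto554 : UptoFor g data 141824 := upto_step h (k := 141568) st553 chk553 (by decide +kernel) (upto553 h)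
theorem upto555 : UptoFor g data 142080 := upto_step h (k := 141824) st554 chk554 (by decide +kernel) (upto554 h)
theorem upto556 : UptoFor g data 142336 := upto_step h (k := 142080) st555 chk555 (by decide +kernel) (upto555 h)
theorem upto557 : UptoFor g data 142592 := upto_step h (k := 142336) st556 chk556 (by decide +kernel) (upto556 h)
theorem upto558 : UptoFor g data 142848 := upto_step h (k := 142592) st557 chk557 (by decide +kernel) (upto557 h)
theorem upto559 : UptoFor g data 143104 := upto_step h (k := 142848) st558 chk558 (by decide +kernel) (upto558 h)
theorem upto560 : UptoFor g data 143360 := upto_step h (k := 143104) st559 chk559 (by decide +kernel) (upto559 h)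
theorem upto561 : UptoFor g data 143616 := upto_step h (k := 143360) st560 chk560 (by decide +kernel) (upto560 h)
theorem upto562 : UptoFor g data 143872 := upto_step h (k := 143616) st561 chk561 (by decide +kernel) (upto561 h)
theorem upto563 : UptoFor g data 144128 := upto_step h (k := 143872) st562 chk562 (by decide +kernel) (upto562 h)
theorem upto564 : UptoFor g data 144384 := upto_step h (k := 144128) st563 chk563 (by decide +kernel) (upto563 h)
theorem upto565 : UptoFor g data 144640 := upto_step h (k := 144384) st564 chk564 (by decide +kernel) (upto564 h)
theorem upto566 : UptoFor g data 144896 := upto_step h (k := 144640) st565 chk565 (by decide +kernel) (upto565 h)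
theorem upto567 : UptoFor g data 145152 := upto_step h (k := 144896) st566 chk566 (by decide +kernel) (upto566 h)
theorem upto568 : UptoFor g data 145408 := upto_step h (k := 145152) st567 chk567 (by decide +kernel) (upto567 h)
theorem upto569 : UptoFor g data 145664 := upto_step h (k := 145408) st568 chk568 (by decide +kernel) (upto568 h)
theorem upto570 : UptoFor g data 145920 := upto_step h (k := 145664) st569 chk569 (by decide +kernel) (upto569 h)
theorem upto571 : UptoFor g data 146176 := upto_step h (k := 145920) st570 chk570 (by decide +kernel) (upto570 h)
theorem upto572 : UptoFor g data 146432 := upto_step h (k := 146176) st571 chk571 (by decide +kernel) (upto571 h)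
theorem upto573 : UptoFor g data 146688 := upto_step h (k := 146432) st572 chk572 (by decide +kernel) (upto572 h)
theorem upto574 : UptoFor g data 146944 := upto_step h (k := 146688) st573 chk573 (by decide +kernel) (upto573 h)
theorem upto575 : UptoFor g data 147200 := upto_step h (k := 146944) st574 chk574 (by decide +kernel) (upto574 h)
theorem upto576 : UptoFor g data 147456 := upto_step h (k := 147200) st575 chk575 (by decide +kernel) (upto575 h)
theorem upto577 : UptoFor g data 147712 := upto_step h (k := 147456) st576 chk576 (by decide +kernel) (upto576 h)
theorem upto578 : UptoFor g data 147968 := upto_step h (k := 147712) st577 chk577 (by decide +kernel) (upto577 h)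
theorem upto579 : UptoFor g data 148224 := upto_step h (k := 147968) st578 chk578 (by decide +kernel) (upto578 h)
theorem upto580 : UptoFor g data 148480 := upto_step h (k := 148224) st579 chk579 (by decide +kernel) (upto579 h)
theorem upto581 : UptoFor g data 148736 := upto_step h (k := 148480) st580 chk580 (by decide +kernel) (upto580 h)
theorem upto582 : UptoFor g data 148992 := upto_step h (k := 148736) st581 chk581 (by decide +kernel) (upto581 h)
theorem upto583 : UptoFor g data 149248 := upto_step h (k := 148992) st582 chk582 (by decide +kernel) (upto582 h)
theorem upto584 : UptoFor g data 149504 := upto_step h (k := 149248) st583 chk583 (by decide +kernel) (upto583 h)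
theorem upto585 : UptoFor g data 149760 := upto_step h (k := 149504) st584 chk584 (by decide +kernel) (upto584 h)
theorem upto586 : UptoFor g data 150016 := upto_step h (k := 149760) st585 chk585 (by decide +kernel) (upto585 h)
theorem upto587 : UptoFor g data 150272 := upto_step h (k := 150016) st586 chk586 (by decide +kernel) (upto586 h)
theorem upto588 : UptoFor g data 150528 := upto_step h (k := 150272) st587 chk587 (by decide +kernel) (upto587 h)
theorem upto589 : UptoFor g data 150784 := upto_step h (k := 150528) st588 chk588 (by decide +kernel) (upto588 h)
theorem upto590 : UptoFor g data 151040 := upto_step h (k := 150784) st589 chk589 (by decide +kernel) (upto589 h)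
theorem upto591 : UptoFor g data 151296 := upto_step h (k := 151040) st590 chk590 (by decide +kernel) (upto590 h)
theorem upto592 : UptoFor g data 151552 := upto_step h (k := 151296) st591 chk591 (by decide +kernel) (upto591 h)
theorem upto593 : UptoFor g data 151808 := upto_step h (k := 151552) st592 chk592 (by decide +kernel) (upto592 h)
theorem upto594 : UptoFor g data 152064 := upto_step h (k := 151808) st593 chk593 (by decide +kernel) (upto593 h)
theorem upto595 : UptoFor g data 152320 := upto_step h (k := 152064) st594 chk594 (by decide +kernel) (upto594 h)
theorem upto596 : UptoFor g data 152576 := upto_step h (k := 152320) st595 chk595 (by decide +kernel) (upto595 h)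
theorem upto597 : UptoFor g data 152832 := upto_step h (k := 152576) st596 chk596 (by decide +kernel) (upto596 h)
theorem upto598 : UptoFor g data 153088 := upto_step h (k := 152832) st597 chk597 (by decide +kernel) (upto597 h)
theorem upto599 : UptoFor g data 153344 := upto_step h (k := 153088) st598 chk598 (by decide +kernel) (upto598 h)
theorem upto600 : UptoFor g data 153600 := upto_step h (k := 153344) st599 chk599 (by decide +kernel) (upto599 h)
theorem upto601 : UptoFor g data 153856 := upto_step h (k := 153600) st600 chk600 (by decide +kernel) (upto600 h)
theorem upto602 : UptoFor g data 154112 := upto_step h (k := 153856) st601 chk601 (by decide +kernel) (upto601 h)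
theorem upto603 : UptoFor g data 154368 := upto_step h (k := 154112) st602 chk602 (by decide +kernel) (upto602 h)
theorem upto604 : UptoFor g data 154624 := upto_step h (k := 154368) st603 chk603 (by decide +kernel) (upto603 h)
theorem upto605 : UptoFor g data 154880 := upto_step h (k := 154624) st604 chk604 (by decide +kernel) (upto604 h)
theorem upto606 : UptoFor g data 155136 := upto_step h (k := 154880) st605 chk605 (by decide +kernel) (upto605 h)
theorem upto607 : UptoFor g data 155392 := upto_step h (k := 155136) st606 chk606 (by decide +kernel) (upto606 h)
theorem upto608 : UptoFor g data 155648 := upto_step h (k := 155392) st607 chk607 (by decide +kernel) (upto607 h)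
theorem upto609 : UptoFor g data 155904 := upto_step h (k := 155648) st608 chk608 (by decide +kernel) (upto608 h)
theorem upto610 : UptoFor g data 156160 := upto_step h (k := 155904) st609 chk609 (by decide +kernel) (upto609 h)
theorem upto611 : UptoFor g data 156416 := upto_step h (k := 156160) st610 chk610 (by decide +kernel) (upto610 h)
theorem upto612 : UptoFor g data 156672 := upto_step h (k := 156416) st611 chk611 (by decide +kernel) (upto611 h)
theorem upto613 : UptoFor g data 156928 := upto_step h (k := 156672) st612 chk612 (by decide +kernel) (upto612 h)
theorem upto614 : UptoFor g data 157184 := upto_step h (k := 156928) st613 chk613 (by decide +kernel) (upto613 h)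
theorem upto615 : UptoFor g data 157440 := upto_step h (k := 157184) st614 chk614 (by decide +kernel) (upto614 h)
theorem upto616 : UptoFor g data 157696 := upto_step h (k := 157440) st615 chk615 (by decide +kernel) (upto615 h)
theorem upto617 : UptoFor g data 157952 := upto_step h (k := 157696) st616 chk616 (by decide +kernel) (upto616 h)
theorem upto618 : UptoFor g data 158208 := upto_step h (k := 157952) st617 chk617 (by decide +kernel) (upto617 h)
theorem upto619 : UptoFor g data 158464 := upto_step h (k := 158208) st618 chk618 (by decide +kernel) (upto618 h)
theorem upto620 : UptoFor g data 158720 := upto_step h (k := 158464) st619 chk619 (by decide +kernel) (upto619 h)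
theorem upto621 : UptoFor g data 158976 := upto_step h (k := 158720) st620 chk620 (by decide +kernel) (upto620 h)
theorem upto622 : UptoFor g data 159232 := upto_step h (k := 158976) st621 chk621 (by decide +kernel) (upto621 h)
theorem upto623 : UptoFor g data 159488 := upto_step h (k := 159232) st622 chk622 (by decide +kernel) (upto622 h)
theorem upto624 : UptoFor g data 159744 := upto_step h (k := 159488) st623 chk623 (by decide +kernel) (upto623 h)
theorem upto625 : UptoFor g data 160000 := upto_step h (k := 159744) st624 chk624 (by decide +kernel) (upto624 h)
theorem upto626 : UptoFor g data 160256 := upto_step h (k := 160000) st625 chk625 (by decide +kernel) (upto625 h)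
theorem upto627 : UptoFor g data 160512 := upto_step h (k := 160256) st626 chk626 (by decide +kernel) (upto626 h)
theorem upto628 : UptoFor g data 160768 := upto_step h (k := 160512) st627 chk627 (by decide +kernel) (upto627 h)
theorem upto629 : UptoFor g data 161024 := upto_step h (k := 160768) st628 chk628 (by decide +kernel) (upto628 h)
theorem upto630 : UptoFor g data 161280 := upto_step h (k := 161024) st629 chk629 (by decide +kernel) (upto629 h)
theorem upto631 : UptoFor g data 161536 := upto_step h (k := 161280) st630 chk630 (by decide +kernel) (upto630 h)
theorem upto632 : UptoFor g data 161792 := upto_step h (k := 161536) st631 chk631 (by decide +kernel) (upto631 h)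
theorem upto633 : UptoFor g data 162048 := upto_step h (k := 161792) st632 chk632 (by decide +kernel) (upto632 h)
theorem upto634 : UptoFor g data 162304 := upto_step h (k := 162048) st633 chk633 (by decide +kernel) (upto633 h)
theorem upto635 : UptoFor g data 162560 := upto_step h (k := 162304) st634 chk634 (by decide +kernel) (upto634 h)
theorem upto636 : UptoFor g data 162816 := upto_step h (k := 162560) st635 chk635 (by decide +kernel) (upto635 h)
theorem upto637 : UptoFor g data 163072 := upto_step h (k := 162816) st636 chk636 (by decide +kernel) (upto636 h)
theorem upto638 : UptoFor g data 163328 := upto_step h (k := 163072) st637 chk637 (by decide +kernel) (upto637 h)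
theorem upto639 : UptoFor g data 163584 := upto_step h (k := 163328) st638 chk638 (by decide +kernel) (upto638 h)
theorem upto640 : UptoFor g data 163840 := upto_step h (k := 163584) st639 chk639 (by decide +kernel) (upto639 h)
theorem upto641 : UptoFor g data 164096 := upto_step h (k := 163840) st640 chk640 (by decide +kernel) (upto640 h)
theorem upto642 : UptoFor g data 164352 := upto_step h (k := 164096) st641 chk641 (by decide +kernel) (upto641 h)
theorem upto643 : UptoFor g data 164608 := upto_step h (k := 164352) st642 chk642 (by decide +kernel) (upto642 h)
theorem upto644 : UptoFor g data 164864 := upto_step h (k := 164608) st643 chk643 (by decide +kernel) (upto643 h)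
theorem upto645 : UptoFor g data 165120 := upto_step h (k := 164864) st644 chk644 (by decide +kernel) (upto644 h)
theorem upto646 : UptoFor g data 165376 := upto_step h (k := 165120) st645 chk645 (by decide +kernel) (upto645 h)
theorem upto647 : UptoFor g data 165632 := upto_step h (k := 165376) st646 chk646 (by decide +kernel) (upto646 h)
theorem upto648 : UptoFor g data 165888 := upto_step h (k := 165632) st647 chk647 (by decide +kernel) (upto647 h)
theorem upto649 : UptoFor g data 166144 := upto_step h (k := 165888) st648 chk648 (by decide +kernel) (upto648 h)
theorem upto650 : UptoFor g data 166400 := upto_step h (k := 166144) st649 chk649 (by decide +kernel) (upto649 h)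
theorem upto651 : UptoFor g data 166656 := upto_step h (k := 166400) st650 chk650 (by decide +kernel) (upto650 h)
theorem upto652 : UptoFor g data 166912 := upto_step h (k := 166656) st651 chk651 (by decide +kernel) (upto651 h)
theorem upto653 : UptoFor g data 167168 := upto_step h (k := 166912) st652 chk652 (by decide +kernel) (upto652 h)
theorem upto654 : UptoFor g data 167424 := upto_step h (k := 167168) st653 chk653 (by decide +kernel) (upto653 h)
theorem upto655 : UptoFor g data 167680 := upto_step h (k := 167424) st654 chk654 (by decide +kernel) (upto654 h)
theorem upto656 : UptoFor g data 167936 := upto_step h (k := 167680) st655 chk655 (by decide +kernel) (upto655 h)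
theorem upto657 : UptoFor g data 168192 := upto_step h (k := 167936) st656 chk656 (by decide +kernel) (upto656 h)
theorem upto658 : UptoFor g data 168448 := upto_step h (k := 168192) st657 chk657 (by decide +kernel) (upto657 h)
theorem upto659 : UptoFor g data 168704 := upto_step h (k := 168448) st658 chk658 (by decide +kernel) (upto658 h)
theorem upto660 : UptoFor g data 168960 := upto_step h (k := 168704) st659 chk659 (by decide +kernel) (upto659 h)
theorem upto661 : UptoFor g data 169216 := upto_step h (k := 168960) st660 chk660 (by decide +kernel) (upto660 h)
theorem upto662 : UptoFor g data 169472 := upto_step h (k := 169216) st661 chk661 (by decide +kernel) (upto661 h)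
theorem upto663 : UptoFor g data 169728 := upto_step h (k := 169472) st662 chk662 (by decide +kernel) (upto662 h)
theorem upto664 : UptoFor g data 169984 := upto_step h (k := 169728) st663 chk663 (by decide +kernel) (upto663 h)
theorem upto665 : UptoFor g data 170240 := upto_step h (k := 169984) st664 chk664 (by decide +kernel) (upto664 h)
theorem upto666 : UptoFor g data 170496 := upto_step h (k := 170240) st665 chk665 (by decide +kernel) (upto665 h)
theorem upto667 : UptoFor g data 170752 := upto_step h (k := 170496) st666 chk666 (by decide +kernel) (upto666 h)
theorem upto668 : UptoFor g data 171008 := upto_step h (k := 170752) st667 chk667 (by decide +kernel) (upto667 h)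
theorem upto669 : UptoFor g data 171264 := upto_step h (k := 171008) st668 chk668 (by decide +kernel) (upto668 h)
theorem upto670 : UptoFor g data 171520 := upto_step h (k := 171264) st669 chk669 (by decide +kernel) (upto669 h)
theorem upto671 : UptoFor g data 171776 := upto_step h (k := 171520) st670 chk670 (by decide +kernel) (upto670 h)
theorem upto672 : UptoFor g data 172032 := upto_step h (k := 171776) st671 chk671 (by decide +kernel) (upto671 h)
theorem upto673 : UptoFor g data 172288 := upto_step h (k := 172032) st672 chk672 (by decide +kernel) (upto672 h)
theorem upto674 : UptoFor g data 172544 := upto_step h (k := 172288) st673 chk673 (by decide +kernel) (upto673 h)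
theorem upto675 : UptoFor g data 172800 := upto_step h (k := 172544) st674 chk674 (by decide +kernel) (upto674 h)
theorem upto676 : UptoFor g data 173056 := upto_step h (k := 172800) st675 chk675 (by decide +kernel) (upto675 h)
theorem upto677 : UptoFor g data 173312 := upto_step h (k := 173056) st676 chk676 (by decide +kernel) (upto676 h)
theorem upto678 : UptoFor g data 173568 := upto_step h (k := 173312) st677 chk677 (by decide +kernel) (upto677 h)
theorem upto679 : UptoFor g data 173824 := upto_step h (k := 173568) st678 chk678 (by decide +kernel) (upto678 h)
theorem upto680 : UptoFor g data 174080 := upto_step h (k := 173824) st679 chk679 (by decide +kernel) (upto679 h)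
theorem upto681 : UptoFor g data 174336 := upto_step h (k := 174080) st680 chk680 (by decide +kernel) (upto680 h)
theorem upto682 : UptoFor g data 174592 := upto_step h (k := 174336) st681 chk681 (by decide +kernel) (upto681 h)
theorem upto683 : UptoFor g data 174848 := upto_step h (k := 174592) st682 chk682 (by decide +kernel) (upto682 h)
theorem upto684 : UptoFor g data 175104 := upto_step h (k := 174848) st683 chk683 (by decide +kernel) (upto683 h)
theorem upto685 : UptoFor g data 175360 := upto_step h (k := 175104) st684 chk684 (by decide +kernel) (upto684 h)
theorem upto686 : UptoFor g data 175616 := upto_step h (k := 175360) st685 chk685 (by decide +kernel) (upto685 h)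
theorem upto687 : UptoFor g data 175872 := upto_step h (k := 175616) st686 chk686 (by decide +kernel) (upto686 h)
theorem upto688 : UptoFor g data 176128 := upto_step h (k := 175872) st687 chk687 (by decide +kernel) (upto687 h)
theorem upto689 : UptoFor g data 176384 := upto_step h (k := 176128) st688 chk688 (by decide +kernel) (upto688 h)
theorem upto690 : UptoFor g data 176640 := upto_step h (k := 176384) st689 chk689 (by decide +kernel) (upto689 h)
theorem upto691 : UptoFor g data 176896 := upto_step h (k := 176640) st690 chk690 (by decide +kernel) (upto690 h)
theorem upto692 : UptoFor g data 177152 := upto_step h (k := 176896) st691 chk691 (by decide +kernel) (upto691 h)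
theorem upto693 : UptoFor g data 177408 := upto_step h (k := 177152) st692 chk692 (by decide +kernel) (upto692 h)
theorem upto694 : UptoFor g data 177664 := upto_step h (k := 177408) st693 chk693 (by decide +kernel) (upto693 h)
theorem upto695 : UptoFor g data 177920 := upto_step h (k := 177664) st694 chk694 (by decide +kernel) (upto694 h)
theorem upto696 : UptoFor g data 178176 := upto_step h (k := 177920) st695 chk695 (by decide +kernel) (upto695 h)
theorem upto697 : UptoFor g data 178432 := upto_step h (k := 178176) st696 chk696 (by decide +kernel) (upto696 h)
theorem upto698 : UptoFor g data 178688 := upto_step h (k := 178432) st697 chk697 (by decide +kernel) (upto697 h)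
theorem upto699 : UptoFor g data 178944 := upto_step h (k := 178688) st698 chk698 (by decide +kernel) (upto698 h)
theorem upto700 : UptoFor g data 179200 := upto_step h (k := 178944) st699 chk699 (by decide +kernel) (upto699 h)
theorem upto701 : UptoFor g data 179456 := upto_step h (k := 179200) st700 chk700 (by decide +kernel) (upto700 h)
theorem upto702 : UptoFor g data 179712 := upto_step h (k := 179456) st701 chk701 (by decide +kernel) (upto701 h)
theorem upto703 : UptoFor g data 179968 := upto_step h (k := 179712) st702 chk702 (by decide +kernel) (upto702 h)
theorem upto704 : UptoFor g data 180224 := upto_step h (k := 179968) st703 chk703 (by decide +kernel) (upto703 h)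
theorem upto705 : UptoFor g data 180480 := upto_step h (k := 180224) st704 chk704 (by decide +kernel) (upto704 h)
theorem upto706 : UptoFor g data 180736 := upto_step h (k := 180480) st705 chk705 (by decide +kernel) (upto705 h)
theorem upto707 : UptoFor g data 180992 := upto_step h (k := 180736) st706 chk706 (by decide +kernel) (upto706 h)
theorem upto708 : UptoFor g data 181248 := upto_step h (k := 180992) st707 chk707 (by decide +kernel) (upto707 h)
theorem upto709 : UptoFor g data 181504 := upto_step h (k := 181248) st708 chk708 (by decide +kernel) (upto708 h)
theorem upto710 : UptoFor g data 181760 := upto_step h (k := 181504) st709 chk709 (by decide +kernel) (upto709 h)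
theorem upto711 : UptoFor g data 182016 := upto_step h (k := 181760) st710 chk710 (by decide +kernel) (upto710 h)
theorem upto712 : UptoFor g data 182272 := upto_step h (k := 182016) st711 chk711 (by decide +kernel) (upto711 h)
theorem upto713 : UptoFor g data 182528 := upto_step h (k := 182272) st712 chk712 (by decide +kernel) (upto712 h)
theorem upto714 : UptoFor g data 182784 := upto_step h (k := 182528) st713 chk713 (by decide +kernel) (upto713 h)
theorem upto715 : UptoFor g data 183040 := upto_step h (k := 182784) st714 chk714 (by decide +kernel) (upto714 h)
theorem upto716 : UptoFor g data 183296 := upto_step h (k := 183040) st715 chk715 (by decide +kernel) (upto715 h)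
theorem upto717 : UptoFor g data 183552 := upto_step h (k := 183296) st716 chk716 (by decide +kernel) (upto716 h)
theorem upto718 : UptoFor g data 183808 := upto_step h (k := 183552) st717 chk717 (by decide +kernel) (upto717 h)
theorem upto719 : UptoFor g data 184064 := upto_step h (k := 183808) st718 chk718 (by decide +kernel) (upto718 h)
theorem upto720 : UptoFor g data 184320 := upto_step h (k := 184064) st719 chk719 (by decide +kernel) (upto719 h)
theorem upto721 : UptoFor g data 184576 := upto_step h (k := 184320) st720 chk720 (by decide +kernel) (upto720 h)
theorem upto722 : UptoFor g data 184832 := upto_step h (k := 184576) st721 chk721 (by decide +kernel) (upto721 h)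
theorem upto723 : UptoFor g data 185088 := upto_step h (k := 184832) st722 chk722 (by decide +kernel) (upto722 h)
theorem upto724 : UptoFor g data 185344 := upto_step h (k := 185088) st723 chk723 (by decide +kernel) (upto723 h)
theorem upto725 : UptoFor g data 185600 := upto_step h (k := 185344) st724 chk724 (by decide +kernel) (upto724 h)
theorem upto726 : UptoFor g data 185856 := upto_step h (k := 185600) st725 chk725 (by decide +kernel) (upto725 h)
theorem upto727 : UptoFor g data 186112 := upto_step h (k := 185856) st726 chk726 (by decide +kernel) (upto726 h)
theorem upto728 : UptoFor g data 186368 := upto_step h (k := 186112) st727 chk727 (by decide +kernel) (upto727 h)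
theorem upto729 : UptoFor g data 186624 := upto_step h (k := 186368) st728 chk728 (by decide +kernel) (upto728 h)
theorem upto730 : UptoFor g data 186880 := upto_step h (k := 186624) st729 chk729 (by decide +kernel) (upto729 h)
theorem upto731 : UptoFor g data 187136 := upto_step h (k := 186880) st730 chk730 (by decide +kernel) (upto730 h)
theorem upto732 : UptoFor g data 187392 := upto_step h (k := 187136) st731 chk731 (by decide +kernel) (upto731 h)
theorem upto733 : UptoFor g data 187648 := upto_step h (k := 187392) st732 chk732 (by decide +kernel) (upto732 h)
theorem upto734 : UptoFor g data 187904 := upto_step h (k := 187648) st733 chk733 (by decide +kernel) (upto733 h)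
theorem upto735 : UptoFor g data 188160 := upto_step h (k := 187904) st734 chk734 (by decide +kernel) (upto734 h)
theorem upto736 : UptoFor g data 188416 := upto_step h (k := 188160) st735 chk735 (by decide +kernel) (upto735 h)
theorem upto737 : UptoFor g data 188672 := upto_step h (k := 188416) st736 chk736 (by decide +kernel) (upto736 h)
theorem upto738 : UptoFor g data 188928 := upto_step h (k := 188672) st737 chk737 (by decide +kernel) (upto737 h)
theorem upto739 : UptoFor g data 189184 := upto_step h (k := 188928) st738 chk738 (by decide +kernel) (upto738 h)
theorem upto740 : UptoFor g data 189440 := upto_step h (k := 189184) st739 chk739 (by decide +kernel) (upto739 h)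
theorem upto741 : UptoFor g data 189696 := upto_step h (k := 189440) st740 chk740 (by decide +kernel) (upto740 h)
theorem upto742 : UptoFor g data 189952 := upto_step h (k := 189696) st741 chk741 (by decide +kernel) (upto741 h)
theorem upto743 : UptoFor g data 190208 := upto_step h (k := 189952) st742 chk742 (by decide +kernel) (upto742 h)
theorem upto744 : UptoFor g data 190464 := upto_step h (k := 190208) st743 chk743 (by decide +kernel) (upto743 h)
theorem upto745 : UptoFor g data 190720 := upto_step h (k := 190464) st744 chk744 (by decide +kernel) (upto744 h)
theorem upto746 : UptoFor g data 190976 := upto_step h (k := 190720) st745 chk745 (by decide +kernel) (upto745 h)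
theorem upto747 : UptoFor g data 191232 := upto_step h (k := 190976) st746 chk746 (by decide +kernel) (upto746 h)
theorem upto748 : UptoFor g data 191488 := upto_step h (k := 191232) st747 chk747 (by decide +kernel) (upto747 h)
theorem upto749 : UptoFor g data 191744 := upto_step h (k := 191488) st748 chk748 (by decide +kernel) (upto748 h)
theorem upto750 : UptoFor g data 192000 := upto_step h (k := 191744) st749 chk749 (by decide +kernel) (upto749 h)
theorem upto751 : UptoFor g data 192256 := upto_step h (k := 192000) st750 chk750 (by decide +kernel) (upto750 h)
theorem upto752 : UptoFor g data 192512 := upto_step h (k := 192256) st751 chk751 (by decide +kernel) (upto751 h)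
theorem upto753 : UptoFor g data 192768 := upto_step h (k := 192512) st752 chk752 (by decide +kernel) (upto752 h)
theorem upto754 : UptoFor g data 193024 := upto_step h (k := 192768) st753 chk753 (by decide +kernel) (upto753 h)
theorem upto755 : UptoFor g data 193280 := upto_step h (k := 193024) st754 chk754 (by decide +kernel) (upto754 h)
theorem upto756 : UptoFor g data 193536 := upto_step h (k := 193280) st755 chk755 (by decide +kernel) (upto755 h)
theorem upto757 : UptoFor g data 193792 := upto_step h (k := 193536) st756 chk756 (by decide +kernel) (upto756 h)
theorem upto758 : UptoFor g data 194048 := upto_step h (k := 193792) st757 chk757 (by decide +kernel) (upto757 h)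
theorem upto759 : UptoFor g data 194304 := upto_step h (k := 194048) st758 chk758 (by decide +kernel) (upto758 h)
theorem upto760 : UptoFor g data 194560 := upto_step h (k := 194304) st759 chk759 (by decide +kernel) (upto759 h)
theorem upto761 : UptoFor g data 194816 := upto_step h (k := 194560) st760 chk760 (by decide +kernel) (upto760 h)
theorem upto762 : UptoFor g data 195072 := upto_step h (k := 194816) st761 chk761 (by decide +kernel) (upto761 h)
theorem upto763 : UptoFor g data 195328 := upto_step h (k := 195072) st762 chk762 (by decide +kernel) (upto762 h)
theorem upto764 : UptoFor g data 195584 := upto_step h (k := 195328) st763 chk763 (by decide +kernel) (upto763 h)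
theorem upto765 : UptoFor g data 195840 := upto_step h (k := 195584) st764 chk764 (by decide +kernel) (upto764 h)
theorem upto766 : UptoFor g data 196096 := upto_step h (k := 195840) st765 chk765 (by decide +kernel) (upto765 h)
theorem upto767 : UptoFor g data 196352 := upto_step h (k := 196096) st766 chk766 (by decide +kernel) (upto766 h)
theorem upto768 : UptoFor g data 196608 := upto_step h (k := 196352) st767 chk767 (by decide +kernel) (upto767 h)
theorem upto769 : UptoFor g data 196864 := upto_step h (k := 196608) st768 chk768 (by decide +kernel) (upto768 h)
theorem upto770 : UptoFor g data 197120 := upto_step h (k := 196864) st769 chk769 (by decide +kernel) (upto769 h)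
theorem upto771 : UptoFor g data 197376 := upto_step h (k := 197120) st770 chk770 (by decide +kernel) (upto770 h)
theorem upto772 : UptoFor g data 197632 := upto_step h (k := 197376) st771 chk771 (by decide +kernel) (upto771 h)
theorem upto773 : UptoFor g data 197888 := upto_step h (k := 197632) st772 chk772 (by decide +kernel) (upto772 h)
theorem upto774 : UptoFor g data 198144 := upto_step h (k := 197888) st773 chk773 (by decide +kernel) (upto773 h)
theorem upto775 : UptoFor g data 198400 := upto_step h (k := 198144) st774 chk774 (by decide +kernel) (upto774 h)
theorem upto776 : UptoFor g data 198656 := upto_step h (k := 198400) st775 chk775 (by decide +kernel) (upto775 h)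
theorem upto777 : UptoFor g data 198912 := upto_step h (k := 198656) st776 chk776 (by decide +kernel) (upto776 h)
theorem upto778 : UptoFor g data 199168 := upto_step h (k := 198912) st777 chk777 (by decide +kernel) (upto777 h)
theorem upto779 : UptoFor g data 199424 := upto_step h (k := 199168) st778 chk778 (by decide +kernel) (upto778 h)
theorem upto780 : UptoFor g data 199680 := upto_step h (k := 199424) st779 chk779 (by decide +kernel) (upto779 h)
theorem upto781 : UptoFor g data 199936 := upto_step h (k := 199680) st780 chk780 (by decide +kernel) (upto780 h)
theorem upto782 : UptoFor g data 200192 := upto_step h (k := 199936) st781 chk781 (by decide +kernel) (upto781 h)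
theorem upto783 : UptoFor g data 200448 := upto_step h (k := 200192) st782 chk782 (by decide +kernel) (upto782 h)
theorem upto784 : UptoFor g data 200704 := upto_step h (k := 200448) st783 chk783 (by decide +kernel) (upto783 h)
theorem upto785 : UptoFor g data 200960 := upto_step h (k := 200704) st784 chk784 (by decide +kernel) (upto784 h)
theorem upto786 : UptoFor g data 201216 := upto_step h (k := 200960) st785 chk785 (by decide +kernel) (upto785 h)
theorem upto787 : UptoFor g data 201472 := upto_step h (k := 201216) st786 chk786 (by decide +kernel) (upto786 h)
theorem upto788 : UptoFor g data 201728 := upto_step h (k := 201472) st787 chk787 (by decide +kernel) (upto787 h)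
theorem upto789 : UptoFor g data 201984 := upto_step h (k := 201728) st788 chk788 (by decide +kernel) (upto788 h)
theorem upto790 : UptoFor g data 202240 := upto_step h (k := 201984) st789 chk789 (by decide +kernel) (upto789 h)
theorem upto791 : UptoFor g data 202496 := upto_step h (k := 202240) st790 chk790 (by decide +kernel) (upto790 h)
theorem upto792 : UptoFor g data 202752 := upto_step h (k := 202496) st791 chk791 (by decide +kernel) (upto791 h)
theorem upto793 : UptoFor g data 203008 := upto_step h (k := 202752) st792 chk792 (by decide +kernel) (upto792 h)
theorem upto794 : UptoFor g data 203264 := upto_step h (k := 203008) st793 chk793 (by decide +kernel) (upto793 h)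
theorem upto795 : UptoFor g data 203520 := upto_step h (k := 203264) st794 chk794 (by decide +kernel) (upto794 h)
theorem upto796 : UptoFor g data 203776 := upto_step h (k := 203520) st795 chk795 (by decide +kernel) (upto795 h)
theorem upto797 : UptoFor g data 204032 := upto_step h (k := 203776) st796 chk796 (by decide +kernel) (upto796 h)
theorem upto798 : UptoFor g data 204288 := upto_step h (k := 204032) st797 chk797 (by decide +kernel) (upto797 h)
theorem upto799 : UptoFor g data 204544 := upto_step h (k := 204288) st798 chk798 (by decide +kernel) (upto798 h)
theorem upto800 : UptoFor g data 204800 := upto_step h (k := 204544) st799 chk799 (by decide +kernel) (upto799 h)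
theorem upto801 : UptoFor g data 205056 := upto_step h (k := 204800) st800 chk800 (by decide +kernel) (upto800 h)
theorem upto802 : UptoFor g data 205312 := upto_step h (k := 205056) st801 chk801 (by decide +kernel) (upto801 h)
theorem upto803 : UptoFor g data 205568 := upto_step h (k := 205312) st802 chk802 (by decide +kernel) (upto802 h)
theorem upto804 : UptoFor g data 205824 := upto_step h (k := 205568) st803 chk803 (by decide +kernel) (upto803 h)
theorem upto805 : UptoFor g data 206080 := upto_step h (k := 205824) st804 chk804 (by decide +kernel) (upto804 h)
theorem upto806 : UptoFor g data 206336 := upto_step h (k := 206080) st805 chk805 (by decide +kernel) (upto805 h)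
theorem upto807 : UptoFor g data 206592 := upto_step h (k := 206336) st806 chk806 (by decide +kernel) (upto806 h)
theorem upto808 : UptoFor g data 206848 := upto_step h (k := 206592) st807 chk807 (by decide +kernel) (upto807 h)
theorem upto809 : UptoFor g data 207104 := upto_step h (k := 206848) st808 chk808 (by decide +kernel) (upto808 h)
theorem upto810 : UptoFor g data 207360 := upto_step h (k := 207104) st809 chk809 (by decide +kernel) (upto809 h)
theorem upto811 : UptoFor g data 207616 := upto_step h (k := 207360) st810 chk810 (by decide +kernel) (upto810 h)
theorem upto812 : UptoFor g data 207872 := upto_step h (k := 207616) st811 chk811 (by decide +kernel) (upto811 h)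
theorem upto813 : UptoFor g data 208128 := upto_step h (k := 207872) st812 chk812 (by decide +kernel) (upto812 h)
theorem upto814 : UptoFor g data 208384 := upto_step h (k := 208128) st813 chk813 (by decide +kernel) (upto813 h)
theorem upto815 : UptoFor g data 208640 := upto_step h (k := 208384) st814 chk814 (by decide +kernel) (upto814 h)
theorem upto816 : UptoFor g data 208896 := upto_step h (k := 208640) st815 chk815 (by decide +kernel) (upto815 h)
theorem upto817 : UptoFor g data 209152 := upto_step h (k := 208896) st816 chk816 (by decide +kernel) (upto816 h)
theorem upto818 : UptoFor g data 209355 := upto_step h (k := 209152) st817 chk817 (by decide +kernel) (upto817 h)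

theorem covers (hgen : Subgroup.closure (Set.range g) = ⊤) :
    Covers g (wordClosure g data.subs) cover data where
  pos := by decide
  invol_g := h.invol
  junk := h.junk
  gen := hgen
  facts := upto818 h
  edges := edges124
  rep0 := by decide +kernel

end Cfsg.Agent.Enum.FiGX
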