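import Mathlib
import Cfsg.Prelude.Def_Spor_Fi23
import Cfsg.Agent.Lib.Enum.Pres

/-!
# The presentation of Fi23 as words
-/

set_option autoImplicit false
set_option maxRecDepth 4000

namespace Cfsg.Agent.Enum

open Cfsg.Spor

theorem presWordsFi23 {M : Type} [Group M] (f : Fi23.Gen → M) (hf : ∀ a, f a * f a = 1) :
    Fi23.extra.map (FreeGroup.lift f) =
      ([[3, 2, 1, 3, 4, 5, 3, 8, 9, 3, 2, 1, 3, 4, 5, 3, 8, 9, 3, 2, 1, 3, 4, 5, 3, 8, 9, 3, 2, 1, 3, 4, 5, 3, 8, 9, 3, 2, 1, 3, 4, 5, 3, 8, 9, 3, 2, 1, 3, 4, 5, 3, 8, 9, 3, 2, 1, 3, 4, 5, 3, 8, 9, 3, 2, 1, 3, 4, 5, 3, 8, 9, 3, 2, 1, 3, 4, 5, 3, 8, 9, 3, 2, 1, 3, 4, 5, 3, 8, 9], [0, 1, 2, 3, 4, 5, 8, 0, 1, 2, 3, 4, 5, 8, 0, 1, 2, 3, 4, 5, 8, 0, 1, 2, 3, 4, 5, 8, 0, 1, 2, 3, 4, 5, 8, 0, 1, 2, 3, 4, 5, 8, 0, 1, 2, 3, 4,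 5, 8, 0, 1, 2, 3, 4, 5, 8, 0, 1, 2, 3, 4, 5, 8]] : List (List ℕ)).map fun w =>
        (w.map fun i => ((([.a, .b, .c, .d, .e, .f, .g, .j, .h, .i] : List Fi23.Gen)[i]?).map f).getD 1).prod := by
  simp [Fi23.extra, pow_succ, mul_assoc]

/-- The presentation of Fi23. -/
def presFi23 : Pres Fi23.Gen where
  gens := [.a, .b, .c, .d, .e, .f, .g, .j, .h, .i]
  edges := Fi23.edges
  extra := Fi23.extra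
  extraWords := [[3, 2, 1, 3, 4, 5, 3, 8, 9, 3, 2, 1, 3, 4, 5, 3, 8, 9, 3, 2, 1, 3, 4, 5, 3, 8, 9, 3, 2, 1, 3, 4, 5, 3, 8, 9, 3, 2, 1, 3, 4, 5, 3, 8, 9, 3, 2, 1, 3, 4, 5, 3, 8, 9, 3, 2, 1, 3, 4, 5, 3, 8, 9, 3, 2, 1, 3, 4, 5, 3, 8, 9, 3, 2, 1, 3, 4, 5, 3, 8, 9, 3, 2, 1, 3, 4, 5, 3, 8, 9], [0, 1, 2, 3, 4, 5, 8, 0, 1, 2, 3, 4, 5, 8, 0, 1, 2, 3, 4, 5, 8, 0, 1, 2, 3, 4, 5, 8, 0, 1, 2, 3, 4, 5, 8, 0, 1, 2, 3, 4, 5, 8, 0, 1, 2, 3, 4, 5, 8, 0, 1, 2, 3, 4, 5, 8, 0, 1, 2, 3, 4, 5, 8]]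
  complete := fun a => by cases a <;> decide
  nodup := by decide
  node := fun a => by cases a <;> decide
  words_eq := fun f hf => presWordsFi23 f hf

theorem presFi23_relSet :
    presFi23.relSet = coxRelators Fi23.edges ∪ {r | r ∈ Fi23.extra} := rfl

end Cfsg.Agent.Enum
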