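import Cfsg.Prelude.Def_Sporadic
import Cfsg.Agent.Lib.Enum.Bound
import Cfsg.Agent.Lib.Enum.PresFi23
import Cfsg.Agent.Lib.Enum.FiVCover
import Cfsg.Agent.Lib.Enum.FiUCover
import Cfsg.Agent.Lib.Enum.FiTCover
import Cfsg.Agent.Lib.Enum.FiSCover
import Cfsg.Agent.Lib.Enum.FiRCover
import Cfsg.Agent.Lib.Enum.FiPCover
import Cfsg.Agent.Lib.Enum.FiGOCover
import Cfsg.Agent.Lib.Enum.FiGZCover
import Cfsg.Agent.Lib.Enum.FiGYCover
import Cfsg.Agent.Lib.Enum.FiGXCover

/-!
# The presented Fischer group Fi23 is finite of order at most 4089470473293004800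
-/

set_option autoImplicit false
set_option maxRecDepth 10000

namespace Cfsg.Agent.Enum.Fi23M

open Cfsg.Agent.Enum

theorem step {L L' : List ℕ} {t : CoverData} {d : Data} {base : List (List ℕ)} {n : ℕ}
    (hbase : subRelsOK L presFi23.relWords base = true)
    (hcov : ∀ {G : Type} [Group G] {g : ℕ → G}, Holding g n base →
      Subgroup.closure (Set.range g) = ⊤ → Covers g (wordClosure g d.subs) t d)
    (hn : L.length = n)
    (hL' : d.subs.map (fun w => w.map fun i => L.getD i 0) = L'.map fun x => [x])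
    (hlt : d.subs.all (fun w => w.all fun i => Nat.blt i L.length) = true) {m : ℕ}
    (h : Finite (gensClosure presFi23.g L') ∧ Nat.card (gensClosure presFi23.g L') ≤ m) :
    Finite (gensClosure presFi23.g L) ∧ Nat.card (gensClosure presFi23.g L) ≤ t.N * m :=
  chain_step (hcov (hn ▸ holding_subGen presFi23.g_mul_self presFi23.relWords_one L hbase) (subGen_gen L))
    hL' hlt h

theorem cardV : Finite (gensClosure presFi23.g [1]) ∧
    Nat.card (gensClosure presFi23.g [1]) ≤ 2 * (1) :=
  step (by decide +kernel) (fun h hgen => FiV.covers h hgen) rfl (by decide +kernel)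
    (by decide +kernel) chain_base

theorem cardU : Finite (gensClosure presFi23.g [1, 2]) ∧
    Nat.card (gensClosure presFi23.g [1, 2]) ≤ 3 * (2 * (1)) :=
  step (by decide +kernel) (fun h hgen => FiU.covers h hgen) rfl (by decide +kernel)
    (by decide +kernel) cardV

theorem cardT : Finite (gensClosure presFi23.g [1, 2, 3]) ∧
    Nat.card (gensClosure presFi23.g [1, 2, 3]) ≤ 4 * (3 * (2 * (1))) :=
  step (by decide +kernel) (fun h hgen => FiT.covers h hgen) rfl (by decide +kernel)
    (by decide +kernel) cardU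

theorem cardS : Finite (gensClosure presFi23.g [1, 2, 3, 8]) ∧
    Nat.card (gensClosure presFi23.g [1, 2, 3, 8]) ≤ 5 * (4 * (3 * (2 * (1)))) :=
  step (by decide +kernel) (fun h hgen => FiS.covers h hgen) rfl (by decide +kernel)
    (by decide +kernel) cardT

theorem cardR : Finite (gensClosure presFi23.g [1, 2, 3, 4, 8]) ∧
    Nat.card (gensClosure presFi23.g [1, 2, 3, 4, 8]) ≤ 16 * (5 * (4 * (3 * (2 * (1))))) :=
  step (by decide +kernel) (fun h hgen => FiR.covers h hgen) rfl (by decide +kernel)
    (by decide +kernel) cardS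

theorem cardP : Finite (gensClosure presFi23.g [1, 2, 3, 4, 5, 8]) ∧
    Nat.card (gensClosure presFi23.g [1, 2, 3, 4, 5, 8]) ≤ 27 * (16 * (5 * (4 * (3 * (2 * (1)))))) :=
  step (by decide +kernel) (fun h hgen => FiP.covers h hgen) rfl (by decide +kernel)
    (by decide +kernel) cardR

theorem cardGO : Finite (gensClosure presFi23.g [1, 2, 3, 4, 5, 6, 8]) ∧
    Nat.card (gensClosure presFi23.g [1, 2, 3, 4, 5, 6, 8]) ≤ 56 * (27 * (16 * (5 * (4 * (3 * (2 * (1))))))) :=
  step (by decide +kernel) (fun h hgen => FiGO.covers h hgen) rfl (by decide +kernel)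
    (by decide +kernel) cardP

theorem cardGZ : Finite (gensClosure presFi23.g [1, 2, 3, 4, 5, 6, 8, 9]) ∧
    Nat.card (gensClosure presFi23.g [1, 2, 3, 4, 5, 6, 8, 9]) ≤ 3159 * (56 * (27 * (16 * (5 * (4 * (3 * (2 * (1)))))))) :=
  step (by decide +kernel) (fun h hgen => FiGZ.covers h hgen) rfl (by decide +kernel)
    (by decide +kernel) cardGO

theorem cardGY : Finite (gensClosure presFi23.g [0, 1, 2, 3, 4, 5, 6, 8, 9]) ∧
    Nat.card (gensClosure presFi23.g [0, 1, 2, 3, 4, 5, 6, 8, 9]) ≤ 14080 * (3159 * (56 * (27 * (16 * (5 * (4 * (3 * (2 * (1))))))))) :=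
  step (by decide +kernel) (fun h hgen => FiGY.covers h hgen) rfl (by decide +kernel)
    (by decide +kernel) cardGZ

theorem card_sub : Finite (gensClosure presFi23.g [0, 1, 2, 3, 4, 5, 6, 8, 9]) ∧
    Nat.card (gensClosure presFi23.g [0, 1, 2, 3, 4, 5, 6, 8, 9]) ≤ 129123503308800 :=
  ⟨cardGY.1, cardGY.2.trans (by norm_num)⟩

theorem coversX : Covers presFi23.g (gensClosure presFi23.g [0, 1, 2, 3, 4, 5, 6, 8, 9]) FiGX.cover FiGX.data := by
  have h : Holding presFi23.g 10 FiGX.baseRels :=
    { invol := presFi23.g_mul_self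
      junk := fun x hx => presFi23.g_junk x hx
      base := fun w hw => by
        have h1 : FiGX.baseRels.all (fun r => r ∈ presFi23.relWords ∨ r = []) = true := by decide +kernel
        have h2 := List.all_eq_true.mp h1 w hw
        simp only [decide_eq_true_eq] at h2
        rcases h2 with h2 | rfl
        · exact presFi23.relWords_one w h2
        · simp }
  rw [← wordClosure_singletons]
  exact FiGX.covers h presFi23.g_gen

instance finite_grp : Finite presFi23.Grp := by
  haveI := card_sub.1
  haveI := coversX.finite_quotient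
  exact Finite.of_equiv _ (Subgroup.groupEquivQuotientProdSubgroup
    (s := gensClosure presFi23.g [0, 1, 2, 3, 4, 5, 6, 8, 9])).symm

/-- The presented group Fi23 is finite. -/
theorem finite_Fi23 : Finite Cfsg.Spor.Fi23 := finite_grp

theorem card_grp_le : Nat.card presFi23.Grp ≤ 4089470473293004800 := by
  rw [← Subgroup.index_mul_card (gensClosure presFi23.g [0, 1, 2, 3, 4, 5, 6, 8, 9])]
  exact (Nat.mul_le_mul coversX.index_le card_sub.2).trans (by decide +kernel)

end Cfsg.Agent.Enum.Fi23M
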