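import Cfsg.Agent.Lib.Enum.Fi23Perms

/-! Generated: the generators act as involutions. -/

set_option autoImplicit false
set_option maxRecDepth 10000
set_option Elab.async false

namespace Cfsg.Agent.Enum.Fi23T

open Cfsg.Agent.Enum

theorem inv0_0 : allRange (table.chkInv 0) 64 0 1024 = true := by decide +kernel
theorem inv0_1 : allRange (table.chkInv 0) 64 1024 1024 = true := by decide +kernel
theorem inv0_2 : allRange (table.chkInv 0) 64 2048 1024 = true := by decide +kernel
theorem inv0_3 : allRange (table.chkInv 0) 64 3072 1024 = true := by decide +kernel
theorem inv0_4 : allRange (table.chkInv 0) 64 4096 1024 = true := by decide +kernel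
theorem inv0_5 : allRange (table.chkInv 0) 64 5120 1024 = true := by decide +kernel
theorem inv0_6 : allRange (table.chkInv 0) 64 6144 1024 = true := by decide +kernel
theorem inv0_7 : allRange (table.chkInv 0) 64 7168 1024 = true := by decide +kernel
theorem inv0_8 : allRange (table.chkInv 0) 64 8192 1024 = true := by decide +kernel
theorem inv0_9 : allRange (table.chkInv 0) 64 9216 1024 = true := by decide +kernel
theorem inv0_10 : allRange (table.chkInv 0) 64 10240 1024 = true := by decide +kernel
theorem inv0_11 : allRange (table.chkInv 0) 64 11264 1024 = true := by decide +kernel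
theorem inv0_12 : allRange (table.chkInv 0) 64 12288 1024 = true := by decide +kernel
theorem inv0_13 : allRange (table.chkInv 0) 64 13312 1024 = true := by decide +kernel
theorem inv0_14 : allRange (table.chkInv 0) 64 14336 1024 = true := by decide +kernel
theorem inv0_15 : allRange (table.chkInv 0) 64 15360 1024 = true := by decide +kernel
theorem inv0_16 : allRange (table.chkInv 0) 64 16384 1024 = true := by decide +kernel
theorem inv0_17 : allRange (table.chkInv 0) 64 17408 1024 = true := by decide +kernel
theorem inv0_18 : allRange (table.chkInv 0) 64 18432 1024 = true := by decide +kernel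
theorem inv0_19 : allRange (table.chkInv 0) 64 19456 1024 = true := by decide +kernel
theorem inv0_20 : allRange (table.chkInv 0) 64 20480 1024 = true := by decide +kernel
theorem inv0_21 : allRange (table.chkInv 0) 64 21504 1024 = true := by decide +kernel
theorem inv0_22 : allRange (table.chkInv 0) 64 22528 1024 = true := by decide +kernel
theorem inv0_23 : allRange (table.chkInv 0) 64 23552 1024 = true := by decide +kernel
theorem inv0_24 : allRange (table.chkInv 0) 64 24576 1024 = true := by decide +kernel
theorem inv0_25 : allRange (table.chkInv 0) 64 25600 1024 = true := by decide +kernel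
theorem inv0_26 : allRange (table.chkInv 0) 64 26624 1024 = true := by decide +kernel
theorem inv0_27 : allRange (table.chkInv 0) 64 27648 1024 = true := by decide +kernel
theorem inv0_28 : allRange (table.chkInv 0) 64 28672 1024 = true := by decide +kernel
theorem inv0_29 : allRange (table.chkInv 0) 64 29696 1024 = true := by decide +kernel
theorem inv0_30 : allRange (table.chkInv 0) 64 30720 951 = true := by decide +kernel

theorem inv0 : Big.Below (table.chkInv 0) 31671 :=
  Big.below_step inv0_30 rfl (Big.below_step inv0_29 rfl (Big.below_step inv0_28 rfl (Big.below_step inv0_27 rfl (Big.below_step inv0_26 rfl (Big.below_step inv0_25 rfl (Big.below_step inv0_24 rfl (Big.below_step inv0_23 rfl (Big.below_step inv0_22 rfl (Big.below_step inv0_21 rfl (Big.below_step inv0_20 rfl (Big.below_step inv0_19 rfl (Big.below_step inv0_18 rfl (Big.below_step inv0_17 rfl (Big.below_step inv0_16 rfl (Big.below_step inv0_15 rfl (Big.below_step inv0_14 rfl (Big.below_step inv0_13 rfl (Big.below_step inv0_12 rfl (Big.below_step inv0_11 rfl (Big.below_step inv0_10 rfl (Big.below_step inv0_9 rfl (Big.below_step inv0_8 rfl (Big.below_step inv0_7 rfl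 (Big.below_step inv0_6 rfl (Big.below_step inv0_5 rfl (Big.below_step inv0_4 rfl (Big.below_step inv0_3 rfl (Big.below_step inv0_2 rfl (Big.below_step inv0_1 rfl (Big.below_step inv0_0 rfl (Big.below_zero _)))))))))))))))))))))))))))))))

theorem inv1_0 : allRange (table.chkInv 1) 64 0 1024 = true := by decide +kernel
theorem inv1_1 : allRange (table.chkInv 1) 64 1024 1024 = true := by decide +kernel
theorem inv1_2 : allRange (table.chkInv 1) 64 2048 1024 = true := by decide +kernel
theorem inv1_3 : allRange (table.chkInv 1) 64 3072 1024 = true := by decide +kernel
theorem inv1_4 : allRange (table.chkInv 1) 64 4096 1024 = true := by decide +kernel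
theorem inv1_5 : allRange (table.chkInv 1) 64 5120 1024 = true := by decide +kernel
theorem inv1_6 : allRange (table.chkInv 1) 64 6144 1024 = true := by decide +kernel
theorem inv1_7 : allRange (table.chkInv 1) 64 7168 1024 = true := by decide +kernel
theorem inv1_8 : allRange (table.chkInv 1) 64 8192 1024 = true := by decide +kernel
theorem inv1_9 : allRange (table.chkInv 1) 64 9216 1024 = true := by decide +kernel
theorem inv1_10 : allRange (table.chkInv 1) 64 10240 1024 = true := by decide +kernel
theorem inv1_11 : allRange (table.chkInv 1) 64 11264 1024 = true := by decide +kernel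
theorem inv1_12 : allRange (table.chkInv 1) 64 12288 1024 = true := by decide +kernel
theorem inv1_13 : allRange (table.chkInv 1) 64 13312 1024 = true := by decide +kernel
theorem inv1_14 : allRange (table.chkInv 1) 64 14336 1024 = true := by decide +kernel
theorem inv1_15 : allRange (table.chkInv 1) 64 15360 1024 = true := by decide +kernel
theorem inv1_16 : allRange (table.chkInv 1) 64 16384 1024 = true := by decide +kernel
theorem inv1_17 : allRange (table.chkInv 1) 64 17408 1024 = true := by decide +kernel
theorem inv1_18 : allRange (table.chkInv 1) 64 18432 1024 = true := by decide +kernel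
theorem inv1_19 : allRange (table.chkInv 1) 64 19456 1024 = true := by decide +kernel
theorem inv1_20 : allRange (table.chkInv 1) 64 20480 1024 = true := by decide +kernel
theorem inv1_21 : allRange (table.chkInv 1) 64 21504 1024 = true := by decide +kernel
theorem inv1_22 : allRange (table.chkInv 1) 64 22528 1024 = true := by decide +kernel
theorem inv1_23 : allRange (table.chkInv 1) 64 23552 1024 = true := by decide +kernel
theorem inv1_24 : allRange (table.chkInv 1) 64 24576 1024 = true := by decide +kernel
theorem inv1_25 : allRange (table.chkInv 1) 64 25600 1024 = true := by decide +kernel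
theorem inv1_26 : allRange (table.chkInv 1) 64 26624 1024 = true := by decide +kernel
theorem inv1_27 : allRange (table.chkInv 1) 64 27648 1024 = true := by decide +kernel
theorem inv1_28 : allRange (table.chkInv 1) 64 28672 1024 = true := by decide +kernel
theorem inv1_29 : allRange (table.chkInv 1) 64 29696 1024 = true := by decide +kernel
theorem inv1_30 : allRange (table.chkInv 1) 64 30720 951 = true := by decide +kernel

theorem inv1 : Big.Below (table.chkInv 1) 31671 :=
  Big.below_step inv1_30 rfl (Big.below_step inv1_29 rfl (Big.below_step inv1_28 rfl (Big.below_step inv1_27 rfl (Big.below_step inv1_26 rfl (Big.below_step inv1_25 rfl (Big.below_step inv1_24 rfl (Big.below_step inv1_23 rfl (Big.below_step inv1_22 rfl (Big.below_step inv1_21 rfl (Big.below_step inv1_20 rfl (Big.below_step inv1_19 rfl (Big.below_step inv1_18 rfl (Big.below_step inv1_17 rfl (Big.below_step inv1_16 rfl (Big.below_step inv1_15 rfl (Big.below_step inv1_14 rfl (Big.below_step inv1_13 rfl (Big.below_step inv1_12 rfl (Big.below_step inv1_11 rfl (Big.below_step inv1_10 rfl (Big.below_step inv1_9 rfl (Big.below_step inv1_8 rfl (Big.below_step inv1_7 rfl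 (Big.below_step inv1_6 rfl (Big.below_step inv1_5 rfl (Big.below_step inv1_4 rfl (Big.below_step inv1_3 rfl (Big.below_step inv1_2 rfl (Big.below_step inv1_1 rfl (Big.below_step inv1_0 rfl (Big.below_zero _)))))))))))))))))))))))))))))))

theorem inv2_0 : allRange (table.chkInv 2) 64 0 1024 = true := by decide +kernel
theorem inv2_1 : allRange (table.chkInv 2) 64 1024 1024 = true := by decide +kernel
theorem inv2_2 : allRange (table.chkInv 2) 64 2048 1024 = true := by decide +kernel
theorem inv2_3 : allRange (table.chkInv 2) 64 3072 1024 = true := by decide +kernel
theorem inv2_4 : allRange (table.chkInv 2) 64 4096 1024 = true := by decide +kernel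
theorem inv2_5 : allRange (table.chkInv 2) 64 5120 1024 = true := by decide +kernel
theorem inv2_6 : allRange (table.chkInv 2) 64 6144 1024 = true := by decide +kernel
theorem inv2_7 : allRange (table.chkInv 2) 64 7168 1024 = true := by decide +kernel
theorem inv2_8 : allRange (table.chkInv 2) 64 8192 1024 = true := by decide +kernel
theorem inv2_9 : allRange (table.chkInv 2) 64 9216 1024 = true := by decide +kernel
theorem inv2_10 : allRange (table.chkInv 2) 64 10240 1024 = true := by decide +kernel
theorem inv2_11 : allRange (table.chkInv 2) 64 11264 1024 = true := by decide +kernel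
theorem inv2_12 : allRange (table.chkInv 2) 64 12288 1024 = true := by decide +kernel
theorem inv2_13 : allRange (table.chkInv 2) 64 13312 1024 = true := by decide +kernel
theorem inv2_14 : allRange (table.chkInv 2) 64 14336 1024 = true := by decide +kernel
theorem inv2_15 : allRange (table.chkInv 2) 64 15360 1024 = true := by decide +kernel
theorem inv2_16 : allRange (table.chkInv 2) 64 16384 1024 = true := by decide +kernel
theorem inv2_17 : allRange (table.chkInv 2) 64 17408 1024 = true := by decide +kernel
theorem inv2_18 : allRange (table.chkInv 2) 64 18432 1024 = true := by decide +kernel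
theorem inv2_19 : allRange (table.chkInv 2) 64 19456 1024 = true := by decide +kernel
theorem inv2_20 : allRange (table.chkInv 2) 64 20480 1024 = true := by decide +kernel
theorem inv2_21 : allRange (table.chkInv 2) 64 21504 1024 = true := by decide +kernel
theorem inv2_22 : allRange (table.chkInv 2) 64 22528 1024 = true := by decide +kernel
theorem inv2_23 : allRange (table.chkInv 2) 64 23552 1024 = true := by decide +kernel
theorem inv2_24 : allRange (table.chkInv 2) 64 24576 1024 = true := by decide +kernel
theorem inv2_25 : allRange (table.chkInv 2) 64 25600 1024 = true := by decide +kernel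
theorem inv2_26 : allRange (table.chkInv 2) 64 26624 1024 = true := by decide +kernel
theorem inv2_27 : allRange (table.chkInv 2) 64 27648 1024 = true := by decide +kernel
theorem inv2_28 : allRange (table.chkInv 2) 64 28672 1024 = true := by decide +kernel
theorem inv2_29 : allRange (table.chkInv 2) 64 29696 1024 = true := by decide +kernel
theorem inv2_30 : allRange (table.chkInv 2) 64 30720 951 = true := by decide +kernel

theorem inv2 : Big.Below (table.chkInv 2) 31671 :=
  Big.below_step inv2_30 rfl (Big.below_step inv2_29 rfl (Big.below_step inv2_28 rfl (Big.below_step inv2_27 rfl (Big.below_step inv2_26 rfl (Big.below_step inv2_25 rfl (Big.below_step inv2_24 rfl (Big.below_step inv2_23 rfl (Big.below_step inv2_22 rfl (Big.below_step inv2_21 rfl (Big.below_step inv2_20 rfl (Big.below_step inv2_19 rfl (Big.below_step inv2_18 rfl (Big.below_step inv2_17 rfl (Big.below_step inv2_16 rfl (Big.below_step inv2_15 rfl (Big.below_step inv2_14 rfl (Big.below_step inv2_13 rfl (Big.below_step inv2_12 rfl (Big.below_step inv2_11 rfl (Big.below_step inv2_10 rfl (Big.below_step inv2_9 rfl (Big.below_step inv2_8 rfl (Big.below_step inv2_7 rfl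 (Big.below_step inv2_6 rfl (Big.below_step inv2_5 rfl (Big.below_step inv2_4 rfl (Big.below_step inv2_3 rfl (Big.below_step inv2_2 rfl (Big.below_step inv2_1 rfl (Big.below_step inv2_0 rfl (Big.below_zero _)))))))))))))))))))))))))))))))

theorem inv3_0 : allRange (table.chkInv 3) 64 0 1024 = true := by decide +kernel
theorem inv3_1 : allRange (table.chkInv 3) 64 1024 1024 = true := by decide +kernel
theorem inv3_2 : allRange (table.chkInv 3) 64 2048 1024 = true := by decide +kernel
theorem inv3_3 : allRange (table.chkInv 3) 64 3072 1024 = true := by decide +kernel
theorem inv3_4 : allRange (table.chkInv 3) 64 4096 1024 = true := by decide +kernel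
theorem inv3_5 : allRange (table.chkInv 3) 64 5120 1024 = true := by decide +kernel
theorem inv3_6 : allRange (table.chkInv 3) 64 6144 1024 = true := by decide +kernel
theorem inv3_7 : allRange (table.chkInv 3) 64 7168 1024 = true := by decide +kernel
theorem inv3_8 : allRange (table.chkInv 3) 64 8192 1024 = true := by decide +kernel
theorem inv3_9 : allRange (table.chkInv 3) 64 9216 1024 = true := by decide +kernel
theorem inv3_10 : allRange (table.chkInv 3) 64 10240 1024 = true := by decide +kernel
theorem inv3_11 : allRange (table.chkInv 3) 64 11264 1024 = true := by decide +kernel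
theorem inv3_12 : allRange (table.chkInv 3) 64 12288 1024 = true := by decide +kernel
theorem inv3_13 : allRange (table.chkInv 3) 64 13312 1024 = true := by decide +kernel
theorem inv3_14 : allRange (table.chkInv 3) 64 14336 1024 = true := by decide +kernel
theorem inv3_15 : allRange (table.chkInv 3) 64 15360 1024 = true := by decide +kernel
theorem inv3_16 : allRange (table.chkInv 3) 64 16384 1024 = true := by decide +kernel
theorem inv3_17 : allRange (table.chkInv 3) 64 17408 1024 = true := by decide +kernel
theorem inv3_18 : allRange (table.chkInv 3) 64 18432 1024 = true := by decide +kernel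
theorem inv3_19 : allRange (table.chkInv 3) 64 19456 1024 = true := by decide +kernel
theorem inv3_20 : allRange (table.chkInv 3) 64 20480 1024 = true := by decide +kernel
theorem inv3_21 : allRange (table.chkInv 3) 64 21504 1024 = true := by decide +kernel
theorem inv3_22 : allRange (table.chkInv 3) 64 22528 1024 = true := by decide +kernel
theorem inv3_23 : allRange (table.chkInv 3) 64 23552 1024 = true := by decide +kernel
theorem inv3_24 : allRange (table.chkInv 3) 64 24576 1024 = true := by decide +kernel
theorem inv3_25 : allRange (table.chkInv 3) 64 25600 1024 = true := by decide +kernel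
theorem inv3_26 : allRange (table.chkInv 3) 64 26624 1024 = true := by decide +kernel
theorem inv3_27 : allRange (table.chkInv 3) 64 27648 1024 = true := by decide +kernel
theorem inv3_28 : allRange (table.chkInv 3) 64 28672 1024 = true := by decide +kernel
theorem inv3_29 : allRange (table.chkInv 3) 64 29696 1024 = true := by decide +kernel
theorem inv3_30 : allRange (table.chkInv 3) 64 30720 951 = true := by decide +kernel

theorem inv3 : Big.Below (table.chkInv 3) 31671 :=
  Big.below_step inv3_30 rfl (Big.below_step inv3_29 rfl (Big.below_step inv3_28 rfl (Big.below_step inv3_27 rfl (Big.below_step inv3_26 rfl (Big.below_step inv3_25 rfl (Big.below_step inv3_24 rfl (Big.below_step inv3_23 rfl (Big.below_step inv3_22 rfl (Big.below_step inv3_21 rfl (Big.below_step inv3_20 rfl (Big.below_step inv3_19 rfl (Big.below_step inv3_18 rfl (Big.below_step inv3_17 rfl (Big.below_step inv3_16 rfl (Big.below_step inv3_15 rfl (Big.below_step inv3_14 rfl (Big.below_step inv3_13 rfl (Big.below_step inv3_12 rfl (Big.below_step inv3_11 rfl (Big.below_step inv3_10 rfl (Big.below_step inv3_9 rfl (Big.below_step inv3_8 rfl (Big.below_step inv3_7 rfl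 (Big.below_step inv3_6 rfl (Big.below_step inv3_5 rfl (Big.below_step inv3_4 rfl (Big.below_step inv3_3 rfl (Big.below_step inv3_2 rfl (Big.below_step inv3_1 rfl (Big.below_step inv3_0 rfl (Big.below_zero _)))))))))))))))))))))))))))))))

theorem inv4_0 : allRange (table.chkInv 4) 64 0 1024 = true := by decide +kernel
theorem inv4_1 : allRange (table.chkInv 4) 64 1024 1024 = true := by decide +kernel
theorem inv4_2 : allRange (table.chkInv 4) 64 2048 1024 = true := by decide +kernel
theorem inv4_3 : allRange (table.chkInv 4) 64 3072 1024 = true := by decide +kernel
theorem inv4_4 : allRange (table.chkInv 4) 64 4096 1024 = true := by decide +kernel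
theorem inv4_5 : allRange (table.chkInv 4) 64 5120 1024 = true := by decide +kernel
theorem inv4_6 : allRange (table.chkInv 4) 64 6144 1024 = true := by decide +kernel
theorem inv4_7 : allRange (table.chkInv 4) 64 7168 1024 = true := by decide +kernel
theorem inv4_8 : allRange (table.chkInv 4) 64 8192 1024 = true := by decide +kernel
theorem inv4_9 : allRange (table.chkInv 4) 64 9216 1024 = true := by decide +kernel
theorem inv4_10 : allRange (table.chkInv 4) 64 10240 1024 = true := by decide +kernel
theorem inv4_11 : allRange (table.chkInv 4) 64 11264 1024 = true := by decide +kernel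
theorem inv4_12 : allRange (table.chkInv 4) 64 12288 1024 = true := by decide +kernel
theorem inv4_13 : allRange (table.chkInv 4) 64 13312 1024 = true := by decide +kernel
theorem inv4_14 : allRange (table.chkInv 4) 64 14336 1024 = true := by decide +kernel
theorem inv4_15 : allRange (table.chkInv 4) 64 15360 1024 = true := by decide +kernel
theorem inv4_16 : allRange (table.chkInv 4) 64 16384 1024 = true := by decide +kernel
theorem inv4_17 : allRange (table.chkInv 4) 64 17408 1024 = true := by decide +kernel
theorem inv4_18 : allRange (table.chkInv 4) 64 18432 1024 = true := by decide +kernel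
theorem inv4_19 : allRange (table.chkInv 4) 64 19456 1024 = true := by decide +kernel
theorem inv4_20 : allRange (table.chkInv 4) 64 20480 1024 = true := by decide +kernel
theorem inv4_21 : allRange (table.chkInv 4) 64 21504 1024 = true := by decide +kernel
theorem inv4_22 : allRange (table.chkInv 4) 64 22528 1024 = true := by decide +kernel
theorem inv4_23 : allRange (table.chkInv 4) 64 23552 1024 = true := by decide +kernel
theorem inv4_24 : allRange (table.chkInv 4) 64 24576 1024 = true := by decide +kernel
theorem inv4_25 : allRange (table.chkInv 4) 64 25600 1024 = true := by decide +kernel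
theorem inv4_26 : allRange (table.chkInv 4) 64 26624 1024 = true := by decide +kernel
theorem inv4_27 : allRange (table.chkInv 4) 64 27648 1024 = true := by decide +kernel
theorem inv4_28 : allRange (table.chkInv 4) 64 28672 1024 = true := by decide +kernel
theorem inv4_29 : allRange (table.chkInv 4) 64 29696 1024 = true := by decide +kernel
theorem inv4_30 : allRange (table.chkInv 4) 64 30720 951 = true := by decide +kernel

theorem inv4 : Big.Below (table.chkInv 4) 31671 :=
  Big.below_step inv4_30 rfl (Big.below_step inv4_29 rfl (Big.below_step inv4_28 rfl (Big.below_step inv4_27 rfl (Big.below_step inv4_26 rfl (Big.below_step inv4_25 rfl (Big.below_step inv4_24 rfl (Big.below_step inv4_23 rfl (Big.below_step inv4_22 rfl (Big.below_step inv4_21 rfl (Big.below_step inv4_20 rfl (Big.below_step inv4_19 rfl (Big.below_step inv4_18 rfl (Big.below_step inv4_17 rfl (Big.below_step inv4_16 rfl (Big.below_step inv4_15 rfl (Big.below_step inv4_14 rfl (Big.below_step inv4_13 rfl (Big.below_step inv4_12 rfl (Big.below_step inv4_11 rfl (Big.below_step inv4_10 rfl (Big.below_step inv4_9 rfl (Big.below_step inv4_8 rfl (Big.below_step inv4_7 rfl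 (Big.below_step inv4_6 rfl (Big.below_step inv4_5 rfl (Big.below_step inv4_4 rfl (Big.below_step inv4_3 rfl (Big.below_step inv4_2 rfl (Big.below_step inv4_1 rfl (Big.below_step inv4_0 rfl (Big.below_zero _)))))))))))))))))))))))))))))))


end Cfsg.Agent.Enum.Fi23T
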