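import Cfsg.Agent.Lib.Enum.Fi23Perms

/-! Generated: the generators act as involutions. -/

set_option autoImplicit false
set_option maxRecDepth 10000
set_option Elab.async false

namespace Cfsg.Agent.Enum.Fi23T

open Cfsg.Agent.Enum

theorem inv5_0 : allRange (table.chkInv 5) 64 0 1024 = true := by decide +kernel
theorem inv5_1 : allRange (table.chkInv 5) 64 1024 1024 = true := by decide +kernel
theorem inv5_2 : allRange (table.chkInv 5) 64 2048 1024 = true := by decide +kernel
theorem inv5_3 : allRange (table.chkInv 5) 64 3072 1024 = true := by decide +kernel
theorem inv5_4 : allRange (table.chkInv 5) 64 4096 1024 = true := by decide +kernel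
theorem inv5_5 : allRange (table.chkInv 5) 64 5120 1024 = true := by decide +kernel
theorem inv5_6 : allRange (table.chkInv 5) 64 6144 1024 = true := by decide +kernel
theorem inv5_7 : allRange (table.chkInv 5) 64 7168 1024 = true := by decide +kernel
theorem inv5_8 : allRange (table.chkInv 5) 64 8192 1024 = true := by decide +kernel
theorem inv5_9 : allRange (table.chkInv 5) 64 9216 1024 = true := by decide +kernel
theorem inv5_10 : allRange (table.chkInv 5) 64 10240 1024 = true := by decide +kernel
theorem inv5_11 : allRange (table.chkInv 5) 64 11264 1024 = true := by decide +kernel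
theorem inv5_12 : allRange (table.chkInv 5) 64 12288 1024 = true := by decide +kernel
theorem inv5_13 : allRange (table.chkInv 5) 64 13312 1024 = true := by decide +kernel
theorem inv5_14 : allRange (table.chkInv 5) 64 14336 1024 = true := by decide +kernel
theorem inv5_15 : allRange (table.chkInv 5) 64 15360 1024 = true := by decide +kernel
theorem inv5_16 : allRange (table.chkInv 5) 64 16384 1024 = true := by decide +kernel
theorem inv5_17 : allRange (table.chkInv 5) 64 17408 1024 = true := by decide +kernel
theorem inv5_18 : allRange (table.chkInv 5) 64 18432 1024 = true := by decide +kernel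
theorem inv5_19 : allRange (table.chkInv 5) 64 19456 1024 = true := by decide +kernel
theorem inv5_20 : allRange (table.chkInv 5) 64 20480 1024 = true := by decide +kernel
theorem inv5_21 : allRange (table.chkInv 5) 64 21504 1024 = true := by decide +kernel
theorem inv5_22 : allRange (table.chkInv 5) 64 22528 1024 = true := by decide +kernel
theorem inv5_23 : allRange (table.chkInv 5) 64 23552 1024 = true := by decide +kernel
theorem inv5_24 : allRange (table.chkInv 5) 64 24576 1024 = true := by decide +kernel
theorem inv5_25 : allRange (table.chkInv 5) 64 25600 1024 = true := by decide +kernel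
theorem inv5_26 : allRange (table.chkInv 5) 64 26624 1024 = true := by decide +kernel
theorem inv5_27 : allRange (table.chkInv 5) 64 27648 1024 = true := by decide +kernel
theorem inv5_28 : allRange (table.chkInv 5) 64 28672 1024 = true := by decide +kernel
theorem inv5_29 : allRange (table.chkInv 5) 64 29696 1024 = true := by decide +kernel
theorem inv5_30 : allRange (table.chkInv 5) 64 30720 951 = true := by decide +kernel

theorem inv5 : Big.Below (table.chkInv 5) 31671 :=
  Big.below_step inv5_30 rfl (Big.below_step inv5_29 rfl (Big.below_step inv5_28 rfl (Big.below_step inv5_27 rfl (Big.below_step inv5_26 rfl (Big.below_step inv5_25 rfl (Big.below_step inv5_24 rfl (Big.below_step inv5_23 rfl (Big.below_step inv5_22 rfl (Big.below_step inv5_21 rfl (Big.below_step inv5_20 rfl (Big.below_step inv5_19 rfl (Big.below_step inv5_18 rfl (Big.below_step inv5_17 rfl (Big.below_step inv5_16 rfl (Big.below_step inv5_15 rfl (Big.below_step inv5_14 rfl (Big.below_step inv5_13 rfl (Big.below_step inv5_12 rfl (Big.below_step inv5_11 rfl (Big.below_step inv5_10 rfl (Big.below_step inv5_9 rfl (Big.below_step inv5_8 rfl (Big.below_step inv5_7 rfl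 (Big.below_step inv5_6 rfl (Big.below_step inv5_5 rfl (Big.below_step inv5_4 rfl (Big.below_step inv5_3 rfl (Big.below_step inv5_2 rfl (Big.below_step inv5_1 rfl (Big.below_step inv5_0 rfl (Big.below_zero _)))))))))))))))))))))))))))))))

theorem inv6_0 : allRange (table.chkInv 6) 64 0 1024 = true := by decide +kernel
theorem inv6_1 : allRange (table.chkInv 6) 64 1024 1024 = true := by decide +kernel
theorem inv6_2 : allRange (table.chkInv 6) 64 2048 1024 = true := by decide +kernel
theorem inv6_3 : allRange (table.chkInv 6) 64 3072 1024 = true := by decide +kernel
theorem inv6_4 : allRange (table.chkInv 6) 64 4096 1024 = true := by decide +kernel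
theorem inv6_5 : allRange (table.chkInv 6) 64 5120 1024 = true := by decide +kernel
theorem inv6_6 : allRange (table.chkInv 6) 64 6144 1024 = true := by decide +kernel
theorem inv6_7 : allRange (table.chkInv 6) 64 7168 1024 = true := by decide +kernel
theorem inv6_8 : allRange (table.chkInv 6) 64 8192 1024 = true := by decide +kernel
theorem inv6_9 : allRange (table.chkInv 6) 64 9216 1024 = true := by decide +kernel
theorem inv6_10 : allRange (table.chkInv 6) 64 10240 1024 = true := by decide +kernel
theorem inv6_11 : allRange (table.chkInv 6) 64 11264 1024 = true := by decide +kernel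
theorem inv6_12 : allRange (table.chkInv 6) 64 12288 1024 = true := by decide +kernel
theorem inv6_13 : allRange (table.chkInv 6) 64 13312 1024 = true := by decide +kernel
theorem inv6_14 : allRange (table.chkInv 6) 64 14336 1024 = true := by decide +kernel
theorem inv6_15 : allRange (table.chkInv 6) 64 15360 1024 = true := by decide +kernel
theorem inv6_16 : allRange (table.chkInv 6) 64 16384 1024 = true := by decide +kernel
theorem inv6_17 : allRange (table.chkInv 6) 64 17408 1024 = true := by decide +kernel
theorem inv6_18 : allRange (table.chkInv 6) 64 18432 1024 = true := by decide +kernel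
theorem inv6_19 : allRange (table.chkInv 6) 64 19456 1024 = true := by decide +kernel
theorem inv6_20 : allRange (table.chkInv 6) 64 20480 1024 = true := by decide +kernel
theorem inv6_21 : allRange (table.chkInv 6) 64 21504 1024 = true := by decide +kernel
theorem inv6_22 : allRange (table.chkInv 6) 64 22528 1024 = true := by decide +kernel
theorem inv6_23 : allRange (table.chkInv 6) 64 23552 1024 = true := by decide +kernel
theorem inv6_24 : allRange (table.chkInv 6) 64 24576 1024 = true := by decide +kernel
theorem inv6_25 : allRange (table.chkInv 6) 64 25600 1024 = true := by decide +kernel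
theorem inv6_26 : allRange (table.chkInv 6) 64 26624 1024 = true := by decide +kernel
theorem inv6_27 : allRange (table.chkInv 6) 64 27648 1024 = true := by decide +kernel
theorem inv6_28 : allRange (table.chkInv 6) 64 28672 1024 = true := by decide +kernel
theorem inv6_29 : allRange (table.chkInv 6) 64 29696 1024 = true := by decide +kernel
theorem inv6_30 : allRange (table.chkInv 6) 64 30720 951 = true := by decide +kernel

theorem inv6 : Big.Below (table.chkInv 6) 31671 :=
  Big.below_step inv6_30 rfl (Big.below_step inv6_29 rfl (Big.below_step inv6_28 rfl (Big.below_step inv6_27 rfl (Big.below_step inv6_26 rfl (Big.below_step inv6_25 rfl (Big.below_step inv6_24 rfl (Big.below_step inv6_23 rfl (Big.below_step inv6_22 rfl (Big.below_step inv6_21 rfl (Big.below_step inv6_20 rfl (Big.below_step inv6_19 rfl (Big.below_step inv6_18 rfl (Big.below_step inv6_17 rfl (Big.below_step inv6_16 rfl (Big.below_step inv6_15 rfl (Big.below_step inv6_14 rfl (Big.below_step inv6_13 rfl (Big.below_step inv6_12 rfl (Big.below_step inv6_11 rfl (Big.below_step inv6_10 rfl (Big.below_step inv6_9 rfl (Big.below_step inv6_8 rfl (Big.below_step inv6_7 rfl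 (Big.below_step inv6_6 rfl (Big.below_step inv6_5 rfl (Big.below_step inv6_4 rfl (Big.below_step inv6_3 rfl (Big.below_step inv6_2 rfl (Big.below_step inv6_1 rfl (Big.below_step inv6_0 rfl (Big.below_zero _)))))))))))))))))))))))))))))))

theorem inv7_0 : allRange (table.chkInv 7) 64 0 1024 = true := by decide +kernel
theorem inv7_1 : allRange (table.chkInv 7) 64 1024 1024 = true := by decide +kernel
theorem inv7_2 : allRange (table.chkInv 7) 64 2048 1024 = true := by decide +kernel
theorem inv7_3 : allRange (table.chkInv 7) 64 3072 1024 = true := by decide +kernel
theorem inv7_4 : allRange (table.chkInv 7) 64 4096 1024 = true := by decide +kernel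
theorem inv7_5 : allRange (table.chkInv 7) 64 5120 1024 = true := by decide +kernel
theorem inv7_6 : allRange (table.chkInv 7) 64 6144 1024 = true := by decide +kernel
theorem inv7_7 : allRange (table.chkInv 7) 64 7168 1024 = true := by decide +kernel
theorem inv7_8 : allRange (table.chkInv 7) 64 8192 1024 = true := by decide +kernel
theorem inv7_9 : allRange (table.chkInv 7) 64 9216 1024 = true := by decide +kernel
theorem inv7_10 : allRange (table.chkInv 7) 64 10240 1024 = true := by decide +kernel
theorem inv7_11 : allRange (table.chkInv 7) 64 11264 1024 = true := by decide +kernel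
theorem inv7_12 : allRange (table.chkInv 7) 64 12288 1024 = true := by decide +kernel
theorem inv7_13 : allRange (table.chkInv 7) 64 13312 1024 = true := by decide +kernel
theorem inv7_14 : allRange (table.chkInv 7) 64 14336 1024 = true := by decide +kernel
theorem inv7_15 : allRange (table.chkInv 7) 64 15360 1024 = true := by decide +kernel
theorem inv7_16 : allRange (table.chkInv 7) 64 16384 1024 = true := by decide +kernel
theorem inv7_17 : allRange (table.chkInv 7) 64 17408 1024 = true := by decide +kernel
theorem inv7_18 : allRange (table.chkInv 7) 64 18432 1024 = true := by decide +kernel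
theorem inv7_19 : allRange (table.chkInv 7) 64 19456 1024 = true := by decide +kernel
theorem inv7_20 : allRange (table.chkInv 7) 64 20480 1024 = true := by decide +kernel
theorem inv7_21 : allRange (table.chkInv 7) 64 21504 1024 = true := by decide +kernel
theorem inv7_22 : allRange (table.chkInv 7) 64 22528 1024 = true := by decide +kernel
theorem inv7_23 : allRange (table.chkInv 7) 64 23552 1024 = true := by decide +kernel
theorem inv7_24 : allRange (table.chkInv 7) 64 24576 1024 = true := by decide +kernel
theorem inv7_25 : allRange (table.chkInv 7) 64 25600 1024 = true := by decide +kernel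
theorem inv7_26 : allRange (table.chkInv 7) 64 26624 1024 = true := by decide +kernel
theorem inv7_27 : allRange (table.chkInv 7) 64 27648 1024 = true := by decide +kernel
theorem inv7_28 : allRange (table.chkInv 7) 64 28672 1024 = true := by decide +kernel
theorem inv7_29 : allRange (table.chkInv 7) 64 29696 1024 = true := by decide +kernel
theorem inv7_30 : allRange (table.chkInv 7) 64 30720 951 = true := by decide +kernel

theorem inv7 : Big.Below (table.chkInv 7) 31671 :=
  Big.below_step inv7_30 rfl (Big.below_step inv7_29 rfl (Big.below_step inv7_28 rfl (Big.below_step inv7_27 rfl (Big.below_step inv7_26 rfl (Big.below_step inv7_25 rfl (Big.below_step inv7_24 rfl (Big.below_step inv7_23 rfl (Big.below_step inv7_22 rfl (Big.below_step inv7_21 rfl (Big.below_step inv7_20 rfl (Big.below_step inv7_19 rfl (Big.below_step inv7_18 rfl (Big.below_step inv7_17 rfl (Big.below_step inv7_16 rfl (Big.below_step inv7_15 rfl (Big.below_step inv7_14 rfl (Big.below_step inv7_13 rfl (Big.below_step inv7_12 rfl (Big.below_step inv7_11 rfl (Big.below_step inv7_10 rfl (Big.below_step inv7_9 rfl (Big.below_step inv7_8 rfl (Big.below_step inv7_7 rfl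 (Big.below_step inv7_6 rfl (Big.below_step inv7_5 rfl (Big.below_step inv7_4 rfl (Big.below_step inv7_3 rfl (Big.below_step inv7_2 rfl (Big.below_step inv7_1 rfl (Big.below_step inv7_0 rfl (Big.below_zero _)))))))))))))))))))))))))))))))

theorem inv8_0 : allRange (table.chkInv 8) 64 0 1024 = true := by decide +kernel
theorem inv8_1 : allRange (table.chkInv 8) 64 1024 1024 = true := by decide +kernel
theorem inv8_2 : allRange (table.chkInv 8) 64 2048 1024 = true := by decide +kernel
theorem inv8_3 : allRange (table.chkInv 8) 64 3072 1024 = true := by decide +kernel
theorem inv8_4 : allRange (table.chkInv 8) 64 4096 1024 = true := by decide +kernel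
theorem inv8_5 : allRange (table.chkInv 8) 64 5120 1024 = true := by decide +kernel
theorem inv8_6 : allRange (table.chkInv 8) 64 6144 1024 = true := by decide +kernel
theorem inv8_7 : allRange (table.chkInv 8) 64 7168 1024 = true := by decide +kernel
theorem inv8_8 : allRange (table.chkInv 8) 64 8192 1024 = true := by decide +kernel
theorem inv8_9 : allRange (table.chkInv 8) 64 9216 1024 = true := by decide +kernel
theorem inv8_10 : allRange (table.chkInv 8) 64 10240 1024 = true := by decide +kernel
theorem inv8_11 : allRange (table.chkInv 8) 64 11264 1024 = true := by decide +kernel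
theorem inv8_12 : allRange (table.chkInv 8) 64 12288 1024 = true := by decide +kernel
theorem inv8_13 : allRange (table.chkInv 8) 64 13312 1024 = true := by decide +kernel
theorem inv8_14 : allRange (table.chkInv 8) 64 14336 1024 = true := by decide +kernel
theorem inv8_15 : allRange (table.chkInv 8) 64 15360 1024 = true := by decide +kernel
theorem inv8_16 : allRange (table.chkInv 8) 64 16384 1024 = true := by decide +kernel
theorem inv8_17 : allRange (table.chkInv 8) 64 17408 1024 = true := by decide +kernel
theorem inv8_18 : allRange (table.chkInv 8) 64 18432 1024 = true := by decide +kernel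
theorem inv8_19 : allRange (table.chkInv 8) 64 19456 1024 = true := by decide +kernel
theorem inv8_20 : allRange (table.chkInv 8) 64 20480 1024 = true := by decide +kernel
theorem inv8_21 : allRange (table.chkInv 8) 64 21504 1024 = true := by decide +kernel
theorem inv8_22 : allRange (table.chkInv 8) 64 22528 1024 = true := by decide +kernel
theorem inv8_23 : allRange (table.chkInv 8) 64 23552 1024 = true := by decide +kernel
theorem inv8_24 : allRange (table.chkInv 8) 64 24576 1024 = true := by decide +kernel
theorem inv8_25 : allRange (table.chkInv 8) 64 25600 1024 = true := by decide +kernel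
theorem inv8_26 : allRange (table.chkInv 8) 64 26624 1024 = true := by decide +kernel
theorem inv8_27 : allRange (table.chkInv 8) 64 27648 1024 = true := by decide +kernel
theorem inv8_28 : allRange (table.chkInv 8) 64 28672 1024 = true := by decide +kernel
theorem inv8_29 : allRange (table.chkInv 8) 64 29696 1024 = true := by decide +kernel
theorem inv8_30 : allRange (table.chkInv 8) 64 30720 951 = true := by decide +kernel

theorem inv8 : Big.Below (table.chkInv 8) 31671 :=
  Big.below_step inv8_30 rfl (Big.below_step inv8_29 rfl (Big.below_step inv8_28 rfl (Big.below_step inv8_27 rfl (Big.below_step inv8_26 rfl (Big.below_step inv8_25 rfl (Big.below_step inv8_24 rfl (Big.below_step inv8_23 rfl (Big.below_step inv8_22 rfl (Big.below_step inv8_21 rfl (Big.below_step inv8_20 rfl (Big.below_step inv8_19 rfl (Big.below_step inv8_18 rfl (Big.below_step inv8_17 rfl (Big.below_step inv8_16 rfl (Big.below_step inv8_15 rfl (Big.below_step inv8_14 rfl (Big.below_step inv8_13 rfl (Big.below_step inv8_12 rfl (Big.below_step inv8_11 rfl (Big.below_step inv8_10 rfl (Big.below_step inv8_9 rfl (Big.below_step inv8_8 rfl (Big.below_step inv8_7 rfl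 (Big.below_step inv8_6 rfl (Big.below_step inv8_5 rfl (Big.below_step inv8_4 rfl (Big.below_step inv8_3 rfl (Big.below_step inv8_2 rfl (Big.below_step inv8_1 rfl (Big.below_step inv8_0 rfl (Big.below_zero _)))))))))))))))))))))))))))))))

theorem inv9_0 : allRange (table.chkInv 9) 64 0 1024 = true := by decide +kernel
theorem inv9_1 : allRange (table.chkInv 9) 64 1024 1024 = true := by decide +kernel
theorem inv9_2 : allRange (table.chkInv 9) 64 2048 1024 = true := by decide +kernel
theorem inv9_3 : allRange (table.chkInv 9) 64 3072 1024 = true := by decide +kernel
theorem inv9_4 : allRange (table.chkInv 9) 64 4096 1024 = true := by decide +kernel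
theorem inv9_5 : allRange (table.chkInv 9) 64 5120 1024 = true := by decide +kernel
theorem inv9_6 : allRange (table.chkInv 9) 64 6144 1024 = true := by decide +kernel
theorem inv9_7 : allRange (table.chkInv 9) 64 7168 1024 = true := by decide +kernel
theorem inv9_8 : allRange (table.chkInv 9) 64 8192 1024 = true := by decide +kernel
theorem inv9_9 : allRange (table.chkInv 9) 64 9216 1024 = true := by decide +kernel
theorem inv9_10 : allRange (table.chkInv 9) 64 10240 1024 = true := by decide +kernel
theorem inv9_11 : allRange (table.chkInv 9) 64 11264 1024 = true := by decide +kernel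
theorem inv9_12 : allRange (table.chkInv 9) 64 12288 1024 = true := by decide +kernel
theorem inv9_13 : allRange (table.chkInv 9) 64 13312 1024 = true := by decide +kernel
theorem inv9_14 : allRange (table.chkInv 9) 64 14336 1024 = true := by decide +kernel
theorem inv9_15 : allRange (table.chkInv 9) 64 15360 1024 = true := by decide +kernel
theorem inv9_16 : allRange (table.chkInv 9) 64 16384 1024 = true := by decide +kernel
theorem inv9_17 : allRange (table.chkInv 9) 64 17408 1024 = true := by decide +kernel
theorem inv9_18 : allRange (table.chkInv 9) 64 18432 1024 = true := by decide +kernel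
theorem inv9_19 : allRange (table.chkInv 9) 64 19456 1024 = true := by decide +kernel
theorem inv9_20 : allRange (table.chkInv 9) 64 20480 1024 = true := by decide +kernel
theorem inv9_21 : allRange (table.chkInv 9) 64 21504 1024 = true := by decide +kernel
theorem inv9_22 : allRange (table.chkInv 9) 64 22528 1024 = true := by decide +kernel
theorem inv9_23 : allRange (table.chkInv 9) 64 23552 1024 = true := by decide +kernel
theorem inv9_24 : allRange (table.chkInv 9) 64 24576 1024 = true := by decide +kernel
theorem inv9_25 : allRange (table.chkInv 9) 64 25600 1024 = true := by decide +kernel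
theorem inv9_26 : allRange (table.chkInv 9) 64 26624 1024 = true := by decide +kernel
theorem inv9_27 : allRange (table.chkInv 9) 64 27648 1024 = true := by decide +kernel
theorem inv9_28 : allRange (table.chkInv 9) 64 28672 1024 = true := by decide +kernel
theorem inv9_29 : allRange (table.chkInv 9) 64 29696 1024 = true := by decide +kernel
theorem inv9_30 : allRange (table.chkInv 9) 64 30720 951 = true := by decide +kernel

theorem inv9 : Big.Below (table.chkInv 9) 31671 :=
  Big.below_step inv9_30 rfl (Big.below_step inv9_29 rfl (Big.below_step inv9_28 rfl (Big.below_step inv9_27 rfl (Big.below_step inv9_26 rfl (Big.below_step inv9_25 rfl (Big.below_step inv9_24 rfl (Big.below_step inv9_23 rfl (Big.below_step inv9_22 rfl (Big.below_step inv9_21 rfl (Big.below_step inv9_20 rfl (Big.below_step inv9_19 rfl (Big.below_step inv9_18 rfl (Big.below_step inv9_17 rfl (Big.below_step inv9_16 rfl (Big.below_step inv9_15 rfl (Big.below_step inv9_14 rfl (Big.below_step inv9_13 rfl (Big.below_step inv9_12 rfl (Big.below_step inv9_11 rfl (Big.below_step inv9_10 rfl (Big.below_step inv9_9 rfl (Big.below_step inv9_8 rfl (Big.below_step inv9_7 rfl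 (Big.below_step inv9_6 rfl (Big.below_step inv9_5 rfl (Big.below_step inv9_4 rfl (Big.below_step inv9_3 rfl (Big.below_step inv9_2 rfl (Big.below_step inv9_1 rfl (Big.below_step inv9_0 rfl (Big.below_zero _)))))))))))))))))))))))))))))))


end Cfsg.Agent.Enum.Fi23T
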