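import Cfsg.Agent.Lib.Enum.Fi23Rels

/-! Generated: relators act trivially. -/

set_option autoImplicit false
set_option maxRecDepth 10000
set_option Elab.async false

namespace Cfsg.Agent.Enum.Fi23T

open Cfsg.Agent.Enum

theorem words0_16 : allRange (table.chkFix rels0) 64 16384 1024 = true := by decide +kernel
theorem words0_17 : allRange (table.chkFix rels0) 64 17408 1024 = true := by decide +kernel
theorem words0_18 : allRange (table.chkFix rels0) 64 18432 1024 = true := by decide +kernel
theorem words0_19 : allRange (table.chkFix rels0) 64 19456 1024 = true := by decide +kernel
theorem words0_20 : allRange (table.chkFix rels0) 64 20480 1024 = true := by decide +kernel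
theorem words0_21 : allRange (table.chkFix rels0) 64 21504 1024 = true := by decide +kernel
theorem words0_22 : allRange (table.chkFix rels0) 64 22528 1024 = true := by decide +kernel
theorem words0_23 : allRange (table.chkFix rels0) 64 23552 1024 = true := by decide +kernel

end Cfsg.Agent.Enum.Fi23T
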