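import Cfsg.Agent.Lib.Enum.Fi23Rels

/-! Generated: relators act trivially. -/

set_option autoImplicit false
set_option maxRecDepth 10000
set_option Elab.async false

namespace Cfsg.Agent.Enum.Fi23T

open Cfsg.Agent.Enum

theorem words0_24 : allRange (table.chkFix rels0) 64 24576 1024 = true := by decide +kernel
theorem words0_25 : allRange (table.chkFix rels0) 64 25600 1024 = true := by decide +kernel
theorem words0_26 : allRange (table.chkFix rels0) 64 26624 1024 = true := by decide +kernel
theorem words0_27 : allRange (table.chkFix rels0) 64 27648 1024 = true := by decide +kernel
theorem words0_28 : allRange (table.chkFix rels0) 64 28672 1024 = true := by decide +kernel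
theorem words0_29 : allRange (table.chkFix rels0) 64 29696 1024 = true := by decide +kernel
theorem words0_30 : allRange (table.chkFix rels0) 64 30720 951 = true := by decide +kernel

end Cfsg.Agent.Enum.Fi23T
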