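import Cfsg.Agent.Lib.Enum.Fi23Rels

/-! Generated: relators act trivially. -/

set_option autoImplicit false
set_option maxRecDepth 10000
set_option Elab.async false

namespace Cfsg.Agent.Enum.Fi23T

open Cfsg.Agent.Enum

theorem words1_0 : allRange (table.chkFix rels1) 64 0 1024 = true := by decide +kernel
theorem words1_1 : allRange (table.chkFix rels1) 64 1024 1024 = true := by decide +kernel
theorem words1_2 : allRange (table.chkFix rels1) 64 2048 1024 = true := by decide +kernel
theorem words1_3 : allRange (table.chkFix rels1) 64 3072 1024 = true := by decide +kernel
theorem words1_4 : allRange (table.chkFix rels1) 64 4096 1024 = true := by decide +kernel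
theorem words1_5 : allRange (table.chkFix rels1) 64 5120 1024 = true := by decide +kernel
theorem words1_6 : allRange (table.chkFix rels1) 64 6144 1024 = true := by decide +kernel
theorem words1_7 : allRange (table.chkFix rels1) 64 7168 1024 = true := by decide +kernel
theorem words1_8 : allRange (table.chkFix rels1) 64 8192 1024 = true := by decide +kernel
theorem words1_9 : allRange (table.chkFix rels1) 64 9216 1024 = true := by decide +kernel
theorem words1_10 : allRange (table.chkFix rels1) 64 10240 1024 = true := by decide +kernel

end Cfsg.Agent.Enum.Fi23T
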