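import Cfsg.Agent.Lib.Enum.Fi23Rels

/-! Generated: relators act trivially. -/

set_option autoImplicit false
set_option maxRecDepth 10000
set_option Elab.async false

namespace Cfsg.Agent.Enum.Fi23T

open Cfsg.Agent.Enum

theorem words1_11 : allRange (table.chkFix rels1) 64 11264 1024 = true := by decide +kernel
theorem words1_12 : allRange (table.chkFix rels1) 64 12288 1024 = true := by decide +kernel
theorem words1_13 : allRange (table.chkFix rels1) 64 13312 1024 = true := by decide +kernel
theorem words1_14 : allRange (table.chkFix rels1) 64 14336 1024 = true := by decide +kernel
theorem words1_15 : allRange (table.chkFix rels1) 64 15360 1024 = true := by decide +kernel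
theorem words1_16 : allRange (table.chkFix rels1) 64 16384 1024 = true := by decide +kernel
theorem words1_17 : allRange (table.chkFix rels1) 64 17408 1024 = true := by decide +kernel
theorem words1_18 : allRange (table.chkFix rels1) 64 18432 1024 = true := by decide +kernel
theorem words1_19 : allRange (table.chkFix rels1) 64 19456 1024 = true := by decide +kernel
theorem words1_20 : allRange (table.chkFix rels1) 64 20480 1024 = true := by decide +kernel
theorem words1_21 : allRange (table.chkFix rels1) 64 21504 1024 = true := by decide +kernel

end Cfsg.Agent.Enum.Fi23T
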