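import Cfsg.Agent.Lib.Enum.Fi23Rels

/-! Generated: relators act trivially. -/

set_option autoImplicit false
set_option maxRecDepth 10000
set_option Elab.async false

namespace Cfsg.Agent.Enum.Fi23T

open Cfsg.Agent.Enum

theorem words2_0 : allRange (table.chkFix rels2) 64 0 1024 = true := by decide +kernel
theorem words2_1 : allRange (table.chkFix rels2) 64 1024 1024 = true := by decide +kernel
theorem words2_2 : allRange (table.chkFix rels2) 64 2048 1024 = true := by decide +kernel
theorem words2_3 : allRange (table.chkFix rels2) 64 3072 1024 = true := by decide +kernel
theorem words2_4 : allRange (table.chkFix rels2) 64 4096 1024 = true := by decide +kernel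
theorem words2_5 : allRange (table.chkFix rels2) 64 5120 1024 = true := by decide +kernel
theorem words2_6 : allRange (table.chkFix rels2) 64 6144 1024 = true := by decide +kernel
theorem words2_7 : allRange (table.chkFix rels2) 64 7168 1024 = true := by decide +kernel
theorem words2_8 : allRange (table.chkFix rels2) 64 8192 1024 = true := by decide +kernel
theorem words2_9 : allRange (table.chkFix rels2) 64 9216 1024 = true := by decide +kernel
theorem words2_10 : allRange (table.chkFix rels2) 64 10240 1024 = true := by decide +kernel
theorem words2_11 : allRange (table.chkFix rels2) 64 11264 1024 = true := by decide +kernel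
theorem words2_12 : allRange (table.chkFix rels2) 64 12288 1024 = true := by decide +kernel
theorem words2_13 : allRange (table.chkFix rels2) 64 13312 1024 = true := by decide +kernel
theorem words2_14 : allRange (table.chkFix rels2) 64 14336 1024 = true := by decide +kernel
theorem words2_15 : allRange (table.chkFix rels2) 64 15360 1024 = true := by decide +kernel

end Cfsg.Agent.Enum.Fi23T
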