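import Cfsg.Agent.Lib.Enum.Fi23Words00
import Cfsg.Agent.Lib.Enum.Fi23Words01
import Cfsg.Agent.Lib.Enum.Fi23Words02
import Cfsg.Agent.Lib.Enum.Fi23Words03
import Cfsg.Agent.Lib.Enum.Fi23Words10
import Cfsg.Agent.Lib.Enum.Fi23Words11
import Cfsg.Agent.Lib.Enum.Fi23Words12
import Cfsg.Agent.Lib.Enum.Fi23Words20
import Cfsg.Agent.Lib.Enum.Fi23Words21

/-! Generated: relators act trivially. -/

set_option autoImplicit false
set_option maxRecDepth 10000

namespace Cfsg.Agent.Enum.Fi23T

open Cfsg.Agent.Enum

theorem words0 : Big.Below (table.chkFix rels0) 31671 :=
  Big.below_step words0_30 rfl (Big.below_step words0_29 rfl (Big.below_step words0_28 rfl (Big.below_step words0_27 rfl (Big.below_step words0_26 rfl (Big.below_step words0_25 rfl (Big.below_step words0_24 rfl (Big.below_step words0_23 rfl (Big.below_step words0_22 rfl (Big.below_step words0_21 rfl (Big.below_step words0_20 rfl (Big.below_step words0_19 rfl (Big.below_step words0_18 rfl (Big.below_step words0_17 rfl (Big.below_step words0_16 rfl (Big.below_step words0_15 rfl (Big.below_step words0_14 rfl (Big.below_step words0_13 rfl (Big.below_step words0_12 rfl (Big.below_step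 words0_11 rfl (Big.below_step words0_10 rfl (Big.below_step words0_9 rfl (Big.below_step words0_8 rfl (Big.below_step words0_7 rfl (Big.below_step words0_6 rfl (Big.below_step words0_5 rfl (Big.below_step words0_4 rfl (Big.below_step words0_3 rfl (Big.below_step words0_2 rfl (Big.below_step words0_1 rfl (Big.below_step words0_0 rfl (Big.below_zero _)))))))))))))))))))))))))))))))

theorem words1 : Big.Below (table.chkFix rels1) 31671 :=
  Big.below_step words1_30 rfl (Big.below_step words1_29 rfl (Big.below_step words1_28 rfl (Big.below_step words1_27 rfl (Big.below_step words1_26 rfl (Big.below_step words1_25 rfl (Big.below_step words1_24 rfl (Big.below_step words1_23 rfl (Big.below_step words1_22 rfl (Big.below_step words1_21 rfl (Big.below_step words1_20 rfl (Big.below_step words1_19 rfl (Big.below_step words1_18 rfl (Big.below_step words1_17 rfl (Big.below_step words1_16 rfl (Big.below_step words1_15 rfl (Big.below_step words1_14 rfl (Big.below_step words1_13 rfl (Big.below_step words1_12 rfl (Big.below_step words1_11 rfl (Big.below_step words1_10 rfl (Big.below_step words1_9 rfl (Big.below_step words1_8 rfl (Big.below_step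 words1_7 rfl (Big.below_step words1_6 rfl (Big.below_step words1_5 rfl (Big.below_step words1_4 rfl (Big.below_step words1_3 rfl (Big.below_step words1_2 rfl (Big.below_step words1_1 rfl (Big.below_step words1_0 rfl (Big.below_zero _)))))))))))))))))))))))))))))))

theorem words2 : Big.Below (table.chkFix rels2) 31671 :=
  Big.below_step words2_30 rfl (Big.below_step words2_29 rfl (Big.below_step words2_28 rfl (Big.below_step words2_27 rfl (Big.below_step words2_26 rfl (Big.below_step words2_25 rfl (Big.below_step words2_24 rfl (Big.below_step words2_23 rfl (Big.below_step words2_22 rfl (Big.below_step words2_21 rfl (Big.below_step words2_20 rfl (Big.below_step words2_19 rfl (Big.below_step words2_18 rfl (Big.below_step words2_17 rfl (Big.below_step words2_16 rfl (Big.below_step words2_15 rfl (Big.below_step words2_14 rfl (Big.below_step words2_13 rfl (Big.below_step words2_12 rfl (Big.below_step words2_11 rfl (Big.below_step words2_10 rfl (Big.below_step words2_9 rfl (Big.below_step words2_8 rfl (Big.below_step words2_7 rfl (Big.below_step words2_6 rfl (Big.below_step words2_5 rfl (Big.below_step words2_4 rfl (Big.below_step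 words2_3 rfl (Big.below_step words2_2 rfl (Big.below_step words2_1 rfl (Big.below_step words2_0 rfl (Big.below_zero _)))))))))))))))))))))))))))))))


end Cfsg.Agent.Enum.Fi23T
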