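import Cfsg.Agent.Lib.Enum.Bound
import Cfsg.Agent.Lib.Enum.FiGQData

/-! Generated: the list of cosets is closed. -/

set_option autoImplicit false
set_option maxRecDepth 10000

namespace Cfsg.Agent.Enum.FiGQ

open Cfsg.Agent.Enum

def rep0 : ℕ := 0x0

def cover : CoverData where
  N := 1
  ngen := 10
  nf := 746
  reps := (.leaf rep0)

def it0 : List ℕ := [0x5b00000005d20000005d00000005ce0000005cc0000005ca0000005c80000005c60000005bc0000005c4]
theorem chkIt0 : cover.chkItems data 0 it0 = true := by decide +kernel

theorem edges0 : EdgesUpto cover data 0 := edgesUpto_zero _ _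
theorem edges1 : EdgesUpto cover data 1 := edgesUpto_step (k := 0) it0 chkIt0 (by decide +kernel) edges0

end Cfsg.Agent.Enum.FiGQ
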