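import Cfsg.Agent.Lib.Enum.FiGQSteps0
import Cfsg.Agent.Lib.Enum.FiGQItems

/-! Generated: upper bound for an index. -/

set_option autoImplicit false
set_option maxRecDepth 10000

namespace Cfsg.Agent.Enum.FiGQ

open Cfsg.Agent.Enum

theorem rot_ok : (data.rels.zip provenance).all (fun wp => Pres.RotOK baseRels wp.1 wp.2) = true := by
  decide +kernel

theorem upto_step {G : Type*} [Group G] {g : ℕ → G} (h : Holding g 10 baseRels) {k k' : ℕ}
    (l : List ℕ) (hc : data.chkSteps k l = true) (hk : k' = k + l.length)
    (hu : UptoFor g data k) : UptoFor g data k' :=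
  uptoFor_step h (by decide) rot_ok rfl l hc hk hu

variable {G : Type*} [Group G] {g : ℕ → G} (h : Holding g 10 baseRels)
include h

theorem upto0 : UptoFor g data 0 := uptoFor_zero _ _
theorem upto1 : UptoFor g data 256 := upto_step h (k := 0) st0 chk0 (by decide +kernel) (upto0 h)
theorem upto2 : UptoFor g data 512 := upto_step h (k := 256) st1 chk1 (by decide +kernel) (upto1 h)
theorem upto3 : UptoFor g data 746 := upto_step h (k := 512) st2 chk2 (by decide +kernel) (upto2 h)

theorem covers (hgen : Subgroup.closure (Set.range g) = ⊤) :
    Covers g (wordClosure g data.subs) cover data where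
  pos := by decide
  invol_g := h.invol
  junk := h.junk
  gen := hgen
  facts := upto3 h
  edges := edges1
  rep0 := by decide +kernel

end Cfsg.Agent.Enum.FiGQ
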