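import Cfsg.Agent.Lib.Enum.Fi23Bound
import Cfsg.Agent.Lib.Enum.Fi23Inv0
import Cfsg.Agent.Lib.Enum.Fi23Inv1
import Cfsg.Agent.Lib.Enum.Fi23Words
import Cfsg.Agent.Lib.Enum.Fi23Levels
import Cfsg.Agent.Lib.Enum.FiGQCover
import Cfsg.Agent.Lib.Enum.BigBase

/-!
# The presented Fischer group Fi23 is simple of order 4089470473293004800
-/

set_option autoImplicit false
set_option maxRecDepth 10000

namespace Cfsg.Agent.Enum.Fi23M

open Cfsg.Agent.Enum Fi23T

theorem invol : table.Invol := by
  refine Big.Perms.invol_of_below (fun x hx => ?_) img_junk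
  have hx' : x < 10 := hx
  interval_cases x
  exacts [inv0, inv1, inv2, inv3, inv4, inv5, inv6, inv7, inv8, inv9]

theorem rels_fix : ∀ w ∈ presFi23.relWords, ∀ i, i < table.N → table.imgWord w i = i := by
  refine Big.Perms.fix_of_half invol (half := rels0 ++ rels1 ++ rels2) (fun i hi => ?_) rels_cover
  simp only [Big.Perms.chkFix, List.all_append, Bool.and_eq_true]
  exact ⟨⟨words0 i hi, words1 i hi⟩, words2 i hi⟩

/-- The representation on 31671 points. -/
noncomputable def rho : presFi23.Grp →* Equiv.Perm (Fin table.N) :=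
  (Big.exists_hom presFi23 table invol (fun x hx i => img_junk x hx i) rels_fix).choose

theorem rho_g (x : ℕ) : rho (presFi23.g x) = table.permOf invol x :=
  (Big.exists_hom presFi23 table invol (fun x hx i => img_junk x hx i) rels_fix).choose_spec x

theorem card_and_inj : Nat.card presFi23.Grp = 4089470473293004800 ∧ Function.Injective rho :=
  Big.card_eq_and_injective invol rho rho_g levels_chain levels_ok levels_prod card_grp_le

theorem card_grp : Nat.card presFi23.Grp = 4089470473293004800 := card_and_inj.1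

/-- The point fixed by the subgroup without the generator `j`. -/
def zero : Fin table.N := ⟨0, by show 0 < 31671; decide⟩

/-- The subgroup without the generator `j`. -/
noncomputable abbrev sub : Subgroup presFi23.Grp := gensClosure presFi23.g [0, 1, 2, 3, 4, 5, 6, 8, 9]

theorem rho_word (w : List ℕ) (i : Fin table.N) : (rho ((w.map presFi23.g).reverse.prod) i : ℕ) = table.imgWord w i := by
  rw [Big.Perms.map_word invol rho rho_g]

theorem rho_gen (x : ℕ) (i : Fin table.N) : (rho (presFi23.g x) i : ℕ) = table.img x i := by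
  rw [rho_g]; rfl

theorem lab_gen : ∀ x ∈ ([0, 1, 2, 3, 4, 5, 6, 8, 9] : List ℕ), ∀ i : Fin table.N, lab (rho (presFi23.g x) i : ℕ) = lab i := by
  intro x hx i
  have h := lab_ok i i.2
  simp only [chkLab, List.all_eq_true] at h
  have := h [x] (by simp only [List.mem_cons, List.not_mem_nil, or_false] at hx ⊢; simpa using hx)
  rw [rho_gen]
  exact Table.beq_eq this

theorem lab_sub : ∀ a ∈ sub, ∀ i : Fin table.N, lab (rho a i : ℕ) = lab i := by
  intro a ha
  induction ha using Subgroup.closure_induction with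
  | mem a ha =>
    obtain ⟨x, hx, rfl⟩ := ha
    exact lab_gen x hx
  | one => intro i; rw [map_one]; rfl
  | mul a b _ _ iha ihb => intro i; rw [map_mul, Equiv.Perm.mul_apply, iha, ihb]
  | inv a _ iha =>
    intro i
    have := iha (rho a⁻¹ i)
    rw [← Equiv.Perm.mul_apply, ← map_mul, mul_inv_cancel, map_one] at this
    exact this.symm

theorem gen_fix : ([0, 1, 2, 3, 4, 5, 6, 8, 9] : List ℕ).all (fun x => Nat.beq (table.img x 0) 0) = true := by
  decide +kernel

theorem sub_fix : ∀ a ∈ sub, rho a zero = zero := by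
  intro a ha
  induction ha using Subgroup.closure_induction with
  | mem a ha =>
    obtain ⟨x, hx, rfl⟩ := ha
    exact Fin.ext ((rho_gen x zero).trans (Table.beq_eq (List.all_eq_true.mp gen_fix x hx)))
  | one => rw [map_one]; rfl
  | mul a b _ _ iha ihb => rw [map_mul, Equiv.Perm.mul_apply, ihb, iha]
  | inv a _ iha => rw [map_inv, Equiv.Perm.inv_eq_iff_eq, iha]

theorem action : Big.IsCosetAction sub table.N rho zero where
  finite := coversX.finite_quotient
  fix := sub_fix
  le := coversX.index_le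
  trans := fun i => by
    have hinj : Function.Injective
        (fun j : Fin level0.n => rho ((level0_ok.reach invol rho rho_g j j.2).choose) zero) := by
      intro j k h
      have hj := (level0_ok.reach invol rho rho_g j j.2).choose_spec.2
      have hk := (level0_ok.reach invol rho rho_g k k.2).choose_spec.2
      exact Fin.ext (level0_ok.pts_inj j.2 k.2 (hj.symm.trans ((congrArg Fin.val h).trans hk)))
    obtain ⟨j, hj⟩ := (Finite.injective_iff_surjective (α := Fin table.N)).mp hinj i
    exact ⟨_, hj⟩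

theorem index_sub : sub.index = 31671 := action.index_eq

/-- The points with a given label. -/
def cls (k : ℕ) : Set (Fin table.N) := {i | lab i = k}

/-- The listed points of a level based in a suborbit. -/
theorem level_sub {l : Big.Level} (hl : l.OK table) (hfix : l.fixed = [0]) {k : ℕ}
    (hk : lab l.base = k) (j : ℕ) (hj : j < l.n) :
    ∃ a ∈ sub, (rho a ⟨l.base, hl.base_lt⟩ : ℕ) = l.pts j ∧ rho a ⟨l.base, hl.base_lt⟩ ∈ cls k := by
  obtain ⟨a, ha, he⟩ := hl.reach invol rho rho_g j hj
  have h0 : rho a zero = zero := ha 0 (by rw [hfix]; simp) zero.2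
  have ha' := (action.mem_iff a).mpr h0
  refine ⟨a, ha', he, ?_⟩
  show lab (rho a ⟨l.base, hl.base_lt⟩ : ℕ) = k
  rw [lab_sub a ha', hk]

theorem le_ncard {l : Big.Level} (hl : l.OK table) (hfix : l.fixed = [0]) {k : ℕ}
    (hk : lab l.base = k) : l.n ≤ (cls k).ncard := by
  classical
  choose a ha he hm using level_sub hl hfix hk
  let F : Fin l.n → cls k := fun j => ⟨_, hm j j.2⟩
  have hF : Function.Injective F := fun i j h => Fin.ext (hl.pts_inj i.2 j.2 (by
    rw [← he i i.2, ← he j j.2]
    exact congrArg (fun z : cls k => ((z : Fin table.N) : ℕ)) h))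
  have := Nat.card_le_card_of_injective F hF
  rwa [Nat.card_fin, Nat.card_coe_set_eq] at this

theorem labA : lab level1.base = 1 := Table.beq_eq (by decide +kernel)
theorem labB : lab levelB.base = 2 := Table.beq_eq (by decide +kernel)
theorem lab0 : lab 0 = 0 := Table.beq_eq (by decide +kernel)

theorem cls_spec : (cls 1).ncard = 3510 ∧ (cls 2).ncard = 28160 ∧
    ∀ i, i = zero ∨ i ∈ cls 1 ∨ i ∈ cls 2 := by
  have h1 : 3510 ≤ (cls 1).ncard := le_ncard level1_ok rfl labA
  have h2 : 28160 ≤ (cls 2).ncard := le_ncard levelB_ok rfl labB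
  have hd : Disjoint (cls 1) (cls 2) := Set.disjoint_left.mpr fun i (a : lab i = 1) (b : lab i = 2) => by
    rw [a] at b; exact absurd b (by decide)
  have hz : zero ∉ cls 1 ∪ cls 2 := by
    rintro (h | h) <;> · have h' : lab 0 = _ := h; rw [lab0] at h'; exact absurd h' (by decide)
  have hu : (insert zero (cls 1 ∪ cls 2)).ncard = 1 + ((cls 1).ncard + (cls 2).ncard) := by
    rw [Set.ncard_insert_of_notMem hz, Set.ncard_union_eq hd, Nat.add_comm]
  have hle : (insert zero (cls 1 ∪ cls 2)).ncard ≤ 31671 :=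
    (Set.ncard_le_card _).trans (Nat.card_fin _).le
  refine ⟨by omega, by omega, fun i => ?_⟩
  have htop : insert zero (cls 1 ∪ cls 2) = Set.univ := by
    refine Set.eq_of_subset_of_ncard_le (Set.subset_univ _) ?_
    rw [Set.ncard_univ, Nat.card_fin]
    show 31671 ≤ _
    omega
  have : i ∈ insert zero (cls 1 ∪ cls 2) := htop ▸ Set.mem_univ i
  simpa using this

/-- A suborbit is an orbit of the subgroup. -/
theorem cls_orbit {l : Big.Level} (hl : l.OK table) (hfix : l.fixed = [0]) {k : ℕ}
    (hk : lab l.base = k) (hn : (cls k).ncard = l.n) :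
    ∀ i ∈ cls k, ∀ j ∈ cls k, ∃ h ∈ sub, rho h i = j := by
  classical
  choose a ha he hm using level_sub hl hfix hk
  let F : Fin l.n → cls k := fun j => ⟨_, hm j j.2⟩
  have hF : Function.Injective F := fun i j h => Fin.ext (hl.pts_inj i.2 j.2 (by
    rw [← he i i.2, ← he j j.2]
    exact congrArg (fun z : cls k => ((z : Fin table.N) : ℕ)) h))
  have hb := (Nat.bijective_iff_injective_and_card F).mpr
    ⟨hF, by rw [Nat.card_fin, Nat.card_coe_set_eq, hn]⟩
  intro i hi j hj
  obtain ⟨u, hu⟩ := hb.2 ⟨i, hi⟩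
  obtain ⟨v, hv⟩ := hb.2 ⟨j, hj⟩
  have hu' : rho (a u u.2) ⟨l.base, hl.base_lt⟩ = i := congrArg Subtype.val hu
  have hv' : rho (a v v.2) ⟨l.base, hl.base_lt⟩ = j := congrArg Subtype.val hv
  refine ⟨a v v.2 * (a u u.2)⁻¹, mul_mem (ha _ _) (inv_mem (ha _ _)), ?_⟩
  rw [← hu', ← hv', ← Equiv.Perm.mul_apply, ← map_mul, inv_mul_cancel_right]

theorem orbitA : ∀ i ∈ cls 1, ∀ j ∈ cls 1, ∃ h ∈ sub, rho h i = j :=
  cls_orbit level1_ok rfl labA cls_spec.1

theorem orbitB : ∀ i ∈ cls 2, ∀ j ∈ cls 2, ∃ h ∈ sub, rho h i = j :=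
  cls_orbit levelB_ok rfl labB cls_spec.2.1

theorem maximal (M : Subgroup presFi23.Grp) (hM : sub ≤ M) : M = sub ∨ M = ⊤ := by
  refine action.maximal_of_three (cls 1) (cls 2) cls_spec.2.2 ⟨?_, ?_⟩ ?_ orbitA orbitB ?_ ?_ M hM
  · intro h; have h' : lab 0 = 1 := h; rw [lab0] at h'; exact absurd h' (by decide)
  · intro h; have h' : lab 0 = 2 := h; rw [lab0] at h'; exact absurd h' (by decide)
  · exact Set.disjoint_left.mpr fun i (a : lab i = 1) (b : lab i = 2) => by
      rw [a] at b; exact absurd b (by decide)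
  · rw [cls_spec.1]; show ¬ 1 + 3510 ∣ 31671; decide
  · rw [cls_spec.2.1]; show ¬ 1 + 28160 ∣ 31671; decide

theorem suborbit_ncard {k n : ℕ} (b : Fin table.N) (hb : b ∈ cls k)
    (horb : ∀ i ∈ cls k, ∀ j ∈ cls k, ∃ h ∈ sub, rho h i = j) (hn : (cls k).ncard = n) :
    ∃ q : presFi23.Grp ⧸ sub, (MulAction.orbit sub q).ncard = n := by
  obtain ⟨q, hq⟩ := action.point_bijective.2 b
  refine ⟨q, ?_⟩
  rw [action.orbit_ncard, hq, ← hn]
  congr 1
  ext j
  constructor
  · rintro ⟨h, hh, rfl⟩
    show lab _ = k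
    rw [lab_sub h hh]
    exact hb
  · exact horb b hb j

theorem orbit_3510 : ∃ q : presFi23.Grp ⧸ sub, (MulAction.orbit sub q).ncard = 3510 :=
  suborbit_ncard ⟨level1.base, level1_ok.base_lt⟩ labA orbitA cls_spec.1

theorem orbit_28160 : ∃ q : presFi23.Grp ⧸ sub, (MulAction.orbit sub q).ncard = 28160 :=
  suborbit_ncard ⟨levelB.base, levelB_ok.base_lt⟩ labB orbitB cls_spec.2.1

theorem card_sub_eq : Nat.card sub = 129123503308800 := by
  have h := Subgroup.index_mul_card sub
  rw [index_sub, card_grp] at h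
  omega

theorem word_one (w : List ℕ)
    (hw : (levels.map Big.Level.base).all (fun p => Nat.beq (table.imgWord w p) p) = true) :
    (w.map presFi23.g).prod = 1 :=
  Big.word_eq_one_of_base invol rho rho_g presFi23.g_mul_self levels_chain levels_ok levels_prod
    card_grp w hw

theorem isSimple : IsSimpleGroup presFi23.Grp := by
  refine action.isSimple maximal card_and_inj.2 (by show 1 < 31671; decide) (p := 17) (e := 1)
    (m := 240557086664294400) (by norm_num) (by rw [card_grp]; rfl) (by norm_num)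
    (by show 17 ^ 1 ∣ 31671; decide) (([7, 9, 3, 9, 8, 4, 5, 2, 0, 1, 6] : List ℕ).map presFi23.g).prod ?_ fun N hN hw => ?_
  · rw [← List.prod_replicate, ← List.map_replicate, ← List.prod_flatten, ← List.map_replicate, ← List.map_flatten]
    rw [word_one _ (by decide +kernel), map_one]
  · haveI := hN
    exact eq_top_of_covers rfl rfl (FiGQ.covers
      (holding_quotient presFi23.g_mul_self (fun x hx => presFi23.g_junk x hx) presFi23.relWords_one [7, 9, 3, 9, 8, 4, 5, 2, 0, 1, 6] N hw
        (by decide +kernel)) (gen_quotient presFi23.g_gen N))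

theorem isFi23 : Cfsg.IsFi23 presFi23.Grp := ⟨isSimple, card_grp⟩

end Cfsg.Agent.Enum.Fi23M
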