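import Cfsg.Prelude.Def_SporadicB
import Cfsg.Agent.Lib.Enum.FiMain
import Cfsg.Agent.Lib.Enum.Fi23Main

/-!
# The double cover of Fi22 in Fi23 and the 3-transpositions of Fi23
-/

set_option autoImplicit false
set_option maxRecDepth 10000

namespace Cfsg.Agent.Enum.Fi23M

open Cfsg.Agent.Enum Fi23T

/-- The word of the central involution of the subgroup. -/
def zWord : List ℕ := [1, 2, 3, 4, 5, 6, 8, 1, 2, 3, 4, 5, 6, 8, 1, 2, 3, 4, 5, 6, 8, 1, 2, 3, 4, 5, 6, 8, 1, 2, 3, 4, 5, 6, 8, 1, 2, 3, 4, 5, 6, 8, 1, 2, 3, 4, 5, 6, 8, 1, 2, 3, 4, 5, 6, 8, 1, 2, 3, 4, 5, 6, 8]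

/-- The transposition. -/
noncomputable def zEl : presFi23.Grp := (zWord.map presFi23.g).prod

theorem zWord_rev : (zWord.reverse.map presFi23.g).prod = zEl⁻¹ := by
  rw [List.map_reverse, Data.reverse_prod _ presFi23.g_mul_self]; rfl

theorem zEl_sq : zEl * zEl = 1 := by
  have h := word_one (zWord ++ zWord) (by decide +kernel)
  rwa [List.map_append, List.prod_append] at h

theorem ne_one_of_moved (w : List ℕ) (p : Fin table.N)
    (h : Nat.beq (table.imgWord w p) p = false) : (w.map presFi23.g).prod ≠ 1 := by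
  intro h1
  have h2 := rho_word w p
  rw [Data.reverse_prod _ presFi23.g_mul_self, h1, inv_one, map_one] at h2
  change (p : ℕ) = _ at h2
  rw [← h2] at h
  simp at h

theorem zEl_ne : zEl ≠ 1 :=
  ne_one_of_moved zWord ⟨8, by show 8 < 31671; decide⟩ (by decide +kernel)

theorem nonabelian : presFi23.g 0 * presFi23.g 1 ≠ presFi23.g 1 * presFi23.g 0 := by
  intro h
  refine ne_one_of_moved [0, 1, 0, 1] ⟨11589, by show _ < 31671; decide⟩ (by decide +kernel) ?_
  simp only [List.map_cons, List.map_nil, List.prod_cons, List.prod_nil, mul_one]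
  rw [← mul_assoc (presFi23.g 1), ← h, mul_assoc, presFi23.g_mul_self, mul_one, presFi23.g_mul_self]

theorem gen_comm_z : ∀ x ∈ ([0, 1, 2, 3, 4, 5, 6, 8, 9] : List ℕ), presFi23.g x * zEl = zEl * presFi23.g x := by
  intro x hx
  have h1 : ([0, 1, 2, 3, 4, 5, 6, 8, 9] : List ℕ).all (fun x => (levels.map Big.Level.base).all
      (fun p => Nat.beq (table.imgWord ([x] ++ zWord ++ [x] ++ zWord.reverse) p) p)) = true := by decide +kernel
  have h := word_one _ (List.all_eq_true.mp h1 x hx)
  simp only [List.map_append, List.prod_append, List.map_cons, List.map_nil, List.prod_cons,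
    List.prod_nil, mul_one, zWord_rev] at h
  have h' : presFi23.g x * zEl * presFi23.g x = zEl := mul_inv_eq_one.mp h
  calc presFi23.g x * zEl = presFi23.g x * zEl * (presFi23.g x * presFi23.g x) := by
        rw [presFi23.g_mul_self, mul_one]
    _ = zEl * presFi23.g x := by rw [← mul_assoc, h']

theorem comm_z : ∀ a ∈ sub, a * zEl = zEl * a := by
  intro a ha
  induction ha using Subgroup.closure_induction with
  | mem a ha => obtain ⟨x, hx, rfl⟩ := ha; exact gen_comm_z x hx
  | one => rw [one_mul, mul_one]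
  | mul a b _ _ iha ihb => rw [mul_assoc, ihb, ← mul_assoc, iha, mul_assoc]
  | inv a _ iha => exact (Commute.inv_left iha).eq

theorem center_eq_bot : Subgroup.center presFi23.Grp = ⊥ := by
  haveI := isSimple
  refine (IsSimpleGroup.eq_bot_or_eq_top_of_normal _ inferInstance).resolve_right fun h => ?_
  exact nonabelian (Subgroup.mem_center_iff.mp (h ▸ Subgroup.mem_top (presFi23.g 1)) (presFi23.g 0))

theorem centralizer_z : Subgroup.centralizer ({zEl} : Set presFi23.Grp) = sub := by
  refine (maximal _ fun a ha => Subgroup.mem_centralizer_singleton_iff.mpr ?_).resolve_right fun h => ?_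
  · exact comm_z a ha
  · refine zEl_ne (Subgroup.mem_bot.mp (center_eq_bot ▸ Subgroup.mem_center_iff.mpr fun a => ?_))
    exact Subgroup.mem_centralizer_singleton_iff.mp (h ▸ Subgroup.mem_top a)

theorem mem_sub_iff (a : presFi23.Grp) : a ∈ sub ↔ a * zEl = zEl * a := by
  rw [← centralizer_z, Subgroup.mem_centralizer_singleton_iff]

theorem zEl_mem : zEl ∈ sub := (mem_sub_iff _).mpr rfl

/-! ### The class of 3-transpositions -/

theorem card_class : Nat.card (conjugatesOf zEl) = 31671 := by
  rw [← index_sub, Subgroup.index]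
  refine (Nat.card_congr (Equiv.ofBijective (Quotient.lift
    (fun a => (⟨a * zEl * a⁻¹, isConj_iff.mpr ⟨a, rfl⟩⟩ : conjugatesOf zEl))
    fun a b hab => Subtype.ext ?_) ⟨?_, ?_⟩)).symm
  · have h := (mem_sub_iff _).mp (QuotientGroup.leftRel_apply.mp hab)
    show a * zEl * a⁻¹ = b * zEl * b⁻¹
    calc a * zEl * a⁻¹ = a * (zEl * (a⁻¹ * b)) * b⁻¹ := by group
      _ = a * (a⁻¹ * b * zEl) * b⁻¹ := by rw [h]
      _ = b * zEl * b⁻¹ := by group
  · intro q q'
    induction q using QuotientGroup.induction_on with | H a => ?_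
    induction q' using QuotientGroup.induction_on with | H b => ?_
    intro h
    have h' : a * zEl * a⁻¹ = b * zEl * b⁻¹ := congrArg Subtype.val h
    refine QuotientGroup.eq.mpr ((mem_sub_iff _).mpr ?_)
    calc a⁻¹ * b * zEl = a⁻¹ * (b * zEl * b⁻¹) * b := by group
      _ = zEl * (a⁻¹ * b) := by rw [← h']; group
  · rintro ⟨d, hd⟩
    obtain ⟨a, rfl⟩ := isConj_iff.mp hd
    exact ⟨QuotientGroup.mk a, rfl⟩

theorem closure_class : Subgroup.closure (conjugatesOf zEl) = ⊤ := by
  haveI := isSimple
  have h : Subgroup.closure (conjugatesOf zEl) = Subgroup.normalClosure {zEl} := by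
    simp [Subgroup.normalClosure, Group.conjugatesOfSet]
  rw [h]
  refine (IsSimpleGroup.eq_bot_or_eq_top_of_normal _ inferInstance).resolve_left fun hb => zEl_ne ?_
  exact Subgroup.mem_bot.mp (hb ▸ Subgroup.subset_normalClosure rfl)

/-- The conjugate of the transposition by the element of a word. -/
noncomputable def conjWord (w : List ℕ) : presFi23.Grp :=
  (w.map presFi23.g).reverse.prod * zEl * ((w.map presFi23.g).reverse.prod)⁻¹

theorem pair_pow (w : List ℕ) (k : ℕ)
    (hw : (levels.map Big.Level.base).all (fun p => Nat.beq (table.imgWord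
      (List.replicate k (zWord ++ w.reverse ++ zWord ++ w)).flatten p) p) = true) :
    (zEl * conjWord w) ^ k = 1 := by
  have h := word_one _ hw
  rw [List.map_flatten, List.map_replicate, List.prod_flatten, List.map_replicate, List.prod_replicate,
    List.map_append, List.map_append, List.map_append, List.prod_append, List.prod_append,
    List.prod_append, List.map_reverse] at h
  rw [conjWord, ← h, Data.reverse_prod _ presFi23.g_mul_self, inv_inv, zEl]
  simp only [mul_assoc]

theorem three (c : presFi23.Grp) :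
    (zEl * (c * zEl * c⁻¹)) ^ 2 = 1 ∨ (zEl * (c * zEl * c⁻¹)) ^ 3 = 1 := by
  have key : ∀ (w : List ℕ) (k i : ℕ), (∀ i' ∈ cls i, ∀ j ∈ cls i, ∃ h ∈ sub, rho h i' = j) →
      lab (table.imgWord w 0) = i → (zEl * conjWord w) ^ k = 1 → rho c zero ∈ cls i →
      (zEl * (c * zEl * c⁻¹)) ^ k = 1 := by
    intro w k i horb hlab hpow hc
    set u := (w.map presFi23.g).reverse.prod with hu
    have hu0 : rho u zero ∈ cls i := by
      show lab (rho u zero : ℕ) = i
      rw [hu, rho_word]; exact hlab
    obtain ⟨h, hh, he⟩ := horb _ hu0 _ hc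
    have hk : (h * u)⁻¹ * c ∈ sub := (action.mem_iff _).mpr (by
      rw [map_mul, map_inv, Equiv.Perm.mul_apply, Equiv.Perm.inv_eq_iff_eq, map_mul,
        Equiv.Perm.mul_apply, he])
    have e1 := (mem_sub_iff _).mp hk
    have e2 := (mem_sub_iff _).mp hh
    have e : c * zEl * c⁻¹ = h * conjWord w * h⁻¹ := by
      rw [conjWord, ← hu]
      calc c * zEl * c⁻¹ = h * u * ((h * u)⁻¹ * c * zEl) * c⁻¹ := by group
        _ = h * u * (zEl * ((h * u)⁻¹ * c)) * c⁻¹ := by rw [e1]
        _ = h * (u * zEl * u⁻¹) * h⁻¹ := by group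
    have e' : zEl * (c * zEl * c⁻¹) = h * (zEl * conjWord w) * h⁻¹ := by
      rw [e, ← mul_assoc h, e2]; simp only [mul_assoc]
    rw [e', conj_pow, hpow, mul_one, mul_inv_cancel]
  rcases cls_spec.2.2 (rho c zero) with h | h | h
  · left
    have h1 := (mem_sub_iff c).mp ((action.mem_iff c).mpr h)
    rw [show c * zEl * c⁻¹ = zEl by rw [h1]; group, zEl_sq, one_pow]
  · left
    exact key [7, 6, 5, 4, 3, 2, 1, 0, 8, 3, 2, 4, 3, 5, 4, 6, 5, 7, 6, 8, 3, 2, 4, 3, 5, 4, 8, 3, 2, 1] 2 1 orbitA (Table.beq_eq (by decide +kernel)) (pair_pow _ _ (by decide +kernel)) h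
  · right
    exact key [7] 3 2 orbitB (Table.beq_eq (by decide +kernel)) (pair_pow _ _ (by decide +kernel)) h

theorem three_transposition_class : Cfsg.IsThreeTranspositionClass (conjugatesOf zEl) := by
  refine ⟨⟨?_, ?_⟩, ⟨zEl, mem_conjugatesOf_self, rfl⟩, closure_class⟩
  · intro d hd
    obtain ⟨a, rfl⟩ := isConj_iff.mp hd
    exact orderOf_eq_prime (by rw [conj_pow, sq, zEl_sq, mul_one, mul_inv_cancel])
      (fun h => zEl_ne (by simpa using h))
  · intro d hd e he
    obtain ⟨a, rfl⟩ := isConj_iff.mp hd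
    obtain ⟨b, rfl⟩ := isConj_iff.mp he
    have e1 : a * zEl * a⁻¹ * (b * zEl * b⁻¹) =
        a * (zEl * (a⁻¹ * b * zEl * (a⁻¹ * b)⁻¹)) * a⁻¹ := by group
    rw [e1, conj_pow, conj_pow]
    rcases three (a⁻¹ * b) with h | h
    · left; rw [h, mul_one, mul_inv_cancel]
    · right; rw [h, mul_one, mul_inv_cancel]

/-! ### The double cover -/

/-- The transposition in its centralizer. -/
noncomputable def zSub : ↥sub := ⟨zEl, zEl_mem⟩

theorem zpowers_zSub : ∀ a ∈ Subgroup.zpowers zSub, a = 1 ∨ a = zSub := by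
  intro a ha
  obtain ⟨n, rfl⟩ := Subgroup.mem_zpowers_iff.mp ha
  rcases Int.even_or_odd n with ⟨k, rfl⟩ | ⟨k, rfl⟩
  · left
    rw [← two_mul, zpow_mul, zpow_two, show zSub * zSub = 1 from Subtype.ext zEl_sq, one_zpow]
  · right
    rw [zpow_add, zpow_one, zpow_mul, zpow_two, show zSub * zSub = 1 from Subtype.ext zEl_sq,
      one_zpow, one_mul]

theorem orderOf_zSub : orderOf zSub = 2 :=
  orderOf_eq_prime (by rw [sq]; exact Subtype.ext zEl_sq) fun h => zEl_ne (congrArg Subtype.val h)

instance normal_zpowers : (Subgroup.zpowers zSub).Normal := by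
  refine ⟨fun n hn a => ?_⟩
  have hc : Commute a n := by
    rcases zpowers_zSub n hn with rfl | rfl
    · exact Commute.one_right a
    · exact Subtype.ext (comm_z a a.2)
  rwa [hc.eq, mul_assoc, mul_inv_cancel, mul_one]

/-- The generators of Fi22 in the quotient of the subgroup. -/
noncomputable def quotGen (i : ℕ) : ↥sub ⧸ Subgroup.zpowers zSub :=
  QuotientGroup.mk (subGen presFi23.g [0, 1, 2, 3, 4, 5, 6, 8, 9] i)

theorem relWords_quot : ∀ w ∈ presFi22.relWords, (w.map quotGen).prod = 1 := by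
  intro w hw
  have hb : presFi22.relWords.all (fun w => w.all (fun i => Nat.blt i 9) &&
      ((levels.map Big.Level.base).all (fun p => Nat.beq (table.imgWord (w.map fun i => ([0, 1, 2, 3, 4, 5, 6, 8, 9] : List ℕ).getD i 0) p) p) ||
      (levels.map Big.Level.base).all (fun p => Nat.beq (table.imgWord ((w.map fun i => ([0, 1, 2, 3, 4, 5, 6, 8, 9] : List ℕ).getD i 0) ++ zWord.reverse) p) p))) = true := by
    decide +kernel
  have h := List.all_eq_true.mp hb w hw
  simp only [Bool.and_eq_true, Bool.or_eq_true] at h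
  have hlt : ∀ i ∈ w, i < ([0, 1, 2, 3, 4, 5, 6, 8, 9] : List ℕ).length := fun i hi =>
    Table.blt_lt (List.all_eq_true.mp h.1 i hi)
  have e : (w.map quotGen).prod = QuotientGroup.mk' _ ((w.map (subGen presFi23.g [0, 1, 2, 3, 4, 5, 6, 8, 9])).prod) := by
    rw [map_list_prod, List.map_map]; rfl
  rw [e, QuotientGroup.mk'_apply, QuotientGroup.eq_one_iff]
  rcases h.2 with h2 | h2
  · have : (w.map (subGen presFi23.g [0, 1, 2, 3, 4, 5, 6, 8, 9])).prod = 1 :=
      Subtype.ext ((coe_prod_subGen _ hlt).trans (word_one _ h2))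
    rw [this]; exact one_mem _
  · have h3 := word_one _ h2
    rw [List.map_append, List.prod_append, zWord_rev, mul_inv_eq_one] at h3
    have : (w.map (subGen presFi23.g [0, 1, 2, 3, 4, 5, 6, 8, 9])).prod = zSub :=
      Subtype.ext ((coe_prod_subGen _ hlt).trans h3)
    rw [this]; exact Subgroup.mem_zpowers _

/-- The images of the generators of Fi22. -/
noncomputable def quotMap (a : Cfsg.Spor.Fi22.Gen) : ↥sub ⧸ Subgroup.zpowers zSub :=
  quotGen (presFi22.gens.idxOf a)

theorem ext_quotMap (i : ℕ) : presFi22.ext quotMap i = quotGen i := by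
  rcases Nat.lt_or_ge i presFi22.gens.length with hi | hi
  · simp [Pres.ext, quotMap, List.getElem?_eq_getElem hi, presFi22.nodup.idxOf_getElem i hi]
  · have hi' : ¬ i < ([0, 1, 2, 3, 4, 5, 6, 8, 9] : List ℕ).length := Nat.not_lt.mpr hi
    have hj : subGen presFi23.g [0, 1, 2, 3, 4, 5, 6, 8, 9] i = 1 :=
      (holding_subGen presFi23.g_mul_self presFi23.relWords_one [0, 1, 2, 3, 4, 5, 6, 8, 9] (base := []) rfl).junk i
        (Nat.le_of_not_lt hi')
    simp [Pres.ext, quotGen, hj, List.getElem?_eq_none hi]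

theorem quotMap_rels : ∀ r ∈ presFi22.relSet, FreeGroup.lift quotMap r = 1 := by
  have hinv : ∀ a, quotMap a * quotMap a = 1 := by
    intro a
    show QuotientGroup.mk _ * QuotientGroup.mk _ = _
    rw [← QuotientGroup.mk_mul]
    have : ∀ i, subGen presFi23.g [0, 1, 2, 3, 4, 5, 6, 8, 9] i * subGen presFi23.g [0, 1, 2, 3, 4, 5, 6, 8, 9] i = 1 :=
      (holding_subGen presFi23.g_mul_self presFi23.relWords_one [0, 1, 2, 3, 4, 5, 6, 8, 9] (base := []) rfl).invol
    rw [this, QuotientGroup.mk_one]
  refine (presFi22.rels_iff quotMap hinv).mpr fun w hw => ?_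
  rw [show w.map (presFi22.ext quotMap) = w.map quotGen from List.map_congr_left fun i _ => ext_quotMap i]
  exact relWords_quot w hw

/-- Fi22 maps onto the quotient of the subgroup. -/
noncomputable def psi : presFi22.Grp →* ↥sub ⧸ Subgroup.zpowers zSub :=
  PresentedGroup.toGroup quotMap_rels

theorem psi_g (i : ℕ) : psi (presFi22.g i) = quotGen i := by
  rw [← ext_quotMap]
  simp only [Pres.g, Pres.ext]
  cases presFi22.gens[i]? with
  | none => simp
  | some a => simp [psi]

theorem psi_surjective : Function.Surjective psi := by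
  rw [← MonoidHom.range_eq_top, eq_top_iff]
  have h := gen_quotient (subGen_gen (g := presFi23.g) [0, 1, 2, 3, 4, 5, 6, 8, 9]) (Subgroup.zpowers zSub)
  rw [← h, Subgroup.closure_le]
  rintro _ ⟨i, rfl⟩
  exact ⟨presFi22.g i, psi_g i⟩

theorem psi_bijective : Function.Bijective psi := by
  refine ⟨?_, psi_surjective⟩
  haveI := FiMain.isSimple
  rcases IsSimpleGroup.eq_bot_or_eq_top_of_normal psi.ker inferInstance with h | h
  · exact (MonoidHom.ker_eq_bot_iff psi).mp h
  · exfalso
    have hall : ∀ q : ↥sub ⧸ Subgroup.zpowers zSub, q = 1 := fun q => by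
      obtain ⟨a, rfl⟩ := psi_surjective q
      exact MonoidHom.mem_ker.mp (h ▸ Subgroup.mem_top a)
    have htop : Subgroup.zpowers zSub = ⊤ := eq_top_iff.mpr fun a _ =>
      (QuotientGroup.eq_one_iff a).mp (hall _)
    have hc : Nat.card ↥sub = 2 := by
      rw [← orderOf_zSub, ← Nat.card_zpowers, htop, Subgroup.card_top]
    rw [card_sub_eq] at hc
    exact absurd hc (by decide)

theorem fi22_center : Subgroup.center presFi22.Grp = ⊥ := by
  haveI := FiMain.isSimple
  refine (IsSimpleGroup.eq_bot_or_eq_top_of_normal _ inferInstance).resolve_right fun h => ?_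
  have hc : psi (presFi22.g 0 * presFi22.g 1) = psi (presFi22.g 1 * presFi22.g 0) :=
    congrArg psi (Subgroup.mem_center_iff.mp (h ▸ Subgroup.mem_top (presFi22.g 1)) (presFi22.g 0))
  rw [map_mul, map_mul, psi_g, psi_g, quotGen, quotGen, ← QuotientGroup.mk_mul, ← QuotientGroup.mk_mul,
    QuotientGroup.eq] at hc
  set u := subGen presFi23.g [0, 1, 2, 3, 4, 5, 6, 8, 9] 0 with hu
  set v := subGen presFi23.g [0, 1, 2, 3, 4, 5, 6, 8, 9] 1 with hv
  have ew : (((u * v)⁻¹ * (v * u) : ↥sub) : presFi23.Grp) = (([1, 0, 1, 0] : List ℕ).map presFi23.g).prod := by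
    have h0 : (u : presFi23.Grp) = presFi23.g 0 := coe_subGen _ (by decide)
    have h1 : (v : presFi23.Grp) = presFi23.g 1 := coe_subGen _ (by decide)
    simp only [Subgroup.coe_mul, Subgroup.coe_inv, mul_inv_rev, h0, h1,
      inv_eq_of_mul_eq_one_left (presFi23.g_mul_self _), List.map_cons, List.map_nil, List.prod_cons,
      List.prod_nil, mul_one, mul_assoc]
  rcases zpowers_zSub _ hc with h2 | h2
  · exact ne_one_of_moved [1, 0, 1, 0] ⟨11589, by show _ < 31671; decide⟩
      (by decide +kernel) (ew.symm.trans (congrArg Subtype.val h2))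
  · refine ne_one_of_moved ([1, 0, 1, 0] ++ zWord.reverse) ⟨11589, by show _ < 31671; decide⟩
      (by decide +kernel) ?_
    rw [List.map_append, List.prod_append, zWord_rev, ← ew, h2]
    exact mul_inv_cancel zEl

theorem center_sub : Subgroup.center ↥sub = Subgroup.zpowers zSub := by
  refine le_antisymm (fun a ha => ?_) ?_
  · obtain ⟨b, hb⟩ := psi_surjective (QuotientGroup.mk a)
    have hb' : b ∈ Subgroup.center presFi22.Grp := Subgroup.mem_center_iff.mpr fun c => by
      apply psi_bijective.1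
      rw [map_mul, map_mul, hb]
      obtain ⟨c', hc'⟩ := QuotientGroup.mk_surjective (psi c)
      rw [← hc', ← QuotientGroup.mk_mul, ← QuotientGroup.mk_mul, Subgroup.mem_center_iff.mp ha c']
    rw [fi22_center, Subgroup.mem_bot] at hb'
    rw [← QuotientGroup.eq_one_iff, ← hb, hb', map_one]
  · rw [Subgroup.zpowers_le, Subgroup.mem_center_iff]
    exact fun a => Subtype.ext (comm_z a a.2)

theorem double_cover : Cfsg.IsNonsplitDoubleCover ↥sub Cfsg.Spor.Fi22 := by
  have hcard : Nat.card (Subgroup.center ↥sub) = 2 := by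
    rw [center_sub, Nat.card_zpowers, orderOf_zSub]
  refine ⟨hcard, ⟨?_⟩, fun L hL => ?_⟩
  · exact (QuotientGroup.quotientMulEquivOfEq center_sub).trans (MulEquiv.ofBijective psi psi_bijective).symm
  · have hi : L.index = 2 := by rw [hL.index_eq_card, hcard]
    have hz : zSub ∉ L := fun h => by
      have := Subgroup.disjoint_def.mp hL.disjoint (center_sub.symm ▸ Subgroup.mem_zpowers zSub) h
      exact zEl_ne (congrArg Subtype.val this)
    set x : ℕ → ↥sub := subGen presFi23.g [0, 1, 2, 3, 4, 5, 6, 8, 9] with hx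
    have hm : ∀ a b : ↥sub, a * b ∈ L ↔ (a ∈ L ↔ b ∈ L) := fun a b => Subgroup.mul_mem_iff_of_index_two hi
    have hadj : ∀ i k : ℕ, i < 9 → k < 9 → (([i, k, i, k, i, k] : List ℕ).map x).prod = 1 →
        (x i ∈ L ↔ x k ∈ L) := by
      intro i k _ _ h
      have h1 : (([i, k, i, k, i, k] : List ℕ).map x).prod ∈ L := h ▸ one_mem L
      simp only [List.map_cons, List.map_nil, List.prod_cons, List.prod_nil, mul_one, hm] at h1
      tauto
    have hone : ∀ w : List ℕ, (∀ i ∈ w, i < 9) →
        ((levels.map Big.Level.base).all (fun p => Nat.beq (table.imgWord (w.map fun i => ([0, 1, 2, 3, 4, 5, 6, 8, 9] : List ℕ).getD i 0) p) p)) = true →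
        (w.map x).prod = 1 := fun w hw h => Subtype.ext ((coe_prod_subGen _ hw).trans (word_one _ h))
    have e01 := hadj 0 1 (by decide) (by decide) (hone [0, 1, 0, 1, 0, 1] (by decide) (by decide +kernel))
    have e12 := hadj 1 2 (by decide) (by decide) (hone [1, 2, 1, 2, 1, 2] (by decide) (by decide +kernel))
    have e23 := hadj 2 3 (by decide) (by decide) (hone [2, 3, 2, 3, 2, 3] (by decide) (by decide +kernel))
    have e34 := hadj 3 4 (by decide) (by decide) (hone [3, 4, 3, 4, 3, 4] (by decide) (by decide +kernel))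
    have e37 := hadj 3 7 (by decide) (by decide) (hone [3, 7, 3, 7, 3, 7] (by decide) (by decide +kernel))
    have e45 := hadj 4 5 (by decide) (by decide) (hone [4, 5, 4, 5, 4, 5] (by decide) (by decide +kernel))
    have e56 := hadj 5 6 (by decide) (by decide) (hone [5, 6, 5, 6, 5, 6] (by decide) (by decide +kernel))
    have e78 := hadj 7 8 (by decide) (by decide) (hone [7, 8, 7, 8, 7, 8] (by decide) (by decide +kernel))
    have h63 : (((List.replicate 9 ([0, 1, 2, 3, 4, 5, 7] : List ℕ)).flatten).map x).prod = 1 :=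
      hone _ (by decide) (by decide +kernel)
    have h1 : (((List.replicate 9 ([0, 1, 2, 3, 4, 5, 7] : List ℕ)).flatten).map x).prod ∈ L := h63 ▸ one_mem L
    rw [List.map_flatten, List.map_replicate, List.prod_flatten, List.map_replicate, List.prod_replicate] at h1
    have hp : ∀ a : ↥sub, a ^ 9 ∈ L → a ∈ L := fun a ha => by
      have h8 : a ^ 8 ∈ L := by
        have := Subgroup.sq_mem_of_index_two hi (a ^ 4)
        rwa [← pow_mul] at this
      have := (hm (a ^ 8) a).mp (by rwa [← pow_succ])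
      exact this.mp h8
    have h7 := hp _ h1
    simp only [List.map_cons, List.map_nil, List.prod_cons, List.prod_nil, mul_one, hm] at h7
    have hall : ∀ i, x i ∈ L := by
      intro i
      rcases Nat.lt_or_ge i 9 with hi9 | hi9
      · have h0 : x 0 ∈ L := by tauto
        interval_cases i <;> tauto
      · have hj : x i = 1 :=
          (holding_subGen presFi23.g_mul_self presFi23.relWords_one [0, 1, 2, 3, 4, 5, 6, 8, 9] (base := []) rfl).junk i hi9
        rw [hj]
        exact one_mem _
    have hle : Subgroup.closure (Set.range x) ≤ L := (Subgroup.closure_le L).mpr (by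
      rintro _ ⟨i, rfl⟩; exact hall i)
    rw [hx, subGen_gen] at hle
    exact hz (hle (Subgroup.mem_top _))

end Cfsg.Agent.Enum.Fi23M
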