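import Cfsg.Agent.Lib.Enum.Fi23SylowChecks
import Cfsg.Prelude.Def_Transfer

/-!
# Elementary abelian subgroups of a Sylow 2-subgroup of Fi23
-/

set_option autoImplicit false
set_option maxRecDepth 10000

namespace Cfsg.Agent.Enum.Fi23S

open Cfsg.Agent.Enum Fi23T
open Cfsg.Agent.Enum.Table (beq_eq blt_lt)

local notation "G" => presFi23.Grp

/-- The value of a word. -/
noncomputable def W (w : List ℕ) : G := (w.map presFi23.g).prod

theorem W_append (u v : List ℕ) : W (u ++ v) = W u * W v := by simp [W]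

theorem W_nil : W [] = 1 := rfl

theorem W_rev (u : List ℕ) : W u.reverse = (W u)⁻¹ := by
  rw [W, List.map_reverse]
  exact Data.reverse_prod presFi23.g presFi23.g_mul_self u

theorem W_eq {u v : List ℕ} (h : chkSame u v = true) : W u = W v := by
  have h1 : W (u ++ v.reverse) = 1 := Fi23M.word_one _ (by rw [base_eq]; exact h)
  rwa [W_append, W_rev, mul_inv_eq_one] at h1

theorem imgWord_append : ∀ (u v : List ℕ) (i : ℕ),
    table.imgWord (u ++ v) i = table.imgWord v (table.imgWord u i)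
  | [], _, _ => rfl
  | x :: u, v, i => imgWord_append u v (table.img x i)

theorem img_congr {u v : List ℕ} (h : W u = W v) {i : ℕ} (hi : i < 31671) :
    table.imgWord u i = table.imgWord v i := by
  have hr : ∀ w : List ℕ, (Fi23M.rho ((W w)⁻¹) ⟨i, hi⟩ : ℕ) = table.imgWord w i := fun w => by
    rw [W, ← Data.reverse_prod presFi23.g presFi23.g_mul_self w]
    exact Fi23M.rho_word w ⟨i, hi⟩
  rw [← hr u, ← hr v, h]

/-- The product of the elements selected by the bits of `m`. -/
noncomputable def prodSel : List G → ℕ → G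
  | [], _ => 1
  | x :: xs, m => (bif Nat.beq (m % 2) 1 then x else 1) * prodSel xs (m / 2)

theorem W_sel : ∀ (ws : List (List ℕ)) (m : ℕ), W (sel ws m) = prodSel (ws.map W) m
  | [], _ => rfl
  | w :: ws, m => by
    rw [sel, W_append, W_sel ws, List.map_cons, prodSel]
    cases Nat.beq (m % 2) 1 <;> rfl

theorem prodSel_zero : ∀ xs : List G, prodSel xs 0 = 1
  | [] => rfl
  | x :: xs => by rw [prodSel, Nat.zero_div, prodSel_zero xs, mul_one]; rfl

theorem prodSel_mem (K : Subgroup G) : ∀ (xs : List G) (j e : ℕ),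
    (∀ k, k < j → xs.getD k 1 ∈ K) → e < 2 ^ j → prodSel xs e ∈ K
  | [], _, _, _, _ => one_mem K
  | x :: xs, 0, e, _, he => by
    obtain rfl : e = 0 := by simpa using he
    rw [prodSel_zero]
    exact one_mem K
  | x :: xs, j + 1, e, h, he => by
    rw [prodSel]
    refine mul_mem ?_ (prodSel_mem K xs j (e / 2) (fun k hk => ?_) ?_)
    · cases Nat.beq (e % 2) 1
      · exact one_mem K
      · exact h 0 (Nat.succ_pos j)
    · simpa using h (k + 1) (Nat.succ_lt_succ hk)
    · rw [pow_succ] at he; omega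

theorem prodSel_add : ∀ (xs : List G) (j e : ℕ), j < xs.length → e < 2 ^ j →
    prodSel xs (e + 2 ^ j) = prodSel xs e * xs.getD j 1
  | [], _, _, h, _ => absurd h (Nat.not_lt_zero _)
  | x :: xs, 0, e, _, he => by
    obtain rfl : e = 0 := by simpa using he
    rw [prodSel, prodSel_zero, one_mul]
    simp [prodSel_zero]
  | x :: xs, j + 1, e, h, he => by
    have h1 : (e + 2 ^ (j + 1)) % 2 = e % 2 := by rw [pow_succ]; omega
    have h2 : (e + 2 ^ (j + 1)) / 2 = e / 2 + 2 ^ j := by rw [pow_succ]; omega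
    rw [prodSel, prodSel, h1, h2,
      prodSel_add xs j (e / 2) (by simpa using h) (by rw [pow_succ] at he; omega), mul_assoc]
    simp

theorem prodSel_commute {a : G} : ∀ (xs : List G), (∀ x ∈ xs, a * x = x * a) → ∀ m,
    a * prodSel xs m = prodSel xs m * a
  | [], _, _ => by simp [prodSel]
  | x :: xs, h, m => by
    have h1 : a * (bif Nat.beq (m % 2) 1 then x else 1) = (bif Nat.beq (m % 2) 1 then x else 1) * a := by
      cases Nat.beq (m % 2) 1
      · simp
      · exact h x (List.mem_cons_self ..)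
    rw [prodSel, ← mul_assoc, h1, mul_assoc,
      prodSel_commute xs (fun y hy => h y (List.mem_cons_of_mem _ hy)), mul_assoc]

theorem prodSel_xor : ∀ (xs : List G), (∀ x ∈ xs, ∀ y ∈ xs, x * y = y * x) →
    (∀ x ∈ xs, x * x = 1) → ∀ m n, prodSel xs (m ^^^ n) = prodSel xs m * prodSel xs n
  | [], _, _, _, _ => by simp [prodSel]
  | x :: xs, hc, hs, m, n => by
    simp only [prodSel]
    rw [Nat.xor_div_two, prodSel_xor xs
      (fun a ha b hb => hc a (List.mem_cons_of_mem _ ha) b (List.mem_cons_of_mem _ hb))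
      (fun a ha => hs a (List.mem_cons_of_mem _ ha))]
    have hx : ∀ k, x * prodSel xs k = prodSel xs k * x :=
      prodSel_commute xs fun y hy => hc x (List.mem_cons_self ..) y (List.mem_cons_of_mem _ hy)
    have hxx : x * x = 1 := hs x (List.mem_cons_self ..)
    have hx' : ∀ k z, x * (prodSel xs k * z) = prodSel xs k * (x * z) := fun k z => by
      rw [← mul_assoc, hx, mul_assoc]
    have b0 : Nat.beq 0 1 = false := rfl
    have b1 : Nat.beq 1 1 = true := rfl
    rcases Nat.mod_two_eq_zero_or_one m with hm | hm <;>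
      rcases Nat.mod_two_eq_zero_or_one n with hn | hn <;>
      simp [Nat.xor_mod_two_eq, Nat.add_mod, hm, hn, b0, b1, mul_assoc, hx', hxx,
        show x * (x * prodSel xs (n / 2)) = prodSel xs (n / 2) by rw [← mul_assoc, hxx, one_mul]]

theorem awW_comm : ∀ x ∈ aw.map W, ∀ y ∈ aw.map W, x * y = y * x := by
  intro x hx y hy
  obtain ⟨u, hu, rfl⟩ := List.mem_map.mp hx
  obtain ⟨v, hv, rfl⟩ := List.mem_map.mp hy
  rw [← W_append, ← W_append]
  exact W_eq (List.all_eq_true.mp (List.all_eq_true.mp aw_comm u hu) v hv)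

theorem awW_invol : ∀ x ∈ aw.map W, x * x = 1 := by
  intro x hx
  obtain ⟨u, hu, rfl⟩ := List.mem_map.mp hx
  rw [← W_append, ← W_nil]
  exact W_eq (List.all_eq_true.mp aw_invol u hu)

/-- The element of the abelian subgroup with a given mask. -/
noncomputable def aE (m : ℕ) : G := prodSel (aw.map W) m

/-- The coset representative with a given index. -/
noncomputable def hE (e : ℕ) : G := prodSel (hw.map W) e

theorem aE_xor (m n : ℕ) : aE (m ^^^ n) = aE m * aE n := prodSel_xor _ awW_comm awW_invol m n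

theorem aE_zero : aE 0 = 1 := prodSel_zero _

theorem hE_zero : hE 0 = 1 := prodSel_zero _

theorem aE_mul_self (m : ℕ) : aE m * aE m = 1 := by rw [← aE_xor, Nat.xor_self, aE_zero]

theorem aE_inv (m : ℕ) : (aE m)⁻¹ = aE m := inv_eq_of_mul_eq_one_left (aE_mul_self m)

theorem aE_comm (m n : ℕ) : aE m * aE n = aE n * aE m := by
  rw [← aE_xor, ← aE_xor, Nat.xor_comm]

theorem W_wd (m e : ℕ) : W (sel aw m ++ sel hw e) = aE m * hE e := by
  rw [W_append, W_sel, W_sel]; rfl

/-! ### The action on the 23 points -/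

theorem c0_spec {x : ℕ} (hx : x < 23) :
    c0.getD x 0 < 31671 ∧ (∀ u ∈ aw, table.imgWord u (c0.getD x 0) = c0.getD x 0) ∧
    (∀ j, j < 7 → (hp.getD j []).getD x 0 < 23 ∧
      table.imgWord (hw.getD j []) (c0.getD x 0) = c0.getD ((hp.getD j []).getD x 0) 0) ∧
    (∀ y, y < 23 → c0.getD x 0 = c0.getD y 0 → x = y) := by
  have h := List.all_eq_true.mp c0_ok x (List.mem_range.mpr hx)
  simp only [Bool.and_eq_true, List.all_eq_true, List.mem_range] at h
  obtain ⟨⟨⟨h1, h2⟩, h3⟩, h4⟩ := h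
  refine ⟨blt_lt h1, fun u hu => beq_eq (h2 u hu), fun j hj => ⟨blt_lt (h3 j hj).1, beq_eq (h3 j hj).2⟩,
    fun y hy he => ?_⟩
  have := h4 y hy
  rw [Bool.or_eq_true] at this
  rcases this with h' | h'
  · exact beq_eq h'
  · rw [he] at h'; simp at h'

theorem imgWord_sel_fix (i : ℕ) : ∀ (ws : List (List ℕ)) (m : ℕ),
    (∀ u ∈ ws, table.imgWord u i = i) → table.imgWord (sel ws m) i = i
  | [], _, _ => rfl
  | w :: ws, m, h => by
    rw [sel, imgWord_append]
    have h1 : table.imgWord (bif Nat.beq (m % 2) 1 then w else []) i = i := by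
      cases Nat.beq (m % 2) 1
      · rfl
      · exact h w (List.mem_cons_self ..)
    rw [h1]
    exact imgWord_sel_fix i ws _ fun u hu => h u (List.mem_cons_of_mem _ hu)

theorem imgWord_sel_run : ∀ (ws ps : List (List ℕ)) (e x : ℕ), ws.length = ps.length → x < 23 →
    (∀ j, j < ws.length → ∀ y, y < 23 → (ps.getD j []).getD y 0 < 23 ∧
      table.imgWord (ws.getD j []) (c0.getD y 0) = c0.getD ((ps.getD j []).getD y 0) 0) →
    runSel (ps.map fun l z => l.getD z 0) e x < 23 ∧
      table.imgWord (sel ws e) (c0.getD x 0) = c0.getD (runSel (ps.map fun l z => l.getD z 0) e x) 0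
  | [], [], _, _, _, hx, _ => ⟨hx, rfl⟩
  | [], _ :: _, _, _, hl, _, _ => by simp at hl
  | _ :: _, [], _, _, hl, _, _ => by simp at hl
  | w :: ws, p :: ps, e, x, hl, hx, h => by
    have hrest : ∀ j, j < ws.length → ∀ y, y < 23 → (ps.getD j []).getD y 0 < 23 ∧
        table.imgWord (ws.getD j []) (c0.getD y 0) = c0.getD ((ps.getD j []).getD y 0) 0 :=
      fun j hj y hy => by simpa using h (j + 1) (by simpa using hj) y hy
    have h0 : p.getD x 0 < 23 ∧ table.imgWord w (c0.getD x 0) = c0.getD (p.getD x 0) 0 := by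
      simpa using h 0 (by simp) x hx
    rw [List.map_cons, runSel, sel, imgWord_append]
    cases Nat.beq (e % 2) 1
    · exact imgWord_sel_run ws ps _ _ (by simpa using hl) hx hrest
    · show _ ∧ table.imgWord (sel ws (e / 2)) (table.imgWord w _) = _
      rw [h0.2]
      exact imgWord_sel_run ws ps _ _ (by simpa using hl) h0.1 hrest

theorem img_wd (m e : ℕ) {x : ℕ} (hx : x < 23) :
    act e x < 23 ∧ table.imgWord (sel aw m ++ sel hw e) (c0.getD x 0) = c0.getD (act e x) 0 := by
  rw [imgWord_append, imgWord_sel_fix _ aw m (c0_spec hx).2.1]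
  exact imgWord_sel_run hw hp e x (by rw [lens.2.1, lens.2.2.1]) hx fun j hj y hy =>
    (c0_spec hy).2.2.1 j (lens.2.1 ▸ hj)

theorem act_congr {m m' e e' : ℕ} (h : aE m * hE e = aE m' * hE e') {x : ℕ} (hx : x < 23) :
    act e x = act e' x := by
  have h1 := img_congr (u := sel aw m ++ sel hw e) (v := sel aw m' ++ sel hw e')
    (by rw [W_wd, W_wd, h]) (c0_spec hx).1
  rw [(img_wd m e hx).2, (img_wd m' e' hx).2] at h1
  exact (c0_spec (img_wd m e hx).1).2.2.2 _ (img_wd m' e' hx).1 h1

theorem idx_congr {m m' e e' : ℕ} (he : e < 128) (he' : e' < 128)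
    (h : aE m * hE e = aE m' * hE e') : e = e' := by
  have hcode : ∀ e, e < 128 →
      codes.getD e 0 = (List.range 23).foldl (fun c x => c * 32 + act e x) 0 := fun e he =>
    beq_eq (allRange_spec _ _ _ codes_ok e (Nat.zero_le _) (by simpa using he))
  have heq : codes.getD e 0 = codes.getD e' 0 := by
    rw [hcode e he, hcode e' he']
    exact List.foldl_ext _ _ _ fun c x hx => by rw [act_congr h (List.mem_range.mp hx)]
  rw [List.getD_eq_getElem _ _ (codes_nodup.1.symm ▸ he),
    List.getD_eq_getElem _ _ (codes_nodup.1.symm ▸ he')] at heq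
  exact (codes_nodup.2.getElem_inj_iff).mp heq

theorem comm_of_commute {m m' e e' : ℕ}
    (h : aE m * hE e * (aE m' * hE e') = aE m' * hE e' * (aE m * hE e)) : comm e e' = true := by
  simp only [comm, List.all_eq_true, List.mem_range]
  intro x hx
  set u := sel aw m ++ sel hw e with hu
  set v := sel aw m' ++ sel hw e' with hv
  have h1 := img_congr (u := u ++ v) (v := v ++ u)
    (by rw [W_append u v, W_append v u, hu, hv, W_wd, W_wd, h]) (c0_spec hx).1
  rw [imgWord_append u v, imgWord_append v u, hu, hv, (img_wd m e hx).2,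
    (img_wd m' e' hx).2, (img_wd m' e' (img_wd m e hx).1).2, (img_wd m e (img_wd m' e' hx).1).2] at h1
  rw [(c0_spec (img_wd m' e' (img_wd m e hx).1).1).2.2.2 _ (img_wd m e (img_wd m' e' hx).1).1 h1]
  exact Nat.beq_refl _

theorem isInv_of_sq {m e : ℕ} (h : aE m * hE e * (aE m * hE e) = 1) : isInv e = true := by
  simp only [isInv, List.all_eq_true, List.mem_range]
  intro x hx
  set u := sel aw m ++ sel hw e with hu
  have h1 := img_congr (u := u ++ u) (v := [])
    (by rw [W_append u u, hu, W_wd, h, W_nil]) (c0_spec hx).1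
  rw [imgWord_append u u, hu, (img_wd m e hx).2, (img_wd m e (img_wd m e hx).1).2] at h1
  rw [(c0_spec (img_wd m e (img_wd m e hx).1).1).2.2.2 _ hx h1]
  exact Nat.beq_refl _

/-! ### The abelian subgroup has order `2^11` -/

theorem phi_lt (n : ℕ) : ∀ (cs : List ℕ) (m : ℕ), (∀ i, i < cs.length → cs.getD i 0 < 2 ^ n) →
    phi cs m < 2 ^ n
  | [], _, _ => Nat.two_pow_pos n
  | c :: cs, m, h => by
    rw [phi]
    refine Nat.xor_lt_two_pow ?_ (phi_lt n cs _ fun i hi => by simpa using h (i + 1) (by simpa using hi))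
    cases Nat.beq (m % 2) 1
    · exact Nat.two_pow_pos n
    · simpa using h 0 (by simp)

theorem imgWord_sel_orbit (q : List ℕ) : ∀ (ws : List (List ℕ)) (cs : List ℕ) (m v : ℕ),
    ws.length = cs.length → v < 32 →
    (∀ i, i < ws.length → cs.getD i 0 < 32 ∧ ∀ y, y < 32 →
      table.imgWord (ws.getD i []) (q.getD y 0) = q.getD (y ^^^ cs.getD i 0) 0) →
    table.imgWord (sel ws m) (q.getD v 0) = q.getD (v ^^^ phi cs m) 0
  | [], [], _, v, _, _, _ => by simp [sel, phi, Big.Perms.imgWord]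
  | [], _ :: _, _, _, hl, _, _ => by simp at hl
  | _ :: _, [], _, _, hl, _, _ => by simp at hl
  | w :: ws, c :: cs, m, v, hl, hv, h => by
    have hrest : ∀ i, i < ws.length → cs.getD i 0 < 32 ∧ ∀ y, y < 32 →
        table.imgWord (ws.getD i []) (q.getD y 0) = q.getD (y ^^^ cs.getD i 0) 0 :=
      fun i hi => by simpa using h (i + 1) (by simpa using hi)
    have h0 : c < 32 ∧ ∀ y, y < 32 → table.imgWord w (q.getD y 0) = q.getD (y ^^^ c) 0 := by
      simpa using h 0 (by simp)
    rw [sel, phi, imgWord_append]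
    show _ = q.getD (v ^^^ ((bif Nat.beq (m % 2) 1 then c else 0) ^^^ phi cs (m / 2))) 0
    cases Nat.beq (m % 2) 1
    · simp only [cond_false, Nat.zero_xor]
      exact imgWord_sel_orbit q ws cs _ v (by simpa using hl) hv hrest
    · simp only [cond_true]
      rw [h0.2 v hv, imgWord_sel_orbit q ws cs _ (v ^^^ c) (by simpa using hl)
        (Nat.xor_lt_two_pow (n := 5) hv h0.1) hrest, Nat.xor_assoc]

theorem aE_eq_one {m : ℕ} (hm : m < 2048) (h : aE m = 1) : m = 0 := by
  have hk := allRange_spec _ _ _ ker_ok m (Nat.zero_le _) (by simpa using hm)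
  simp only [Bool.or_eq_true, List.any_eq_true] at hk
  rcases hk with hk | ⟨o, ho, hk⟩
  · exact beq_eq hk
  exfalso
  have hc := List.all_eq_true.mp orbs_ok o ho
  simp only [Bool.and_eq_true, List.all_eq_true, List.mem_range] at hc
  have h1 := img_congr (u := sel aw m) (v := []) (by rw [W_sel, W_nil]; exact h) (blt_lt hc.1)
  rw [imgWord_sel_orbit o.1 aw o.2 m 0 (by rw [lens.1, lens.2.2.2.2.2 o ho]) (by norm_num)
    (fun i hi => by
      have := hc.2 i (lens.1 ▸ hi)
      exact ⟨blt_lt this.1, fun y hy => beq_eq (this.2 y hy)⟩), Nat.zero_xor] at h1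
  rw [h1] at hk
  simp [Big.Perms.imgWord] at hk

theorem aE_inj {m n : ℕ} (hm : m < 2048) (hn : n < 2048) (h : aE m = aE n) : m = n := by
  have h1 : aE (m ^^^ n) = 1 := by rw [aE_xor, h, aE_mul_self]
  have h2 := aE_eq_one (Nat.xor_lt_two_pow (n := 11) hm hn) h1
  calc m = m ^^^ n ^^^ n := by rw [Nat.xor_assoc, Nat.xor_self, Nat.xor_zero]
    _ = n := by rw [h2, Nat.zero_xor]

/-- The elementary abelian subgroup of order `2^11`. -/
noncomputable def A : Subgroup G where
  carrier := {a | ∃ m, m < 2048 ∧ a = aE m}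
  one_mem' := ⟨0, by norm_num, aE_zero.symm⟩
  mul_mem' := by
    rintro _ _ ⟨m, hm, rfl⟩ ⟨n, hn, rfl⟩
    exact ⟨_, Nat.xor_lt_two_pow (n := 11) hm hn, (aE_xor m n).symm⟩
  inv_mem' := by
    rintro _ ⟨m, hm, rfl⟩
    exact ⟨m, hm, aE_inv m⟩

theorem card_A : Nat.card A = 2048 := by
  refine (Nat.card_eq_of_bijective
    (fun m : Fin 2048 => (⟨aE m, m, m.2, rfl⟩ : A)) ⟨fun m n h => ?_, ?_⟩).symm.trans (Nat.card_fin _)
  · exact Fin.ext (aE_inj m.2 n.2 (congrArg Subtype.val h))
  · rintro ⟨_, m, hm, rfl⟩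
    exact ⟨⟨m, hm⟩, rfl⟩

theorem A_elem : IsElementaryAbelian 2 A := by
  refine ⟨⟨⟨?_⟩⟩, ?_⟩
  · rintro ⟨_, m, -, rfl⟩ ⟨_, n, -, rfl⟩
    exact Subtype.ext (aE_comm m n)
  · rintro _ ⟨m, -, rfl⟩
    rw [pow_two, aE_mul_self]

/-! ### Conjugation of the abelian subgroup -/

theorem cj_spec {j i : ℕ} (hj : j < 7) (hi : i < 11) :
    (cj.getD j []).getD i 0 < 2048 ∧
      (W (hw.getD j []))⁻¹ * W (aw.getD i []) * W (hw.getD j []) = aE ((cj.getD j []).getD i 0) := by
  have h := List.all_eq_true.mp (List.all_eq_true.mp cj_ok j (List.mem_range.mpr hj)) i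
    (List.mem_range.mpr hi)
  simp only [Bool.and_eq_true] at h
  refine ⟨blt_lt h.1, ?_⟩
  have := W_eq h.2
  rwa [W_append, W_append, W_rev, W_sel] at this

theorem conj_prodSel (h : G) : ∀ (xs : List G) (cs : List ℕ) (m : ℕ), xs.length = cs.length →
    (∀ i, i < xs.length → h⁻¹ * xs.getD i 1 * h = aE (cs.getD i 0)) →
    h⁻¹ * prodSel xs m * h = aE (phi cs m)
  | [], [], _, _, _ => by simp [prodSel, phi, aE_zero]
  | [], _ :: _, _, hl, _ => by simp at hl
  | _ :: _, [], _, hl, _ => by simp at hl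
  | x :: xs, c :: cs, m, hl, hh => by
    have h0 : h⁻¹ * x * h = aE c := by simpa using hh 0 (by simp)
    have ih := conj_prodSel h xs cs (m / 2) (by simpa using hl)
      fun i hi => by simpa using hh (i + 1) (by simpa using hi)
    rw [prodSel, phi]
    show _ = aE (_ ^^^ _)
    rw [aE_xor, ← ih]
    cases Nat.beq (m % 2) 1
    · simp [aE_zero]
    · simp only [cond_true]
      rw [← h0]
      group

theorem conj_aE {j : ℕ} (hj : j < 7) (m : ℕ) :
    phi (cj.getD j []) m < 2048 ∧
      (W (hw.getD j []))⁻¹ * aE m * W (hw.getD j []) = aE (phi (cj.getD j []) m) := by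
  have hmem : cj.getD j [] ∈ cj := by
    rw [List.getD_eq_getElem _ _ (lens.2.2.2.1.symm ▸ hj)]
    exact List.getElem_mem _
  have hlen := lens.2.2.2.2.1 _ hmem
  refine ⟨phi_lt 11 _ _ fun i hi => (cj_spec hj (hlen ▸ hi)).1, ?_⟩
  refine conj_prodSel _ (aw.map W) _ m (by rw [List.length_map, lens.1, hlen]) fun i hi => ?_
  rw [List.length_map, lens.1] at hi
  rw [← W_nil, List.getD_map]
  exact (cj_spec hj hi).2

theorem conj_run : ∀ (hs : List G) (ps : List (List ℕ)) (e m : ℕ), hs.length = ps.length → m < 2048 →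
    (∀ j, j < hs.length → ∀ n, phi (ps.getD j []) n < 2048 ∧
      (hs.getD j 1)⁻¹ * aE n * hs.getD j 1 = aE (phi (ps.getD j []) n)) →
    runSel (ps.map fun cols => phi cols) e m < 2048 ∧
      (prodSel hs e)⁻¹ * aE m * prodSel hs e = aE (runSel (ps.map fun cols => phi cols) e m)
  | [], [], _, m, _, hm, _ => by simp [prodSel, runSel, hm]
  | [], _ :: _, _, _, hl, _, _ => by simp at hl
  | _ :: _, [], _, _, hl, _, _ => by simp at hl
  | h :: hs, p :: ps, e, m, hl, hm, hh => by
    have h0 : phi p m < 2048 ∧ h⁻¹ * aE m * h = aE (phi p m) := by simpa using hh 0 (by simp) m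
    have hrest : ∀ j, j < hs.length → ∀ n, phi (ps.getD j []) n < 2048 ∧
        (hs.getD j 1)⁻¹ * aE n * hs.getD j 1 = aE (phi (ps.getD j []) n) :=
      fun j hj n => by simpa using hh (j + 1) (by simpa using hj) n
    rw [List.map_cons, runSel, prodSel]
    cases Nat.beq (e % 2) 1
    · simpa using conj_run hs ps (e / 2) m (by simpa using hl) hm hrest
    · have ih := conj_run hs ps (e / 2) (phi p m) (by simpa using hl) h0.1 hrest
      refine ⟨ih.1, ?_⟩
      show (h * prodSel hs (e / 2))⁻¹ * aE m * (h * prodSel hs (e / 2)) =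
        aE (runSel (ps.map fun cols => phi cols) (e / 2) (phi p m))
      rw [← ih.2, ← h0.2]
      group

theorem conj_hE (e : ℕ) {m : ℕ} (hm : m < 2048) :
    actA e m < 2048 ∧ (hE e)⁻¹ * aE m * hE e = aE (actA e m) :=
  conj_run (hw.map W) cj e m (by rw [List.length_map, lens.2.1, lens.2.2.2.1]) hm fun j hj n => by
    rw [List.length_map, lens.2.1] at hj
    rw [← W_nil, List.getD_map]
    exact conj_aE hj n

/-! ### The Sylow subgroup -/

theorem exists_chain : ∀ j, j ≤ 7 → ∃ S : Subgroup G, ∀ g, g ∈ S ↔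
    ∃ m, m < 2048 ∧ ∃ e, e < 2 ^ j ∧ g = aE m * hE e
  | 0, _ => ⟨A, fun g => ⟨
      fun ⟨m, hm, h⟩ => ⟨m, hm, 0, by norm_num, by rw [hE_zero, mul_one, h]⟩,
      fun ⟨m, hm, e, he, h⟩ => ⟨m, hm, by
        obtain rfl : e = 0 := by simpa using he
        rw [h, hE_zero, mul_one]⟩⟩⟩
  | j + 1, hj => by
    obtain ⟨S, hS⟩ := exists_chain j (by omega)
    set h := W (hw.getD j []) with hh
    have hj7 : j < 7 := by omega
    have hrl : ∀ k, k ≤ j → ((rl.getD j []).getD k (0, 0)).1 < 2048 ∧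
        ((rl.getD j []).getD k (0, 0)).2 < 2 ^ j ∧
        (if k = j then h * h else h⁻¹ * W (hw.getD k []) * h) =
          aE ((rl.getD j []).getD k (0, 0)).1 * hE ((rl.getD j []).getD k (0, 0)).2 := by
      intro k hk
      have hc := List.all_eq_true.mp (List.all_eq_true.mp rl_ok j (List.mem_range.mpr hj7)) k
        (List.mem_range.mpr (by omega))
      simp only [Bool.and_eq_true] at hc
      refine ⟨blt_lt hc.1.1, blt_lt hc.1.2, ?_⟩
      have h1 := W_eq hc.2
      rw [W_wd] at h1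
      by_cases hkj : k = j
      · subst hkj
        rw [Nat.beq_refl, cond_true, W_append] at h1
        rw [if_pos rfl]
        exact h1
      · have : Nat.beq k j = false := by
          cases e : Nat.beq k j with
          | false => rfl
          | true => exact absurd (Nat.eq_of_beq_eq_true e) hkj
        rw [this, cond_false, W_append, W_append, W_rev] at h1
        rw [if_neg hkj]
        exact h1
    have hsq : h * h ∈ S := by
      have := hrl j le_rfl
      rw [if_pos rfl] at this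
      exact (hS _).mpr ⟨_, this.1, _, this.2.1, this.2.2⟩
    have hconj : ∀ y ∈ S, h⁻¹ * y * h ∈ S := by
      intro y hy
      obtain ⟨m, hm, e, he, rfl⟩ := (hS y).mp hy
      have h1 : h⁻¹ * aE m * h ∈ S := (hS _).mpr
        ⟨_, (conj_aE hj7 m).1, 0, Nat.two_pow_pos j, by rw [hE_zero, mul_one]; exact (conj_aE hj7 m).2⟩
      have h2 : hE e ∈ S.comap (MulAut.conj h⁻¹).toMonoidHom := by
        refine prodSel_mem _ _ j e (fun k hk => ?_) he
        have := hrl k hk.le
        rw [if_neg hk.ne] at this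
        rw [← W_nil, List.getD_map, Subgroup.mem_comap]
        simpa using (hS _).mpr ⟨_, this.1, _, this.2.1, this.2.2⟩
      have h3 : h⁻¹ * hE e * h ∈ S := by simpa using h2
      have := mul_mem h1 h3
      convert this using 1
      group
    have hconj' : ∀ y ∈ S, h * y * h⁻¹ ∈ S := by
      intro y hy
      have := mul_mem (mul_mem hsq (hconj y hy)) (inv_mem hsq)
      convert this using 1
      group
    have hmul : ∀ e, e < 2 ^ j → hE (e + 2 ^ j) = hE e * h := fun e he => by
      rw [hE, prodSel_add _ j e (by rw [List.length_map, lens.2.1]; exact hj7) he, ← W_nil,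
        List.getD_map]
      rfl
    refine ⟨{
      carrier := {g | g ∈ S ∨ g * h⁻¹ ∈ S}
      one_mem' := Or.inl (one_mem S)
      mul_mem' := ?_
      inv_mem' := ?_ }, fun g => ⟨?_, ?_⟩⟩
    · rintro x y (hx | hx) (hy | hy)
      · exact Or.inl (mul_mem hx hy)
      · exact Or.inr (by simpa [mul_assoc] using mul_mem hx hy)
      · refine Or.inr ?_
        convert mul_mem hx (hconj' y hy) using 1
        group
      · refine Or.inl ?_
        convert mul_mem (mul_mem hx (hconj' _ hy)) hsq using 1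
        group
    · rintro x (hx | hx)
      · exact Or.inl (inv_mem hx)
      · refine Or.inr ?_
        convert mul_mem (hconj _ (inv_mem hx)) (inv_mem hsq) using 1
        group
    · rintro (hg | hg)
      · obtain ⟨m, hm, e, he, rfl⟩ := (hS g).mp hg
        exact ⟨m, hm, e, by rw [pow_succ]; omega, rfl⟩
      · obtain ⟨m, hm, e, he, h1⟩ := (hS _).mp hg
        refine ⟨m, hm, e + 2 ^ j, by rw [pow_succ]; omega, ?_⟩
        rw [hmul e he, ← mul_assoc, ← h1, inv_mul_cancel_right]
    · rintro ⟨m, hm, e, he, rfl⟩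
      rcases Nat.lt_or_ge e (2 ^ j) with he' | he'
      · exact Or.inl ((hS _).mpr ⟨m, hm, e, he', rfl⟩)
      · refine Or.inr ((hS _).mpr ⟨m, hm, e - 2 ^ j, by rw [pow_succ] at he; omega, ?_⟩)
        rw [show hE e = hE (e - 2 ^ j) * h by
          rw [← hmul _ (by rw [pow_succ] at he; omega), Nat.sub_add_cancel he']]
        group

/-- A Sylow 2-subgroup. -/
noncomputable def S : Subgroup G := (exists_chain 7 le_rfl).choose

theorem mem_S {g : G} : g ∈ S ↔ ∃ m, m < 2048 ∧ ∃ e, e < 128 ∧ g = aE m * hE e :=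
  (exists_chain 7 le_rfl).choose_spec g

theorem A_le_S : A ≤ S := fun g ⟨m, hm, h⟩ =>
  mem_S.mpr ⟨m, hm, 0, by norm_num, by rw [hE_zero, mul_one, h]⟩

theorem card_S : Nat.card S = 2 ^ 18 := by
  have := Nat.card_eq_of_bijective
    (fun p : Fin 2048 × Fin 128 =>
      (⟨aE p.1 * hE p.2, mem_S.mpr ⟨p.1, p.1.2, p.2, p.2.2, rfl⟩⟩ : S)) ⟨?_, ?_⟩
  · rw [← this, Nat.card_prod, Nat.card_fin, Nat.card_fin]
    norm_num
  · rintro ⟨m, e⟩ ⟨m', e'⟩ h
    have h' : aE m * hE e = aE m' * hE e' := congrArg Subtype.val h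
    obtain rfl : e = e' := Fin.ext (idx_congr e.2 e'.2 h')
    rw [mul_left_inj] at h'
    exact Prod.ext (Fin.ext (aE_inj m.2 m'.2 h')) rfl
  · rintro ⟨g, hg⟩
    obtain ⟨m, hm, e, he, rfl⟩ := mem_S.mp hg
    exact ⟨(⟨m, hm⟩, ⟨e, he⟩), rfl⟩

theorem A_normal {s a : G} (hs : s ∈ S) (ha : a ∈ A) : s⁻¹ * a * s ∈ A := by
  obtain ⟨m, hm, e, he, rfl⟩ := mem_S.mp hs
  obtain ⟨n, hn, rfl⟩ := ha
  refine ⟨actA e n, (conj_hE e hn).1, ?_⟩
  rw [← (conj_hE e hn).2, mul_inv_rev, aE_inv]
  have : aE m * aE n * aE m = aE n := by rw [aE_comm m n, mul_assoc, aE_mul_self, mul_one]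
  calc (hE e)⁻¹ * aE m * aE n * (aE m * hE e) = (hE e)⁻¹ * (aE m * aE n * aE m) * hE e := by group
    _ = _ := by rw [this]

/-! ### Elementary abelian subgroups -/

theorem srch_sound (ok : List ℕ → Bool) : ∀ (fuel : ℕ) (c : List ℕ) (need : ℕ) (acc : List ℕ),
    srch ok fuel c need acc = true → ∀ C : Finset ℕ, (∀ x ∈ C, ∀ y ∈ C, comm x y = true) →
    (∀ x ∈ C, x ∈ c) → need ≤ C.card → ∃ L, ok L = true ∧ ∀ x ∈ L, x ∈ acc ∨ x ∈ C
  | 0, _, _, _, h, _, _, _, _ => by simp [srch] at h
  | fuel + 1, [], need, acc, h, C, _, hsub, hn => by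
    have : C = ∅ := Finset.eq_empty_of_forall_notMem fun x hx => by simpa using hsub x hx
    subst this
    obtain rfl : need = 0 := by simpa using hn
    exact ⟨acc, h, fun x hx => Or.inl hx⟩
  | fuel + 1, x :: c, need, acc, h, C, hc, hsub, hn => by
    rw [srch] at h
    by_cases h0 : need = 0
    · subst h0
      exact ⟨acc, h, fun y hy => Or.inl hy⟩
    have e0 : Nat.beq need 0 = false := by
      cases e : Nat.beq need 0 with
      | false => rfl
      | true => exact absurd (Nat.eq_of_beq_eq_true e) h0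
    rw [e0, cond_false] at h
    have hlen : need ≤ c.length + 1 := by
      refine hn.trans ?_
      have : C ⊆ (x :: c).toFinset := fun y hy => List.mem_toFinset.mpr (hsub y hy)
      exact (Finset.card_le_card this).trans ((List.toFinset_card_le _).trans_eq (List.length_cons ..))
    have e1 : Nat.blt (c.length + 1) need = false := by
      cases e : Nat.blt (c.length + 1) need with
      | false => rfl
      | true => exact absurd (blt_lt e) (by omega)
    rw [e1, cond_false, Bool.and_eq_true] at h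
    by_cases hx : x ∈ C
    · obtain ⟨L, hL, hL'⟩ := srch_sound ok fuel _ _ _ h.1 (C.erase x)
        (fun a ha b hb => hc a (Finset.mem_of_mem_erase ha) b (Finset.mem_of_mem_erase hb))
        (fun a ha => by
          rcases List.mem_cons.mp (hsub a (Finset.mem_of_mem_erase ha)) with rfl | h'
          · exact absurd ha (Finset.notMem_erase _ _)
          · exact List.mem_filter.mpr ⟨h', hc x hx a (Finset.mem_of_mem_erase ha)⟩)
        (by rw [Finset.card_erase_of_mem hx]; omega)
      refine ⟨L, hL, fun a ha => ?_⟩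
      rcases hL' a ha with h' | h'
      · rcases List.mem_cons.mp h' with rfl | h''
        · exact Or.inr hx
        · exact Or.inl h''
      · exact Or.inr (Finset.mem_of_mem_erase h')
    · exact srch_sound ok fuel _ _ _ h.2 C hc (fun a ha => by
        rcases List.mem_cons.mp (hsub a ha) with rfl | h'
        · exact absurd ha hx
        · exact h') hn

theorem nat_xor_eq (a b : ℕ) : Nat.xor a b = a ^^^ b := rfl

theorem phi_zero : ∀ cs : List ℕ, phi cs 0 = 0
  | [] => rfl
  | c :: cs => by simp [phi, phi_zero cs, show Nat.beq 0 1 = false from rfl]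

theorem phi_xor : ∀ (cs : List ℕ) (m n : ℕ), phi cs (m ^^^ n) = phi cs m ^^^ phi cs n
  | [], _, _ => by simp [phi]
  | c :: cs, m, n => by
    simp only [phi, nat_xor_eq]
    rw [Nat.xor_div_two, phi_xor cs]
    have b0 : Nat.beq 0 1 = false := rfl
    rcases Nat.mod_two_eq_zero_or_one m with hm | hm <;>
      rcases Nat.mod_two_eq_zero_or_one n with hn | hn <;>
      simp [Nat.xor_mod_two_eq, Nat.add_mod, hm, hn, b0, Nat.xor_assoc, Nat.xor_left_comm]

theorem runSel_xor : ∀ (fs : List (ℕ → ℕ)), (∀ f ∈ fs, ∀ m n, f (m ^^^ n) = f m ^^^ f n) →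
    ∀ e m n, runSel fs e (m ^^^ n) = runSel fs e m ^^^ runSel fs e n
  | [], _, _, _, _ => rfl
  | f :: fs, h, e, m, n => by
    simp only [runSel]
    have hrec := runSel_xor fs (fun g hg => h g (List.mem_cons_of_mem _ hg))
    cases Nat.beq (e % 2) 1
    · exact hrec _ _ _
    · simp only [cond_true]
      rw [h f (List.mem_cons_self ..), hrec]

theorem actA_xor (e m n : ℕ) : actA e (m ^^^ n) = actA e m ^^^ actA e n :=
  runSel_xor _ (fun f hf => by
    obtain ⟨cols, -, rfl⟩ := List.mem_map.mp hf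
    exact phi_xor cols) e m n

theorem disp_xor : ∀ (L : List ℕ) (m n : ℕ), disp L (m ^^^ n) = disp L m ^^^ disp L n
  | [], _, _ => by simp [disp]
  | e :: L, m, n => by
    show (actA e (m ^^^ n) ^^^ (m ^^^ n)) ^^^ (disp L (m ^^^ n) <<< 11) =
      ((actA e m ^^^ m) ^^^ (disp L m <<< 11)) ^^^ ((actA e n ^^^ n) ^^^ (disp L n <<< 11))
    rw [disp_xor L m n, actA_xor, Nat.shiftLeft_xor_distrib]
    simp only [Nat.xor_assoc, Nat.xor_left_comm]

theorem disp_fix {m : ℕ} : ∀ L : List ℕ, (∀ e ∈ L, actA e m = m) → disp L m = 0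
  | [], _ => rfl
  | e :: L, h => by
    show (actA e m ^^^ m) ^^^ (disp L m <<< 11) = 0
    rw [h e (List.mem_cons_self ..), disp_fix L fun f hf => h f (List.mem_cons_of_mem _ hf)]
    simp

/-- An additive map which is the identity on the basis is the identity. -/
theorem eq_self_of_basis (F : ℕ → ℕ) (hF : ∀ m n, F (m ^^^ n) = F m ^^^ F n) :
    ∀ k, (∀ i, i < k → F (2 ^ i) = 2 ^ i) → ∀ m, m < 2 ^ k → F m = m
  | 0, _, m, hm => by
    obtain rfl : m = 0 := by simpa using hm
    have := hF 0 0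
    simpa using this
  | k + 1, h, m, hm => by
    have ih := eq_self_of_basis F hF k fun i hi => h i (by omega)
    rcases Nat.lt_or_ge m (2 ^ k) with hm' | hm'
    · exact ih m hm'
    · have hlo : m - 2 ^ k < 2 ^ k := by rw [pow_succ] at hm; omega
      have hxor : m = (m - 2 ^ k) ^^^ 2 ^ k := by
        apply Nat.eq_of_testBit_eq
        intro i
        rw [Nat.testBit_xor, Nat.testBit_two_pow]
        conv_lhs => rw [show m = 2 ^ k + (m - 2 ^ k) by omega]
        by_cases hik : k = i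
        · subst hik
          rw [Nat.testBit_two_pow_add_eq, Nat.testBit_lt_two_pow hlo]
          simp
        · rcases Nat.lt_or_ge i k with hi | hi
          · rw [Nat.testBit_two_pow_add_gt hi]
            simp [hik]
          · rw [Nat.testBit_lt_two_pow (lt_of_lt_of_le (show 2 ^ k + (m - 2 ^ k) < 2 ^ (k + 1) by omega)
              (Nat.pow_le_pow_right (by norm_num) (show k + 1 ≤ i by omega))),
              Nat.testBit_lt_two_pow (lt_of_lt_of_le hlo (Nat.pow_le_pow_right (by norm_num) hi))]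
            simp [hik]
      rw [hxor, hF, ih _ hlo, h k (Nat.lt_succ_self k)]

theorem mem_of_cert {k : ℕ} {L P R : List ℕ} (hc : chkCert k L P R = true) {m : ℕ} (hm : m < 2048)
    (hfix : ∀ e ∈ L, actA e m = m) : ∃ p, p < 2 ^ k ∧ phi R p = m := by
  simp only [chkCert, Bool.and_eq_true, List.all_eq_true, List.mem_range] at hc
  obtain ⟨⟨-, hP⟩, hR⟩ := hc
  refine ⟨phi P m, phi_lt k P m (fun i hi => ?_), ?_⟩
  · rw [List.getD_eq_getElem _ _ hi]
    exact blt_lt (hP _ (List.getElem_mem hi))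
  · have h := eq_self_of_basis (fun z => phi R (phi P z ^^^ (disp L z <<< k))) (fun a b => by
      rw [phi_xor P, disp_xor, Nat.shiftLeft_xor_distrib, ← phi_xor R]
      simp only [Nat.xor_assoc, Nat.xor_left_comm]) 11 (fun i hi => beq_eq (hR i hi)) m hm
    simpa [disp_fix L hfix] using h

theorem elem_abelian_bound (B : Subgroup G) (hB : B ≤ S) (hE2 : IsElementaryAbelian 2 B) :
    B = A ∨ Nat.card B < 2048 := by
  classical
  have hcomm : ∀ a ∈ B, ∀ b ∈ B, a * b = b * a := fun a ha b hb =>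
    congrArg Subtype.val (hE2.1.is_comm.comm (⟨a, ha⟩ : B) ⟨b, hb⟩)
  let E : Finset ℕ := (Finset.range 128).filter fun e => ∃ m, m < 2048 ∧ aE m * hE e ∈ B
  by_cases hBA : B ≤ A
  · by_cases hc : Nat.card B < 2048
    · exact Or.inr hc
    · left
      haveI : Finite A := Nat.finite_of_card_ne_zero (by rw [card_A]; norm_num)
      exact Subgroup.eq_of_le_of_card_ge hBA (by rw [card_A]; omega)
  right
  let C := E.erase 0
  have hC : ∀ e ∈ C, e ∈ invs ∧ e < 128 ∧ ∃ m, m < 2048 ∧ aE m * hE e ∈ B := by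
    intro e he
    obtain ⟨he0, he⟩ := Finset.mem_erase.mp he
    obtain ⟨he128, m, hm, hmB⟩ := Finset.mem_filter.mp he
    rw [Finset.mem_range] at he128
    refine ⟨?_, he128, m, hm, hmB⟩
    have h1 := isInv_of_sq (by rw [← pow_two]; exact hE2.2 _ hmB)
    have h2 := allRange_spec _ _ _ invs_ok e (Nat.zero_le _) (by simpa using he128)
    rw [h1] at h2
    simp only [Bool.or_eq_true, Bool.not_true, Bool.false_eq_true, or_false] at h2
    rcases h2 with h2 | h2
    · exact absurd (beq_eq h2) he0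
    · simpa using h2
  have hCc : ∀ x ∈ C, ∀ y ∈ C, comm x y = true := by
    intro x hx y hy
    obtain ⟨-, -, m, -, hm⟩ := hC x hx
    obtain ⟨-, -, n, -, hn⟩ := hC y hy
    exact comm_of_commute (hcomm _ hm _ hn)
  have hne : C.Nonempty := by
    obtain ⟨b, hb, hbA⟩ := SetLike.not_le_iff_exists.mp hBA
    obtain ⟨m, hm, e, he, rfl⟩ := mem_S.mp (hB hb)
    refine ⟨e, Finset.mem_erase.mpr ⟨?_, Finset.mem_filter.mpr ⟨Finset.mem_range.mpr he, m, hm, hb⟩⟩⟩
    rintro rfl
    exact hbA ⟨m, hm, by rw [hE_zero, mul_one]⟩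
  have hinter : ∀ (k : ℕ) (L P R : List ℕ), chkCert k L P R = true → (∀ e ∈ L, e ∈ C) →
      ((B ⊓ A : Subgroup G) : Set G).ncard ≤ 2 ^ k := by
    intro k L P R hcert hL
    have hsub : ((B ⊓ A : Subgroup G) : Set G) ⊆ ↑((Finset.range (2 ^ k)).image fun p => aE (phi R p)) := by
      rintro a ⟨haB, m, hm, rfl⟩
      rw [Finset.coe_image]
      have hfix : ∀ e ∈ L, actA e m = m := by
        intro e he
        obtain ⟨-, -, n, -, hn⟩ := hC e (hL e he)
        refine aE_inj (conj_hE e hm).1 hm ?_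
        rw [← (conj_hE e hm).2]
        have h1 := hcomm _ haB _ hn
        rw [← mul_assoc, aE_comm m n, mul_assoc, mul_assoc, mul_right_inj] at h1
        rw [mul_assoc, h1, inv_mul_cancel_left]
      obtain ⟨p, hp, hpm⟩ := mem_of_cert hcert hm hfix
      exact ⟨p, Finset.mem_coe.mpr (Finset.mem_range.mpr hp), congrArg aE hpm⟩
    refine (Set.ncard_le_ncard hsub).trans ?_
    rw [Set.ncard_coe_finset]
    exact Finset.card_image_le.trans (Finset.card_range _).le
  have hrep : ∀ e, ∃ r : G, e ∈ E → r ∈ B ∧ ∃ m, m < 2048 ∧ r = aE m * hE e := by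
    intro e
    by_cases he : e ∈ E
    · obtain ⟨m, hm, hmB⟩ := (Finset.mem_filter.mp he).2
      exact ⟨_, fun _ => ⟨hmB, m, hm, rfl⟩⟩
    · exact ⟨1, fun h => absurd h he⟩
  choose r hr using hrep
  have hdec : ∀ b : B, ∃ e : E, (b : G) * (r e)⁻¹ ∈ B ⊓ A := by
    rintro ⟨b, hb⟩
    obtain ⟨m, hm, e, he, rfl⟩ := mem_S.mp (hB hb)
    have heE : e ∈ E := Finset.mem_filter.mpr ⟨Finset.mem_range.mpr he, m, hm, hb⟩
    obtain ⟨hrB, n, hn, hrn⟩ := hr e heE
    refine ⟨⟨e, heE⟩, Subgroup.mem_inf.mpr ⟨B.mul_mem hb (B.inv_mem hrB), ?_⟩⟩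
    exact ⟨m ^^^ n, Nat.xor_lt_two_pow (n := 11) hm hn, by
      show aE m * hE e * (r e)⁻¹ = _
      rw [hrn, mul_inv_rev, aE_inv, aE_xor]
      group⟩
  choose ef hef using hdec
  haveI : Finite G := Nat.finite_of_card_ne_zero (by rw [Fi23M.card_grp]; norm_num)
  have hcard : Nat.card B ≤ E.card * ((B ⊓ A : Subgroup G) : Set G).ncard := by
    have h1 := Nat.card_le_card_of_injective
      (fun b : B => ((ef b, ⟨_, hef b⟩) : E × ↥(B ⊓ A))) fun b b' h => by
        simp only [Prod.mk.injEq, Subtype.mk.injEq] at h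
        rw [h.1, mul_left_inj] at h
        exact Subtype.ext h.2
    rwa [Nat.card_prod, Nat.card_eq_fintype_card (α := E), Fintype.card_coe,
      ← SetLike.coe_sort_coe (B ⊓ A), Nat.card_coe_set_eq] at h1
  have hE1 : E.card ≤ C.card + 1 := by
    have := Finset.pred_card_le_card_erase (s := E) (a := 0)
    show E.card ≤ (E.erase 0).card + 1
    omega
  have h16 : C.card ≤ 15 := by
    by_contra hcon
    obtain ⟨L, hL, -⟩ := srch_sound _ _ _ _ _ none_sixteen C hCc (fun x hx => (hC x hx).1) (by omega)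
    simp at hL
  refine lt_of_le_of_lt hcard ?_
  rcases Nat.lt_or_ge C.card 15 with h15 | h15
  · obtain ⟨e, he⟩ := hne
    obtain ⟨c, -, hc⟩ := List.any_eq_true.mp (List.all_eq_true.mp fix_single e (hC e he).1)
    rw [Bool.and_eq_true] at hc
    have h1 := hinter 7 [e] _ _ hc.2 (by simpa using he)
    calc E.card * _ ≤ 15 * 128 := Nat.mul_le_mul (by omega) h1
      _ < 2048 := by norm_num
  · obtain ⟨L, hL, hL'⟩ := srch_sound _ _ _ _ _ fix_many C hCc (fun x hx => (hC x hx).1) h15
    obtain ⟨c, -, hc⟩ := List.any_eq_true.mp hL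
    rw [Bool.and_eq_true, List.all_eq_true] at hc
    have h1 := hinter 6 _ _ _ hc.2 fun e he =>
      (hL' e (by simpa using hc.1 e he)).resolve_left List.not_mem_nil
    calc E.card * _ ≤ 16 * 64 := Nat.mul_le_mul (by omega) h1
      _ < 2048 := by norm_num

/-- The Sylow statement for an arbitrary Sylow 2-subgroup. -/
theorem sylow_unique (T : Sylow 2 G) :
    (∀ B : Subgroup G, B ≤ T → IsElementaryAbelian 2 B → Nat.card B ≤ 2 ^ 11) ∧
    ∃ A₁ : Subgroup G, (A₁ ≤ T ∧ (A₁.subgroupOf T).Normal ∧ IsElementaryAbelian 2 A₁ ∧ Nat.card A₁ = 2 ^ 11) ∧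
      ∀ B : Subgroup G, B ≤ T → IsElementaryAbelian 2 B → Nat.card B = 2 ^ 11 → B = A₁ := by
  haveI : Finite G := Nat.finite_of_card_ne_zero (by rw [Fi23M.card_grp]; norm_num)
  haveI : Fact (Nat.Prime 2) := ⟨Nat.prime_two⟩
  obtain ⟨P, hP⟩ := (IsPGroup.of_card card_S).exists_le_sylow
  have hPS : S = (P : Subgroup G) := by
    obtain ⟨n, hn⟩ := IsPGroup.iff_card.mp P.2
    refine Subgroup.eq_of_le_of_card_ge hP ?_
    rw [hn, card_S]
    refine Nat.pow_le_pow_right (by norm_num) ?_
    by_contra hcon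
    have h1 : 2 ^ 19 ∣ 4089470473293004800 := by
      rw [← Fi23M.card_grp]
      exact (pow_dvd_pow 2 (show 19 ≤ n by omega)).trans (hn ▸ Subgroup.card_subgroup_dvd_card _)
    exact absurd h1 (by norm_num)
  obtain ⟨g, rfl⟩ := MulAction.exists_smul_eq G P T
  set φ : G ≃* G := MulAut.conj g with hφ
  have hmem : ∀ x, x ∈ ((g • P : Sylow 2 G) : Subgroup G) ↔ φ.symm x ∈ S := by
    intro x
    rw [Sylow.coe_subgroup_smul, Subgroup.mem_pointwise_smul_iff_inv_smul_mem, ← hPS]
    rfl
  have hpull : ∀ B : Subgroup G, B ≤ ((g • P : Sylow 2 G) : Subgroup G) → IsElementaryAbelian 2 B →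
      B = A.map φ.toMonoidHom ∨ Nat.card B < 2048 := by
    intro B hB hE2
    let B' := B.comap φ.toMonoidHom
    have hcard : Nat.card B' = Nat.card B :=
      Nat.card_eq_of_bijective (fun x : B' => (⟨φ x, x.2⟩ : B))
        ⟨fun x y h => Subtype.ext (φ.injective (congrArg Subtype.val h)),
          fun y => ⟨⟨φ.symm y, by show φ (φ.symm y) ∈ B; rw [φ.apply_symm_apply]; exact y.2⟩,
            Subtype.ext (φ.apply_symm_apply y)⟩⟩
    have hB' : B' ≤ S := fun x hx => by
      have := (hmem (φ x)).mp (hB hx)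
      rwa [φ.symm_apply_apply] at this
    have hE' : IsElementaryAbelian 2 B' := by
      refine ⟨⟨⟨fun x y => Subtype.ext (φ.injective ?_)⟩⟩, fun x hx => φ.injective ?_⟩
      · show φ ((x : G) * y) = φ ((y : G) * x)
        rw [map_mul, map_mul]
        exact congrArg Subtype.val (hE2.1.is_comm.comm (⟨φ x, x.2⟩ : B) ⟨φ y, y.2⟩)
      · rw [map_pow, map_one]
        exact hE2.2 _ hx
    rcases elem_abelian_bound B' hB' hE' with h | h
    · left
      rw [← h]
      exact (Subgroup.map_comap_eq_self_of_surjective φ.surjective B).symm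
    · exact Or.inr (hcard ▸ h)
  have hA : Nat.card (A.map φ.toMonoidHom) = 2 ^ 11 := by
    rw [Subgroup.card_map_of_injective φ.injective, card_A]; norm_num
  refine ⟨fun B hB hE2 => ?_, A.map φ.toMonoidHom, ⟨?_, ?_, ⟨⟨⟨?_⟩⟩, ?_⟩, hA⟩, fun B hB hE2 hc => ?_⟩
  · rcases hpull B hB hE2 with h | h
    · rw [h, hA]
    · exact h.le.trans (by norm_num)
  · rintro _ ⟨a, ha, rfl⟩
    exact (hmem _).mpr ((φ.symm_apply_apply a).symm ▸ A_le_S ha)
  · refine ⟨?_⟩
    rintro ⟨x, hxT⟩ hx ⟨t, ht⟩
    rw [Subgroup.mem_subgroupOf] at hx ⊢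
    obtain ⟨a, ha, rfl⟩ := hx
    have := A_normal (inv_mem ((hmem t).mp ht)) ha
    refine ⟨_, this, ?_⟩
    simp
  · rintro ⟨_, a, ha, rfl⟩ ⟨_, b, hb, rfl⟩
    refine Subtype.ext ?_
    show φ a * φ b = φ b * φ a
    rw [← map_mul, ← map_mul]
    exact congrArg φ (congrArg Subtype.val (A_elem.1.is_comm.comm (⟨a, ha⟩ : A) ⟨b, hb⟩))
  · rintro _ ⟨a, ha, rfl⟩
    rw [← map_pow, A_elem.2 a ha, map_one]
  · rcases hpull B hB hE2 with h | h
    · exact h
    · rw [hc] at h; exact absurd h (by norm_num)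

end Cfsg.Agent.Enum.Fi23S
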