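import Cfsg.Agent.Lib.Enum.FiPData

/-! Generated coset enumeration proof steps. -/

set_option autoImplicit false
set_option maxRecDepth 10000

namespace Cfsg.Agent.Enum.FiP

def st0 : List ℕ := [0x2, 0x4, 0x6, 0x8, 0xa, 0x0, 0xa000000000a00200100000011, 0xa000020000a00200100000023, 0xa000040000a00200100000031, 0xa000080000a00200100000043, 0x0, 0x140000c000140020010001000d, 0x140000e000140020010001001f, 0x140000a000060000b0001400400100010039, 0x1400012000140020010001003d, 0x0, 0x1e000160001e00200100020009, 0x1e0001400010000150001e0040010002002b, 0x1e0001a0001e0020010002002f, 0x0, 0x260001e000180001f0002600400100030019, 0x2600022000260020010003001d, 0x26000240002600200100030021, 0x0, 0x2e000200002e00200100030015, 0x2e0001e0001c0001f0002e00400100030035, 0x2e000220002e0020010003003f, 0x2e000240002e00200100030045, 0x0, 0x380002600020000270003800400100040003, 0x38000280003800200100040007, 0x380002a000380020010004000b, 0x380002c000380020010004000f, 0x0, 0x2e000270004200200100040027, 0x420002a000420020010004003f, 0x420002c0004200200100040045, 0x0, 0x42000390004a00200100060015, 0x4a0003a0004a00200100060027,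 0x4a0003e0004a0020010006003f, 0x4a000400004a00200100060045, 0x0, 0x54000450003200044000540040010007001b, 0x5400048000540020010007002f, 0x540004200028000430005400400100070033, 0x0, 0x540004c0005c00200100080009, 0x5c000520005c0020010008002f, 0x5c0004a0003c0004b0005c00400100080033, 0x0, 0x6400056000640020010009001f, 0x64000540004600055000640040010009002d, 0x640005a000640020010009003d, 0x0, 0x6c0005f000560005e0006c004001000a0005, 0x6c0005c0004e0005d0006c004001000a0019, 0x6c000600006c002001000a0021, 0x6c000620006c002001000a0025, 0x0, 0x640005e00076002001000a000d, 0x760005c000500005d00076004001000a002d, 0x760006200076002001000a003d, 0x0, 0x7e000660007e002001000b0023, 0x7e000680007e002001000b0031, 0x7e0006400058000650007e004001000b003b, 0x7e0006a0007e002001000b0043, 0x0, 0x880006e00088002001000c000d, 0x760006d00088002001000c001f, 0x880007400088002001000c003d, 0x0, 0x7e0007800090002001000d0011, 0x900007a00090002001000d0031, 0x9000076000600007700090004001000d003b, 0x900007c00090002001000d0043, 0x0, 0x9a0008a0009a002001000f0009, 0x9a0008d0007a0008c0009a004001000f001b, 0x9a0008800070000890009a004001000f002b,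 0x0, 0xa20008a000a2002001000f0011, 0x900008c000a2002001000f0023, 0xa2000880007200089000a2004001000f003b, 0xa20008e000a2002001000f0043, 0x0, 0xac0009c000ac00200100110011, 0xac0009e000ac00200100110023, 0xa20009b000ac00200100110031, 0x0, 0xb40009c000b400200100110015, 0xb40009e000b400200100110027, 0xb40009a0008e0009b000b400400100110035, 0xb4000a0000b40020010011003f, 0x0, 0xbe000ae000be0020010013000d, 0xbe000b0000be0020010013001f, 0xbe000b3000a8000b2000be0040010013002d, 0xbe000ac000a0000ad000be00400100130039, 0x0, 0xc8000ae000c800200100130015, 0xc8000b0000c800200100130027, 0xc8000b3000aa000b2000c800400100130035, 0xb4000ad000c800200100130045, 0x0, 0xd2000c0000d200200100150015, 0xd2000c2000d200200100150027, 0xc8000bf000d20020010015003f, 0xd2000c6000d200200100150045, 0x0, 0xdc000d4000dc00200100170009, 0xdc000d9000ce000d8000dc0040010017002b, 0xdc000da000dc0020010017002f, 0xdc000d2000c4000d3000dc00400100170033, 0x0, 0xe6000dc000d6000dd000e600400100180019, 0xe6000e0000e60020010018001d, 0xe6000e2000e600200100180021, 0xe6000e4000e600200100180025, 0x0, 0xf0000e6000de000e7000f000400100190003, 0xf0000e8000f000200100190007,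 0xf0000ea000f00020010019000b, 0xf0000ec000f00020010019000f, 0xf0000ee000f000200100190013]
theorem chk0 : data.chkSteps 0 st0 = true := by decide +kernel

end Cfsg.Agent.Enum.FiP
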