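import Cfsg.Agent.Lib.Enum.FiRData

/-! Generated coset enumeration proof steps. -/

set_option autoImplicit false
set_option maxRecDepth 10000

namespace Cfsg.Agent.Enum.FiR

def st0 : List ℕ := [0x2, 0x4, 0x6, 0x8, 0x0, 0x800000000080020010000000d, 0x800002000080020010000001b, 0x800006000080020010000002d, 0x0, 0x100000a0001000200100010009, 0x100000800004000090001000400100010023, 0x0, 0x16000100000c000110001600400100020015, 0x16000140001600200100020019, 0x0, 0x1c000120001c00200100020011, 0x1c000100000e000110001c00400100020029, 0x1c000140001c0020010002002f, 0x0, 0x240001600012000170002400400100030003, 0x24000180002400200100030007, 0x240001a000240020010003000b, 0x0, 0x1c000170002c0020010003001f, 0x2c0001a0002c0020010003002f, 0x0, 0x2c000250003200200100050011, 0x3200026000320020010005001f, 0x320002a000320020010005002f, 0x0, 0x3a0002f000200002e0003a00400100060017, 0x3a0002c000180002d0003a00400100060027, 0x0, 0x3a000340004000200100070009, 0x400003200028000330004000400100070027, 0x0, 0x460003c000460020010008001b, 0x460003a000300003b0004600400100080025, 0x460003e000460020010008002d, 0x0, 0x4e000430003c000420004e00400100090005, 0x4e0004000036000410004e00400100090015,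 0x4e000440004e0020010009001d, 0x0, 0x4600042000560020010009000d, 0x560004000038000410005600400100090025, 0x5600044000560020010009002d, 0x0, 0x5e000500005e002001000b000d, 0x560004f0005e002001000b001b, 0x5e000540005e002001000b002d, 0x0, 0x660006000066002001000d0009, 0x66000630005a0006200066004001000d0017, 0x660005e000520005f00066004001000d0023, 0x0, 0x6e000680006e002001000e0011, 0x6e0006a0006e002001000e001f, 0x6e0006600064000670006e004001000e0029, 0x6e0006c0006e002001000e002f]
theorem chk0 : data.chkSteps 0 st0 = true := by decide +kernel

end Cfsg.Agent.Enum.FiR
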