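import Cfsg.Agent.Lib.Enum.FiSData

/-! Generated coset enumeration proof steps. -/

set_option autoImplicit false
set_option maxRecDepth 10000

namespace Cfsg.Agent.Enum.FiS

def st0 : List ℕ := [0x2, 0x4, 0x6, 0x0, 0x600000000060020010000000d, 0x6000020000600200100000017, 0x0, 0xc000080000c00200100010009, 0xc0000600004000070000c0040010001001b, 0x0, 0x120000c0000a0000d0001200400100020011, 0x12000100001200200100020015, 0x0, 0x18000120000e000130001800400100030003, 0x18000140001800200100030007, 0x1800016000180020010003000b]
theorem chk0 : data.chkSteps 0 st0 = true := by decide +kernel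

end Cfsg.Agent.Enum.FiS
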