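import Cfsg.Agent.Lib.Enum.FiTData

/-! Generated coset enumeration proof steps. -/

set_option autoImplicit false
set_option maxRecDepth 10000

namespace Cfsg.Agent.Enum.FiT

def st0 : List ℕ := [0x2, 0x4, 0x0, 0x4000000000400200100000009, 0x0, 0x8000040000200005000080040010001000d, 0x0, 0xc0000800006000090000c00400100020003, 0xc0000a0000c00200100020007]
theorem chk0 : data.chkSteps 0 st0 = true := by decide +kernel

end Cfsg.Agent.Enum.FiT
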