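import Cfsg.Agent.Lib.Enum.FiUData

/-! Generated coset enumeration proof steps. -/

set_option autoImplicit false
set_option maxRecDepth 10000

namespace Cfsg.Agent.Enum.FiU

def st0 : List ℕ := [0x2, 0x0, 0x0, 0x40000200000000030000400400100010003]
theorem chk0 : data.chkSteps 0 st0 = true := by decide +kernel

end Cfsg.Agent.Enum.FiU
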