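import Cfsg.Agent.Lib.Enum.FiVData

/-! Generated coset enumeration proof steps. -/

set_option autoImplicit false
set_option maxRecDepth 10000

namespace Cfsg.Agent.Enum.FiV

def st0 : List ℕ := [0x0]
theorem chk0 : data.chkSteps 0 st0 = true := by decide +kernel

end Cfsg.Agent.Enum.FiV
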