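import Cfsg.Agent.Lib.Enum.HeZSteps0
import Cfsg.Agent.Lib.Enum.Bound

/-! Generated: a relation of the Held group inside `⟨a, b, c, d, e⟩`. -/

set_option autoImplicit false
set_option maxRecDepth 10000

namespace Cfsg.Agent.Enum.HeZ

open Cfsg.Agent.Enum

theorem rot_ok : (data.rels.zip provenance).all (fun wp => Pres.RotOK baseRels wp.1 wp.2) = true := by
  decide +kernel

theorem walk_ok : data.walk 176 16 0x90001f000470007b000bb000ef001210015e0014000110000dc000ae00070000400001a00004 0 [2, 3, 2, 3, 4, 3, 2, 3, 2, 3, 4, 3, 2, 3, 4] = some (0, []) := by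
  decide +kernel

theorem relation {G : Type*} [Group G] {g : ℕ → G} (h : Holding g 5 baseRels) :
    (([2, 3, 2, 3, 4, 3, 2, 3, 2, 3, 4, 3, 2, 3, 4] : List ℕ).map g).prod = 1 :=
  prod_eq_one_of_walk h.invol (h.junk 15 (by decide)) rfl
    (uptoFor_step h (by decide) rot_ok rfl (k := 0) st0 chk0 (by decide +kernel) (uptoFor_zero _ _)) walk_ok

end Cfsg.Agent.Enum.HeZ
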