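import Cfsg.Prelude.Def_Sporadic
import Cfsg.Agent.Lib.Enum.Bound
import Cfsg.Agent.Lib.Enum.HeACert
import Cfsg.Agent.Lib.Enum.HeALevels
import Cfsg.Agent.Lib.Enum.HeBCover
import Cfsg.Agent.Lib.Enum.HeCCover
import Cfsg.Agent.Lib.Enum.HeDCover
import Cfsg.Agent.Lib.Enum.HeQCover
import Cfsg.Agent.Lib.Enum.HeZCover

/-!
# The presented Held group is simple of order 4030387200
-/

set_option autoImplicit false
set_option maxRecDepth 10000

namespace Cfsg.Agent.Enum.HeM

open Cfsg.Agent.Enum


/-- A relation derived inside `⟨a, b, c, d, e⟩`. -/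
theorem relation : (([2, 3, 2, 3, 4, 3, 2, 3, 2, 3, 4, 3, 2, 3, 4] : List ℕ).map presHe.g).prod = 1 := by
  have h := congrArg Subtype.val (HeZ.relation
    (holding_subGen presHe.g_mul_self presHe.relWords_one [0, 1, 2, 3, 4] (base := HeZ.baseRels) (by decide +kernel)))
  rw [coe_prod_subGen [0, 1, 2, 3, 4] (by decide +kernel)] at h
  exact h

theorem rels : ∀ w ∈ ([2, 3, 2, 3, 4, 3, 2, 3, 2, 3, 4, 3, 2, 3, 4] : List ℕ) :: presHe.relWords,
    (w.map presHe.g).prod = 1 := by
  intro w hw
  rcases List.mem_cons.mp hw with rfl | hw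
  · exact relation
  · exact presHe.relWords_one w hw

theorem step {L L' : List ℕ} {t : CoverData} {d : Data} {base : List (List ℕ)} {n : ℕ}
    (hbase : subRelsOK L (([2, 3, 2, 3, 4, 3, 2, 3, 2, 3, 4, 3, 2, 3, 4] : List ℕ) :: presHe.relWords) base = true)
    (hcov : ∀ {G : Type} [Group G] {g : ℕ → G}, Holding g n base →
      Subgroup.closure (Set.range g) = ⊤ → Covers g (wordClosure g d.subs) t d)
    (hn : L.length = n)
    (hL' : d.subs.map (fun w => w.map fun i => L.getD i 0) = L'.map fun x => [x])
    (hlt : d.subs.all (fun w => w.all fun i => Nat.blt i L.length) = true) {m : ℕ}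
    (h : Finite (gensClosure presHe.g L') ∧ Nat.card (gensClosure presHe.g L') ≤ m) :
    Finite (gensClosure presHe.g L) ∧ Nat.card (gensClosure presHe.g L) ≤ t.N * m :=
  chain_step (hcov (hn ▸ holding_subGen presHe.g_mul_self rels L hbase) (subGen_gen L)) hL' hlt h

theorem card_acdf : Finite (gensClosure presHe.g [0, 2, 3, 5]) ∧
    Nat.card (gensClosure presHe.g [0, 2, 3, 5]) ≤ 240 * 1 :=
  step (by decide +kernel) (fun h hgen => HeD.covers h hgen) rfl (by decide +kernel)
    (by decide +kernel) chain_base

theorem card_acdefg : Finite (gensClosure presHe.g [0, 2, 3, 4, 5, 6]) ∧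
    Nat.card (gensClosure presHe.g [0, 2, 3, 4, 5, 6]) ≤ 336 * (240 * 1) :=
  step (by decide +kernel) (fun h hgen => HeC.covers h hgen) rfl (by decide +kernel)
    (by decide +kernel) card_acdf

theorem coversB : Covers presHe.g (gensClosure presHe.g [0, 2, 3, 4, 5, 6]) HeB.cover HeB.data := by
  have h : Holding presHe.g 7 HeB.baseRels :=
    { invol := presHe.g_mul_self
      junk := fun x hx => presHe.g_junk x hx
      base := fun w hw => by
        have h1 : HeB.baseRels.all (fun r => r ∈ presHe.relWords ∨ r = []) = true := by decide +kernel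
        have h2 := List.all_eq_true.mp h1 w hw
        simp only [decide_eq_true_eq] at h2
        rcases h2 with h2 | rfl
        · exact presHe.relWords_one w h2
        · simp }
  rw [← wordClosure_singletons]
  exact HeB.covers h presHe.g_gen

instance finite_grp : Finite presHe.Grp := by
  haveI := card_acdefg.1
  exact (coversB.card_le card_acdefg.2).1

theorem card_grp_le : Nat.card presHe.Grp ≤ 4030387200 := by
  haveI := card_acdefg.1
  exact (coversB.card_le card_acdefg.2).2.trans (by decide +kernel)

theorem rep : ∃ φ : presHe.Grp →* Equiv.Perm (Fin HeA.table.N),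
    (∀ x, φ (presHe.g x) = HeA.table.permOf HeA.certified.invol x) ∧
      Nat.card presHe.Grp = 4030387200 ∧ Function.Injective φ := by
  obtain ⟨φ, hφ, -⟩ := HeA.certified.rep_hom
  exact ⟨φ, hφ, card_eq_and_injective presHe.g_mul_self HeA.certified.invol φ hφ HeA.levels_chain
    HeA.levels_ok HeA.levels_prod card_grp_le⟩

theorem card_grp : Nat.card presHe.Grp = 4030387200 := by
  obtain ⟨φ, -, h, -⟩ := rep
  exact h

theorem isSimple : IsSimpleGroup presHe.Grp := by
  obtain ⟨φ, hφ, hcard, hinj⟩ := rep
  refine isSimpleGroup_of_certs HeA.certified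
    (fun M hM => overgroup_cases HeA.certified HeA.suborbits HeA.suborbits_ok HeA.sub_words 5
      (by decide +kernel) (by decide +kernel) (by decide +kernel) [1, 1360, 425, 136, 136] rfl
      (by decide +kernel) (by decide +kernel) (by decide +kernel) M hM)
    φ hφ hinj (by decide +kernel) (p := 7) (e := 3) (m := 11750400) (by norm_num)
    (by rw [hcard]; rfl) (by norm_num) (by decide +kernel)
    (List.replicate 3 [3, 0, 2, 2, 3, 2, 1, 3]).flatten
    (by decide +kernel) fun N hN hw => ?_
  haveI := hN
  exact eq_top_of_covers rfl rfl (HeQ.covers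
    (holding_quotient presHe.g_mul_self (fun x hx => presHe.g_junk x hx) presHe.relWords_one
      (List.replicate 3 [3, 0, 2, 2, 3, 2, 1, 3]).flatten N hw
      (by decide +kernel)) (gen_quotient presHe.g_gen N))

theorem isHe : Cfsg.IsHe presHe.Grp := ⟨isSimple, card_grp⟩

end Cfsg.Agent.Enum.HeM
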