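import Mathlib
import Cfsg.Agent.Lib.Enum.F4
import Cfsg.Agent.Lib.Enum.HeSpData
import Cfsg.Agent.Lib.Forms.SpOrder

/-!
# `Sp_4(4)` and its extension by the field automorphism on the 85 points of `PG(3, 4)`
-/

set_option autoImplicit false
set_option maxRecDepth 10000

namespace Cfsg.Agent.Enum.HeSp

open Matrix Cfsg.Agent.Enum

/-- Vectors. -/
abbrev V : Type := Fin 2 ⊕ Fin 2 → F4

/-- Matrices. -/
abbrev M4 : Type := Matrix (Fin 2 ⊕ Fin 2) (Fin 2 ⊕ Fin 2) F4

/-- Digit `j` of a code. -/
def digit (n j : ℕ) : F4 := ⟨⟨n / 4 ^ j % 4, Nat.mod_lt _ (by decide)⟩⟩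

/-- The vector with a given code. -/
def ofCode (n : ℕ) : V
  | .inl i => digit n i
  | .inr i => digit n (2 + i)

/-- The code of a vector. -/
def code (v : V) : ℕ :=
  (v (.inl 0)).val.val + 4 * (v (.inl 1)).val.val + 16 * (v (.inr 0)).val.val + 64 * (v (.inr 1)).val.val

theorem code_lt (v : V) : code v < 256 := by
  have h : ∀ a : F4, a.val.val ≤ 3 := fun a => by omega
  have := h (v (.inl 0)); have := h (v (.inl 1)); have := h (v (.inr 0)); have := h (v (.inr 1))
  unfold code
  omega

theorem ofCode_code (v : V) : ofCode (code v) = v := by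
  have h : ∀ a : F4, a.val.val ≤ 3 := fun a => by omega
  have := h (v (.inl 0)); have := h (v (.inl 1)); have := h (v (.inr 0)); have := h (v (.inr 1))
  funext i
  rcases i with i | i <;> fin_cases i <;>
    exact F4.ext' (Fin.ext (by simp [ofCode, digit, code]; omega))

theorem forall_vec {p : V → Prop} (h : ∀ n : Fin 256, p (ofCode n)) (v : V) : p v := by
  have := h ⟨code v, code_lt v⟩
  rwa [ofCode_code] at this

/-- The first nonzero coordinate, or `1`. -/
def lead (v : V) : F4 :=
  if v (.inl 0) ≠ 0 then v (.inl 0) else if v (.inl 1) ≠ 0 then v (.inl 1) else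
    if v (.inr 0) ≠ 0 then v (.inr 0) else if v (.inr 1) ≠ 0 then v (.inr 1) else 1

theorem lead_ne (v : V) : lead v ≠ 0 := by
  unfold lead
  split_ifs <;> first | assumption | exact one_ne_zero

/-- The normalised multiple. -/
def nrm (v : V) : V := (lead v)⁻¹ • v

theorem nrm_smul : ∀ (c : F4), c ≠ 0 → ∀ v : V, nrm (c • v) = nrm v := by
  have h : ∀ (c : F4), c ≠ 0 → ∀ n : Fin 256, code (nrm (c • ofCode n)) = code (nrm (ofCode n)) := by
    decide +kernel
  intro c hc
  refine forall_vec fun n => ?_
  rw [← ofCode_code (nrm _), h c hc n, ofCode_code]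

/-- Number of a point. -/
def idx (v : V) : Fin 85 := ⟨field 8 idxData (code (nrm v)) % 85, Nat.mod_lt _ (by decide)⟩

/-- The vector of a point. -/
def pt (i : Fin 85) : V := ofCode (ptData.getD i.val 0)

theorem idx_smul {c : F4} (hc : c ≠ 0) (v : V) : idx (c • v) = idx v := by
  rw [idx, idx]
  simp only [nrm_smul c hc v]

theorem idx_pt (i : Fin 85) : idx (pt i) = i := by
  revert i
  decide +kernel

theorem pt_ne (i : Fin 85) : pt i ≠ 0 := by
  have h : ∀ i : Fin 85, code (pt i) ≠ code 0 := by decide +kernel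
  exact fun e => h i (congrArg code e)

theorem exists_smul_pt (v : V) : v ≠ 0 → ∃ c : F4, c ≠ 0 ∧ pt (idx v) = c • v := by
  have h : ∀ n : Fin 256, code (ofCode n) = 0 ∨
      code (pt (idx (ofCode n))) = code ((lead (ofCode n))⁻¹ • ofCode n) := by decide +kernel
  refine forall_vec (p := fun v => v ≠ 0 → ∃ c : F4, c ≠ 0 ∧ pt (idx v) = c • v) (fun n hn => ?_) v
  rcases h n with h0 | h1
  · refine absurd ?_ hn
    rw [← ofCode_code (ofCode n), h0]
    funext i
    rcases i with i | i <;> simp [ofCode, digit] <;> rfl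
  · refine ⟨(lead (ofCode n))⁻¹, inv_ne_zero (lead_ne _), ?_⟩
    rw [← ofCode_code (pt _), h1, ofCode_code]

/-- The symplectic group. -/
abbrev Sp : Type := Matrix.symplecticGroup (Fin 2) F4

theorem mulVec_ne (A : Sp) {v : V} (hv : v ≠ 0) : (A : M4) *ᵥ v ≠ 0 := by
  intro h
  apply hv
  have := congrArg ((↑(A⁻¹) : M4) *ᵥ ·) h
  simp only [Matrix.mulVec_mulVec, Matrix.mulVec_zero] at this
  rwa [← Submonoid.coe_mul, inv_mul_cancel, Submonoid.coe_one, Matrix.one_mulVec] at this

/-- The action on points. -/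
def act (A : Sp) (i : Fin 85) : Fin 85 := idx ((A : M4) *ᵥ pt i)

theorem act_idx (A : Sp) {v : V} (hv : v ≠ 0) : act A (idx v) = idx ((A : M4) *ᵥ v) := by
  obtain ⟨c, hc, he⟩ := exists_smul_pt v hv
  rw [act, he, Matrix.mulVec_smul, idx_smul hc]

theorem act_mul (A B : Sp) (i : Fin 85) : act (A * B) i = act A (act B i) := by
  rw [show act B i = idx ((B : M4) *ᵥ pt i) from rfl, act_idx A (mulVec_ne B (pt_ne i)),
    Matrix.mulVec_mulVec]
  rfl

theorem act_one (i : Fin 85) : act 1 i = i := by
  rw [act, Submonoid.coe_one, Matrix.one_mulVec, idx_pt]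

/-- The permutation representation on points. -/
def rho : Sp →* Equiv.Perm (Fin 85) where
  toFun A := ⟨act A, act A⁻¹, fun i => by rw [← act_mul, inv_mul_cancel, act_one],
    fun i => by rw [← act_mul, mul_inv_cancel, act_one]⟩
  map_one' := Equiv.ext act_one
  map_mul' A B := Equiv.ext (act_mul A B)

theorem exists_eigen (A : Sp) (hA : rho A = 1) {v : V} (hv : v ≠ 0) :
    ∃ c : F4, (A : M4) *ᵥ v = c • v := by
  have h1 : idx ((A : M4) *ᵥ v) = idx v := by
    rw [← act_idx A hv]
    exact DFunLike.congr_fun hA _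
  obtain ⟨a, ha, he⟩ := exists_smul_pt _ (mulVec_ne A hv)
  obtain ⟨b, -, he'⟩ := exists_smul_pt _ hv
  rw [h1, he'] at he
  refine ⟨a⁻¹ * b, ?_⟩
  rw [mul_smul, he, inv_smul_smul₀ ha]

theorem rho_injective : Function.Injective rho := by
  rw [injective_iff_map_eq_one]
  intro A hA
  have hcol : ∀ j i, (A : M4) i j = ((A : M4) *ᵥ Pi.single j 1) i := fun j i => by simp
  have hne : ∀ j, (Pi.single j 1 : V) ≠ 0 := fun j h => by simpa using congrFun h j
  choose c hc using fun j => exists_eigen A hA (hne j)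
  have hdiag : (A : M4) = Matrix.diagonal c := by
    ext i j
    rw [hcol, hc, Matrix.diagonal_apply]
    by_cases h : i = j
    · subst h; simp
    · simp [h]
  obtain ⟨a, ha⟩ := exists_eigen A hA (v := fun _ => 1) (fun h => by simpa using congrFun h (.inl 0))
  rw [hdiag] at ha
  have hca : ∀ i, c i = a := fun i => by simpa [Matrix.mulVec_diagonal] using congrFun ha i
  have hsymp := SymplecticGroup.mem_iff'.mp A.2
  rw [hdiag, show c = fun _ => a from funext hca] at hsymp
  have h2 : a * a = 1 := by
    have := congrFun (congrFun hsymp (.inr 0)) (.inl 0)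
    simpa [Matrix.J, Matrix.mul_apply, Matrix.diagonal_apply, Fintype.sum_sum_type,
      Matrix.fromBlocks] using this
  refine Subtype.ext ?_
  rw [hdiag, show c = fun _ => (1 : F4) from funext fun i => (hca i).trans (F4.eq_one_of_sq a h2)]
  exact Matrix.diagonal_one

/-- The field automorphism on points. -/
def sigFun (i : Fin 85) : Fin 85 := idx fun j => F4.frob (pt i j)

theorem sigFun_sigFun : ∀ i, sigFun (sigFun i) = i := by decide +kernel

/-- The field automorphism as a permutation. -/
def sig : Equiv.Perm (Fin 85) := ⟨sigFun, sigFun, sigFun_sigFun, sigFun_sigFun⟩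

theorem sig_mul_self : sig * sig = 1 := Equiv.ext sigFun_sigFun

theorem sigFun_idx {v : V} (hv : v ≠ 0) : sigFun (idx v) = idx fun j => F4.frob (v j) := by
  obtain ⟨c, hc, he⟩ := exists_smul_pt v hv
  rw [sigFun, he, show (fun j => F4.frob ((c • v) j)) = F4.frob c • fun j => F4.frob (v j) from
    funext fun j => by simp [map_mul],
    idx_smul ((map_ne_zero F4.frob).mpr hc)]

/-- Conjugation by the field automorphism. -/
def frobMat (A : Sp) : Sp :=
  ⟨(A : M4).map F4.frob, SymplecticGroup.mem_iff'.mpr (by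
    have h := congrArg (fun X : M4 => X.map F4.frob) (SymplecticGroup.mem_iff'.mp A.2)
    simp only [Matrix.map_mul, Matrix.transpose_map] at h
    have hJ : (Matrix.J (Fin 2) F4).map F4.frob = Matrix.J (Fin 2) F4 := by decide +kernel
    rwa [hJ] at h)⟩

theorem sig_rho (A : Sp) : sig * rho A * sig⁻¹ = rho (frobMat A) := by
  rw [mul_inv_eq_iff_eq_mul]
  refine Equiv.ext fun i => ?_
  show sigFun (act A i) = act (frobMat A) (sigFun i)
  rw [act, sigFun_idx (mulVec_ne A (pt_ne i))]
  have hne : (fun j => F4.frob (pt i j)) ≠ 0 := fun h =>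
    pt_ne i (funext fun j => (map_eq_zero F4.frob).mp (congrFun h j))
  rw [sigFun, act_idx _ hne]
  congr 1
  funext j
  exact RingHom.map_mulVec F4.frob (A : M4) (pt i) j

/-- Semilinear symplectic maps on points. -/
def Gamma : Subgroup (Equiv.Perm (Fin 85)) := rho.range ⊔ Subgroup.zpowers sig

theorem sig_mem_normalizer : sig ∈ Subgroup.normalizer (rho.range : Set (Equiv.Perm (Fin 85))) := by
  have hinv : sig⁻¹ = sig := inv_eq_of_mul_eq_one_right sig_mul_self
  have key : ∀ x ∈ rho.range, sig * x * sig⁻¹ ∈ rho.range := by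
    rintro _ ⟨A, rfl⟩
    exact ⟨frobMat A, (sig_rho A).symm⟩
  rw [Subgroup.mem_normalizer_iff]
  refine fun x => ⟨key x, fun h => ?_⟩
  have := key _ h
  rw [hinv] at this
  simpa [← mul_assoc, sig_mul_self, mul_assoc _ sig sig] using this

theorem card_range : Nat.card rho.range = 979200 := by
  rw [← Nat.card_congr (MonoidHom.ofInjective rho_injective).toEquiv,
    FormsLib.card_symplecticGroup, F4.card_eq]
  decide +kernel

theorem card_gamma_le : Nat.card Gamma ≤ 1958400 := by
  have hz : Subgroup.zpowers sig ≤ Subgroup.normalizer (rho.range : Set (Equiv.Perm (Fin 85))) :=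
    Subgroup.zpowers_le.mpr sig_mem_normalizer
  have hc : Nat.card (Subgroup.zpowers sig) ≤ 2 := by
    rw [Nat.card_zpowers]
    exact orderOf_le_of_pow_eq_one (by decide) (by rw [pow_two, sig_mul_self])
  have h := Subgroup.coe_mul_of_right_le_normalizer_left _ _ hz
  have h2 : Nat.card Gamma ≤ Nat.card rho.range * Nat.card (Subgroup.zpowers sig) := by
    rw [Gamma, ← Nat.card_prod]
    refine Nat.card_le_card_of_surjective (fun z : rho.range × Subgroup.zpowers sig =>
      (⟨(z.1 : Equiv.Perm (Fin 85)) * z.2, mul_mem (Subgroup.mem_sup_left z.1.2)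
        (Subgroup.mem_sup_right z.2.2)⟩ : (rho.range ⊔ Subgroup.zpowers sig : Subgroup _))) ?_
    rintro ⟨x, hx⟩
    obtain ⟨a, ha, b, hb, rfl⟩ := ((Set.ext_iff.mp h x).mp hx)
    exact ⟨(⟨a, ha⟩, ⟨b, hb⟩), rfl⟩
  refine h2.trans ((Nat.mul_le_mul_left _ hc).trans ?_)
  rw [card_range]

/-- Matrix from a list of rows. -/
def matOf (rows : List (List ℕ)) : M4 := Matrix.of fun i j =>
  let n : Fin 2 ⊕ Fin 2 → ℕ := fun
    | .inl k => k
    | .inr k => 2 + k
  ⟨⟨((rows.getD (n i) []).getD (n j) 0) % 4, Nat.mod_lt _ (by decide)⟩⟩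

theorem matData_symplectic : ∀ e ∈ matData,
    (matOf e.1)ᵀ * Matrix.J (Fin 2) F4 * matOf e.1 = Matrix.J (Fin 2) F4 := by decide +kernel

theorem matData_perm : ∀ k : Fin 7, ∀ i : Fin 85, table.img k.val i.val =
    (idx (matOf (matData.getD k.val default).1 *ᵥ
      (if (matData.getD k.val default).2 then fun j => F4.frob (pt i j) else pt i))).val := by
  decide +kernel

theorem table_mem_gamma (x : ℕ) : table.permOf table_invol x ∈ Gamma := by
  rcases Nat.lt_or_ge x 7 with hx | hx
  · have hk := matData_perm ⟨x, hx⟩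
    set e := matData.getD x default with he
    have hmem : e ∈ matData := by
      have hlen : matData.length = 7 := by decide +kernel
      rw [he, List.getD_eq_getElem _ _ (hlen ▸ hx)]
      exact List.getElem_mem _
    let A : Sp := ⟨matOf e.1, SymplecticGroup.mem_iff'.mpr (matData_symplectic e hmem)⟩
    have : table.permOf table_invol x = rho A * (if e.2 then sig else 1) := by
      refine Equiv.ext fun i => Fin.ext ?_
      show table.img x i.val = _
      rw [hk i]
      cases e.2 with
      | false => rfl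
      | true =>
        show _ = (act A (sigFun i)).val
        have hne : (fun j => F4.frob (pt i j)) ≠ 0 := fun h =>
          pt_ne i (funext fun j => (map_eq_zero F4.frob).mp (congrFun h j))
        show _ = (act A (idx fun j => F4.frob (pt i j))).val
        rw [act_idx A hne]
        rfl
    rw [this]
    refine mul_mem (Subgroup.mem_sup_left ⟨A, rfl⟩) ?_
    split
    · exact Subgroup.mem_sup_right (Subgroup.mem_zpowers sig)
    · exact one_mem _
  · rw [show table.permOf table_invol x = 1 from
      Equiv.ext fun i => Fin.ext (by simp [Table.permOf, Table.img, Table.blt_false (show table.ngen ≤ x from hx)])]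
    exact one_mem _

end Cfsg.Agent.Enum.HeSp
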