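import Cfsg.Agent.Lib.Enum.HeMain
import Cfsg.Agent.Lib.Enum.HeSpGeom

/-!
# The subgroup of index 2058 in the presented Held group is `Sp_4(4) : 2`
-/

set_option autoImplicit false
set_option maxRecDepth 10000

namespace Cfsg.Agent.Enum.HeSp

open Cfsg.Agent.Enum

/-- Block of a coset; `85` outside the blocks. -/
def blk (i : ℕ) : ℕ := field 8 blkData i

theorem blocks_ok : allRange (fun i => !Nat.blt (blk i) 85 ||
    (List.range 7).all (fun k => Nat.beq (blk (HeA.table.imgWord (words.getD k []) i)) (table.img k (blk i))))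
      64 0 2058 = true := by
  decide +kernel

theorem reps_ok : ∀ k : Fin 85, repData.getD k.val 0 < 2058 ∧ blk (repData.getD k.val 0) = k.val := by
  decide +kernel

theorem words_sq : (List.range 7).all
    (fun k => HeA.table.chkWord (words.getD k [] ++ words.getD k [])) = true := by
  decide +kernel

/-- The generators used for the action on blocks. -/
noncomputable def gen (k : ℕ) : presHe.Grp := ((words.getD k []).map presHe.g).prod

theorem words_junk (k : ℕ) (hk : 7 ≤ k) : words.getD k [] = [] :=
  List.getD_eq_default _ _ (by simpa [words] using hk)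

theorem gen_mul_self (k : ℕ) : gen k * gen k = 1 := by
  rcases Nat.lt_or_ge k 7 with hk | hk
  · obtain ⟨φ, hφ, -, hinj⟩ := HeM.rep
    apply hinj
    have h := Table.prod_permOf HeA.table HeA.certified.invol
      (List.all_eq_true.mp words_sq k (List.mem_range.mpr hk))
    rw [map_one, gen, ← List.prod_append, ← List.map_append, map_list_prod, List.map_map,
      show ((words.getD k [] ++ words.getD k []).map (φ ∘ presHe.g)) =
        (words.getD k [] ++ words.getD k []).map (HeA.table.permOf HeA.certified.invol) from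
        List.map_congr_left fun y _ => hφ y]
    exact h
  · rw [gen, List.getD_eq_default _ _ (show words.length ≤ k from hk)]
    simp

theorem gen_mem (k : ℕ) : gen k ∈ HeA.sub := by
  have hs : ∀ w ∈ HeA.data.subs, (w.map presHe.g).prod ∈ HeA.sub := fun w hw =>
    Subgroup.subset_closure ⟨w, hw, rfl⟩
  match k with
  | 0 => exact hs [0] (by decide +kernel)
  | 1 => exact hs [2] (by decide +kernel)
  | 2 => exact hs [3] (by decide +kernel)
  | 3 => exact hs [4] (by decide +kernel)
  | 4 => exact hs [5] (by decide +kernel)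
  | 5 => exact hs [0, 1, 0, 1] (by decide +kernel)
  | 6 =>
    have h := mul_mem (hs (List.replicate 7 [1, 2, 3, 4]).flatten (by decide +kernel))
      (hs [0] (by decide +kernel))
    rw [← List.prod_append, ← List.map_append] at h
    exact h
  | k + 7 =>
    rw [gen, List.getD_eq_default _ _ (show words.length ≤ k + 7 from Nat.le_add_left 7 k)]
    exact one_mem _

/-- The generators inside the subgroup. -/
noncomputable def genSub (k : ℕ) : HeA.sub := ⟨gen k, gen_mem k⟩

theorem genSub_closure : Subgroup.closure (Set.range genSub) = ⊤ := by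
  apply Subgroup.map_injective HeA.sub.subtype_injective
  rw [MonoidHom.map_closure, ← MonoidHom.range_eq_map, Subgroup.range_subtype]
  refine le_antisymm ((Subgroup.closure_le _).mpr ?_) ?_
  · rintro _ ⟨a, -, rfl⟩
    exact a.2
  · set S := Subgroup.closure (HeA.sub.subtype '' Set.range genSub)
    have hk : ∀ k, gen k ∈ S := fun k => Subgroup.subset_closure ⟨genSub k, ⟨k, rfl⟩, rfl⟩
    refine (Subgroup.closure_le _).mpr ?_
    rintro _ ⟨w, hw, rfl⟩
    simp only [HeA.data, List.mem_cons, List.not_mem_nil, or_false] at hw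
    rcases hw with rfl | rfl | rfl | rfl | rfl | rfl | rfl
    · exact hk 0
    · exact hk 1
    · exact hk 2
    · exact hk 3
    · exact hk 4
    · exact hk 5
    · have h := mul_mem (hk 6) (inv_mem (hk 0))
      show ((_ : List ℕ).map presHe.g).prod ∈ S
      convert h using 1
      simp [gen, words, List.map_append, mul_assoc]

theorem exists_block_perm {φ : presHe.Grp →* Equiv.Perm (Fin HeA.table.N)}
    (hφ : ∀ x, φ (presHe.g x) = HeA.table.permOf HeA.certified.invol x) (h : HeA.sub) :
    ∃ σ : Equiv.Perm (Fin 85), ∀ (i : Fin HeA.table.N) (b : Fin 85), blk i = b.val →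
      blk (φ h i) = (σ b).val := by
  have hh : h ∈ Subgroup.closure (Set.range genSub) := genSub_closure ▸ Subgroup.mem_top h
  induction hh using Subgroup.closure_induction with
  | mem a ha =>
    obtain ⟨k, rfl⟩ := ha
    refine ⟨table.permOf table_invol k, fun i b hb => ?_⟩
    have hrev : gen k = ((words.getD k []).map presHe.g).reverse.prod := by
      rw [Data.reverse_prod _ presHe.g_mul_self]
      exact (inv_eq_of_mul_eq_one_right (gen_mul_self k)).symm
    have himg : (φ (gen k) i : ℕ) = HeA.table.imgWord (words.getD k []) i := by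
      rw [hrev, map_list_prod, List.map_reverse, List.map_map,
        show ((words.getD k []).map (φ ∘ presHe.g)) =
          (words.getD k []).map (HeA.table.permOf HeA.certified.invol) from
          List.map_congr_left fun y _ => hφ y,
        ← Equiv.Perm.smul_def, ← Data.act_eq, Table.act_permOf]
    show blk (φ (gen k) i : ℕ) = (table.img k b.val)
    rw [himg]
    rcases Nat.lt_or_ge k 7 with hk | hk
    · have h1 := allRange_spec 64 0 2058 blocks_ok i (Nat.zero_le _) (by
        have : (i : ℕ) < 2058 := i.2
        simpa using this)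
      simp only [Bool.or_eq_true, Bool.not_eq_true', List.all_eq_true] at h1
      rcases h1 with h1 | h1
      · rw [hb, Table.blt_true b.2] at h1
        exact absurd h1 (by decide)
      · rw [Table.beq_eq (h1 k (List.mem_range.mpr hk)), hb]
    · rw [List.getD_eq_default _ _ (show words.length ≤ k from hk)]
      show blk (i : ℕ) = table.img k b.val
      rw [hb, Table.img, Table.blt_false (show table.ngen ≤ k from hk)]
      rfl
  | one => exact ⟨1, fun i b hb => by simpa using hb⟩
  | mul a b _ _ iha ihb =>
    obtain ⟨σ, hσ⟩ := iha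
    obtain ⟨τ, hτ⟩ := ihb
    refine ⟨σ * τ, fun i c hc => ?_⟩
    rw [Subgroup.coe_mul, map_mul, Equiv.Perm.mul_apply, Equiv.Perm.mul_apply]
    exact hσ _ _ (hτ i c hc)
  | inv a _ iha =>
    obtain ⟨σ, hσ⟩ := iha
    refine ⟨σ⁻¹, fun i c hc => ?_⟩
    -- the inverse is a power
    have hpow : ∀ n : ℕ, ∀ (i : Fin HeA.table.N) (b : Fin 85), blk i = b.val →
        blk ((φ a ^ n) i) = ((σ ^ n) b).val := by
      intro n
      induction n with
      | zero => exact fun i b hb => by simpa using hb
      | succ n ih =>
        intro i b hb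
        rw [pow_succ', pow_succ', Equiv.Perm.mul_apply, Equiv.Perm.mul_apply]
        exact hσ _ _ (ih i b hb)
    have hm : 1 ≤ orderOf (φ a) * orderOf σ := Nat.mul_pos (orderOf_pos _) (orderOf_pos _)
    have e1 : (φ ↑a)⁻¹ = φ ↑a ^ (orderOf (φ a) * orderOf σ - 1) := by
      refine inv_eq_of_mul_eq_one_right ?_
      rw [← pow_succ', Nat.sub_add_cancel hm, pow_mul, pow_orderOf_eq_one, one_pow]
    have e2 : σ⁻¹ = σ ^ (orderOf (φ a) * orderOf σ - 1) := by
      refine inv_eq_of_mul_eq_one_right ?_
      rw [← pow_succ', Nat.sub_add_cancel hm, mul_comm, pow_mul, pow_orderOf_eq_one, one_pow]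
    rw [Subgroup.coe_inv, map_inv, e1, e2]
    exact hpow _ i c hc

theorem block_rep : ∃ ψ : HeA.sub →* Equiv.Perm (Fin 85),
    ∀ k, ψ (genSub k) = table.permOf table_invol k := by
  obtain ⟨φ, hφ, -, -⟩ := HeM.rep
  choose σ hσ using exists_block_perm hφ
  let r : Fin 85 → Fin HeA.table.N := fun b => ⟨repData.getD b.val 0, (reps_ok b).1⟩
  have huniq : ∀ (h : HeA.sub) (τ : Equiv.Perm (Fin 85)),
      (∀ b, blk (φ h (r b)) = (τ b).val) → σ h = τ := fun h τ hτ =>
    Equiv.ext fun b => Fin.ext ((hσ h (r b) b (reps_ok b).2).symm.trans (hτ b))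
  refine ⟨MonoidHom.mk' σ fun a b => huniq _ _ fun c => ?_, fun k => ?_⟩
  · rw [Subgroup.coe_mul, map_mul, Equiv.Perm.mul_apply, Equiv.Perm.mul_apply]
    exact hσ a _ _ (hσ b _ _ (reps_ok c).2)
  · obtain ⟨τ, hτ⟩ : ∃ τ, τ = table.permOf table_invol k := ⟨_, rfl⟩
    refine huniq _ _ fun b => ?_
    have hrev : gen k = ((words.getD k []).map presHe.g).reverse.prod := by
      rw [Data.reverse_prod _ presHe.g_mul_self]
      exact (inv_eq_of_mul_eq_one_right (gen_mul_self k)).symm
    have himg : (φ (gen k) (r b) : ℕ) = HeA.table.imgWord (words.getD k []) (r b) := by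
      rw [hrev, map_list_prod, List.map_reverse, List.map_map,
        show ((words.getD k []).map (φ ∘ presHe.g)) =
          (words.getD k []).map (HeA.table.permOf HeA.certified.invol) from
          List.map_congr_left fun y _ => hφ y,
        ← Equiv.Perm.smul_def, ← Data.act_eq, Table.act_permOf]
    show blk (φ (gen k) (r b) : ℕ) = (table.img k b.val)
    rw [himg]
    rcases Nat.lt_or_ge k 7 with hk | hk
    · have h1 := allRange_spec 64 0 2058 blocks_ok (r b) (Nat.zero_le _) (by
        have : ((r b : Fin HeA.table.N) : ℕ) < 2058 := (r b).2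
        simpa using this)
      simp only [Bool.or_eq_true, Bool.not_eq_true', List.all_eq_true] at h1
      have hb : blk (r b : ℕ) = b.val := (reps_ok b).2
      rcases h1 with h1 | h1
      · rw [hb, Table.blt_true b.2] at h1
        exact absurd h1 (by decide)
      · rw [Table.beq_eq (h1 k (List.mem_range.mpr hk)), hb]
    · rw [List.getD_eq_default _ _ (show words.length ≤ k from hk)]
      show blk (r b : ℕ) = table.img k b.val
      rw [Table.img, Table.blt_false (show table.ngen ≤ k from hk)]
      exact (reps_ok b).2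

theorem card_sub : Nat.card HeA.sub = 1958400 := by
  have h := Subgroup.index_mul_card HeA.sub
  rw [HeA.index_sub, HeM.card_grp] at h
  omega

theorem exists_normal_sp : ∃ N : Subgroup HeA.sub, N.Normal ∧ N.index = 2 ∧
    Nonempty (N ≃* Matrix.symplecticGroup (Fin 2) F4) := by
  obtain ⟨ψ, hψ⟩ := block_rep
  obtain ⟨-, hinj⟩ := card_eq_and_injective (G := HeA.sub) (g := genSub)
    (fun k => Subtype.ext (gen_mul_self k)) table_invol ψ hψ levels_chain levels_ok levels_prod
    card_sub.le
  have hle : ψ.range ≤ Gamma := by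
    rw [MonoidHom.range_eq_map, ← genSub_closure, MonoidHom.map_closure, Subgroup.closure_le]
    rintro _ ⟨_, ⟨k, rfl⟩, rfl⟩
    rw [hψ]
    exact table_mem_gamma k
  have heq : ψ.range = Gamma := by
    refine Subgroup.eq_of_le_of_card_ge hle ?_
    have hc : Nat.card ψ.range = 1958400 :=
      (Nat.card_congr (MonoidHom.ofInjective hinj).toEquiv).symm.trans card_sub
    exact card_gamma_le.trans hc.ge
  set N := rho.range.comap ψ with hN
  have hmap : N.map ψ = rho.range :=
    Subgroup.map_comap_eq_self (heq ▸ le_sup_left)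
  have e : N ≃* Matrix.symplecticGroup (Fin 2) F4 :=
    ((Subgroup.equivMapOfInjective N ψ hinj).trans (MulEquiv.subgroupCongr hmap)).trans
      (MonoidHom.ofInjective rho_injective).symm
  have hi : N.index = 2 := by
    have h := Subgroup.index_mul_card N
    have hc : Nat.card N = 979200 := by
      rw [← card_range, ← hmap]
      exact (Subgroup.card_map_of_injective hinj).symm
    rw [card_sub, hc] at h
    omega
  exact ⟨N, Subgroup.normal_of_index_eq_two hi, hi, ⟨e⟩⟩

theorem transfer {G : Type} [Group G] {H H' : Subgroup G} (e : H = H')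
    (h : ∃ N : Subgroup H', N.Normal ∧ N.index = 2 ∧
      Nonempty (N ≃* Matrix.symplecticGroup (Fin 2) F4)) :
    ∃ (N : Subgroup H) (K : Type) (_ : Field K) (_ : Fintype K), N.Normal ∧ N.index = 2 ∧
      Fintype.card K = 4 ∧ Nonempty (N ≃* Matrix.symplecticGroup (Fin 2) K) := by
  subst e
  obtain ⟨N, h1, h2, h3⟩ := h
  exact ⟨N, F4, inferInstance, inferInstance, h1, h2, F4.card_eq, h3⟩

/-- The permutation realisation. -/
theorem realization : ∃ H : Subgroup (Equiv.Perm (Fin 2058)), Cfsg.IsHe H ∧
    MulAction.IsPretransitive H (Fin 2058) ∧ ∃ (F : Type) (_ : Field F) (_ : Fintype F),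
      Fintype.card F = 4 ∧ ∃ N : Subgroup (MulAction.stabilizer H (0 : Fin 2058)), N.index = 2 ∧
        Nonempty (N ≃* Matrix.symplecticGroup (Fin 2) F) := by
  obtain ⟨φ, hφ, hcard, hinj⟩ := HeM.rep
  let ψ : presHe.Grp →* Equiv.Perm (Fin 2058) := φ
  let e : presHe.Grp ≃* ψ.range := MonoidHom.ofInjective hinj
  have hfix : ∀ (a : presHe.Grp) (i : Fin 2058),
      Table.coset presHe.g HeA.sub HeA.table HeA.data (ψ a i) =
        a • Table.coset presHe.g HeA.sub HeA.table HeA.data i :=
    fun a i => transversal_fix HeA.certified φ hφ a i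
  have hbij := Table.coset_bijective HeA.certified
  have h0 := Table.coset_zero HeA.certified
  refine ⟨ψ.range, ⟨?_, ?_⟩, ⟨fun i j => ?_⟩, ?_⟩
  · haveI := HeM.isSimple
    exact e.isSimpleGroup_congr.mp inferInstance
  · rw [← Nat.card_congr e.toEquiv, hcard]
  · obtain ⟨a, ha⟩ := QuotientGroup.mk_surjective (Table.coset presHe.g HeA.sub HeA.table HeA.data i)
    obtain ⟨b, hb⟩ := QuotientGroup.mk_surjective (Table.coset presHe.g HeA.sub HeA.table HeA.data j)
    refine ⟨⟨ψ (b * a⁻¹), ⟨_, rfl⟩⟩, hbij.1 ?_⟩
    show Table.coset presHe.g HeA.sub HeA.table HeA.data (ψ (b * a⁻¹) i) = _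
    rw [hfix, ← ha, ← hb]
    show QuotientGroup.mk (b * a⁻¹ * a) = _
    rw [inv_mul_cancel_right]
  · have hst : HeA.sub.map e.toMonoidHom = MulAction.stabilizer ψ.range (0 : Fin 2058) := by
      ext q
      rw [MulAction.mem_stabilizer_iff]
      constructor
      · rintro ⟨a, ha, rfl⟩
        refine hbij.1 ?_
        show Table.coset presHe.g HeA.sub HeA.table HeA.data (ψ a 0) = _
        rw [hfix]
        show a • Table.coset presHe.g HeA.sub HeA.table HeA.data ⟨0, _⟩ =
          Table.coset presHe.g HeA.sub HeA.table HeA.data ⟨0, _⟩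
        rw [h0]
        show QuotientGroup.mk (a * 1) = _
        rw [mul_one, QuotientGroup.eq]
        simpa using inv_mem ha
      · intro hq
        obtain ⟨a, ha⟩ := e.surjective q
        refine ⟨a, ?_, ha⟩
        have h1 : ψ a 0 = 0 := by
          have := hq
          rw [← ha] at this
          exact this
        have h2 := hfix a 0
        rw [h1] at h2
        change Table.coset presHe.g HeA.sub HeA.table HeA.data ⟨0, HeA.certified.pos⟩ =
          a • Table.coset presHe.g HeA.sub HeA.table HeA.data ⟨0, HeA.certified.pos⟩ at h2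
        rw [h0] at h2
        change QuotientGroup.mk 1 = QuotientGroup.mk (a * 1) at h2
        simpa [mul_one, QuotientGroup.eq] using h2
    obtain ⟨N, -, hi, ⟨eN⟩⟩ := exists_normal_sp
    let es : HeA.sub ≃* MulAction.stabilizer ψ.range (0 : Fin 2058) :=
      (e.subgroupMap HeA.sub).trans (MulEquiv.subgroupCongr hst)
    refine ⟨F4, inferInstance, inferInstance, F4.card_eq, N.map es.toMonoidHom, ?_, ⟨?_⟩⟩
    · rw [Subgroup.index_map_of_bijective es.bijective, hi]
    · exact (es.subgroupMap N).symm.trans eN

end Cfsg.Agent.Enum.HeSp
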