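import Cfsg.Agent.Lib.Enum.Checker

/-! Generated coset enumeration proof data. -/

set_option autoImplicit false
set_option maxRecDepth 10000

namespace Cfsg.Agent.Enum.HeZ

def f0 : ℕ := 0xf005d0065f0058006930064006800064006b3006b006a1006b006100068006a1006a006030069005d10068005d40068005c20067005c10067005b00066005b20066005a3006500584006400591006400582006300591006300570006200572006200563006100602006100552006000541005f00560005f00553005f00531005e005a0005e00543005e00522005d004f4005d004e1005c004e2005b004d0005a004d3005a004c10059004b40058004b20058004a20057004900056004930056004830055004530054004410048005300053004520053004310052004c40052005000052004420052004220050005140051004230051004110050003f3004f00404004f003e2004e003e1004d003e3004d003d4004c003f0004c003d2004b003c4004a003c3004a003b10049003c30049003a00048003a40048003920047003a10047003840047003700046003840046003620045003520044003200043003530043003100042003230042003040041002f40040002d0003f002c3003e002b4003d002c1003d002b3003c002a4003b00291003a002a4003a002800039002840038002720037002810037002700036002720036002510035002530035002420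034002c10034002300033002320033002110032002130032001f00031002410031001e20030002400030001f40030001d3002f001d40024002e10026002e2002e001d3002d001c1002c001c4002b001c2002b001b4002a001a30029001a10028001a2002700180002600194002600170002500183002500171002400172002300162002200191002200154002200140002100163002100130002000154002000121001f00134001f00110001e00100001d00111001d000f2001c000e4001b000e3001b000d2001a000c40019000b10018000c30018000b00017000b10016000e30016000a40015000920014000b10014000900013000a4001300080001200092001200081001100081001000070000f00063000e00054000d00043000c00031000b00031000a00054000a0002200090002000080002000070003200070001100060001400050000300040000200030000100020000000010000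
def n0 : ℕ := 0x10061100603005d4005c1005b2005a30058100581005720056200552005430053300524004e1004e2004d3004c1004b2004a200493004830045300442004320042300411003f4003e2003e3003d0003d2003c3003b3003a400394003740036200352003230031300304002f4002d0002c3002b1002b3002a4002940028000284002710027200253002410023200213001f1001e4001d3001d2001d3001c1001c2001b4001a3001a1001a200184001730017100172001640014300134001240011000101000f2000e3000d2000c4000b3000b0000b3000a40009100094000820008100081000700006300054000430003100034000220002000022000110001400003000020000100000000000000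
def baseRels : List (List ℕ) := [[0, 0], [1, 1], [2, 2], [3, 3], [4, 4], [0, 1, 0, 1, 0, 1, 0, 1], [0, 2, 0, 2], [0, 3, 0, 3], [0, 4, 0, 4], [1, 2, 1, 2, 1, 2], [1, 3, 1, 3], [1, 4, 1, 4], [2, 3, 2, 3, 2, 3, 2, 3, 2, 3, 2, 3, 2, 3, 2, 3, 2, 3, 2, 3], [2, 4, 2, 4], [3, 4, 3, 4, 3, 4], [4, 2, 1, 0, 2, 1, 0, 2, 1, 0], [0, 3, 2, 3, 2, 3, 2, 3, 2, 3, 2], [], [0, 0], [1, 1], [2, 2], [3, 3], [4, 4]]

def provenance : List (ℕ × ℕ) := [(6, 1), (11, 1), (8, 1), (9, 0), (10, 1), (14, 0), (5, 1), (7, 1), (13, 1), (13, 0), (15, 4), (11, 0), (8, 0), (14, 1), (15, 0), (16, 4), (15, 8), (10, 0), (7, 0), (3, 0)]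

def data : Cfsg.Agent.Enum.Data where
  facts := (.leaf f0)
  nodes := (.leaf n0)
  rels := [[2, 0, 2, 0], [4, 1, 4, 1], [4, 0, 4, 0], [1, 2, 1, 2, 1, 2], [3, 1, 3, 1], [3, 4, 3, 4, 3, 4], [1, 0, 1, 0, 1, 0, 1, 0], [3, 0, 3, 0], [4, 2, 4, 2], [2, 4, 2, 4], [2, 1, 0, 2, 1, 0, 4, 2, 1, 0], [1, 4, 1, 4], [0, 4, 0, 4], [4, 3, 4, 3, 4, 3], [4, 2, 1, 0, 2, 1, 0, 2, 1, 0], [2, 3, 2, 3, 2, 3, 2, 0, 3, 2, 3], [1, 0, 4, 2, 1, 0, 2, 1, 0, 2], [1, 3, 1, 3], [0, 3, 0, 3], [3, 3]]
  subs := []

end Cfsg.Agent.Enum.HeZ
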