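import Cfsg.Agent.Lib.Enum.HeZData

/-! Generated coset enumeration proof steps. -/

set_option autoImplicit false
set_option maxRecDepth 10000

namespace Cfsg.Agent.Enum.HeZ

def st0 : List ℕ := [0x0, 0x0, 0x0, 0x0, 0x0, 0x0, 0x0, 0x4000010000d00000300070001, 0x0, 0x0, 0x0, 0x80000300015000003000a0003, 0x0, 0x0, 0x0, 0x0, 0x0, 0x0, 0x0, 0x0, 0x12000110002700000300120001, 0x0, 0x14000110002b00000300130005, 0x0, 0x180000400003000130002f00000500140007, 0x0, 0x0, 0x1e000170003500000300160009, 0x0, 0x0, 0x1a000190003b00000300180009, 0x0, 0x0, 0x0, 0x1e00008000070001d00043000005001b000b, 0x0, 0x0, 0x240001000002000010000b0002100049000007001d000d, 0x0, 0x0, 0x2a000250004f000003001f0003, 0x0, 0x32000290005300000300200005, 0x0, 0x340002d000570000030021000f, 0x0, 0x320002f0005b00000300220003, 0x3e000310005b00000300220011, 0x0, 0x0, 0x0, 0x3a00039000650000030025000f, 0x0, 0x3e000390006900000300260005, 0x0, 0x0, 0x0, 0x0, 0x0, 0x460004500075000003002b0013, 0x0, 0x0, 0x0, 0x6a0005f0005c000550005200026000250004b0007c008001001d0015,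 0x62000690007f00200100260017, 0x0, 0x0, 0x4e0004b0008500000300300005, 0x800007c0008500000300300011, 0x0, 0x6200038000180000f000230004d0008b0000070031000d, 0x0, 0x56000510008f00000300320009, 0x0, 0x60000590009300000300330001, 0x0, 0x780004600037000610009700000500340007, 0x0, 0x64000630009b00000300350009, 0x0, 0x6c000670009f00000300360001, 0x0, 0x6e000400003d0006d000a300000500370007, 0x0, 0x0, 0x0, 0x720006f000ab000003003a0003, 0x0, 0x0, 0x0, 0x7800077000b3000003003d0017, 0x0, 0x0, 0x0, 0x0, 0x0, 0x8e00087000bf0000030042000f, 0x0, 0x9a0008d000c30000030043000f, 0x0, 0x0, 0x0, 0xa6000a1000cb00000300460005, 0x0, 0xa6000a3000cf00000300470003, 0xaa000a5000cf00000300470011, 0x0, 0xaa000a9000d500000300480005, 0x0, 0xb0000ad000d900000300490009, 0x0, 0xb00007200071000af000dd000005004a000b, 0x0, 0x0, 0xb8000b5000e3000003004c0019, 0x0, 0xb6000b3000e7000003004d0009, 0x0, 0x0, 0xba0007a00077000b7000ed000005004f001b, 0x0, 0x0, 0xbe0008400083000bd000f30000050051000b, 0xf0000b80009900096000950009200091000c1000f40080010042001d,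 0x0, 0xc6000c1000f900000300520001, 0xf6000f4000f900000300520013, 0xe4000f1000fd00000300520003, 0x0, 0xc8000c50010100000300530001, 0xd6000d3000d0000cd000ca0009e0009d000c50010000800100430015, 0x0, 0x0, 0x0, 0xd8000d70010b0000030056000f, 0x0, 0x0, 0xe0000df0011100000300580013, 0x0, 0x0, 0xe6000e300117000003005a000f, 0x0, 0x0, 0x0, 0xec000eb0011f000003005d0011, 0x0, 0x106000fb00123000003005e000f, 0x116000ff00123000003005e0009, 0x0, 0x1080010300129000003005f000f, 0x10a0010400129000003005f0009, 0x0, 0x0, 0x12e00106000fb000f8000be000880009b000c9001090013100000a0061001f, 0x0, 0x10e0010d0013500000300620001, 0x0, 0x114000e0000db0010f0013900000500630007, 0x0, 0x114001130013d00000300640017, 0x0, 0x0, 0x11a001190014300000300660001, 0x0, 0x11c000ea000e90011b0014700000500670007, 0x0, 0x11e0011d0014b00000300680003, 0x0, 0x0, 0x14a0014900146001450014200127001240012f0015000800100600021, 0x0, 0x1500013300155000003006b0023, 0x13e0013b0013800137001340012d0012a001310015400800100610021, 0x152001570015900000300640025, 0x13d0014e0014d0015b00100300640009,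 0x1400015c0014e000003005d0027]
theorem chk0 : data.chkSteps 0 st0 = true := by decide +kernel

end Cfsg.Agent.Enum.HeZ
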