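import Mathlib
import Cfsg.Prelude.Def_Spor_He
import Cfsg.Agent.Lib.Enum.Pres

/-!
# The presentation of He as words
-/

set_option autoImplicit false
set_option maxRecDepth 4000

namespace Cfsg.Agent.Enum

open Cfsg.Spor

theorem presWordsHe {M : Type} [Group M] (f : He.Gen → M) (hf : ∀ a, f a * f a = 1) :
    He.extra.map (FreeGroup.lift f) =
      ([[4, 6, 5, 6, 5], [4, 2, 1, 0, 2, 1, 0, 2, 1, 0], [0, 3, 2, 3, 2, 3, 2, 3, 2, 3, 2], [2, 3, 5, 6, 2, 3, 5, 6, 2, 3, 5, 6, 2, 3, 5, 6]] : List (List ℕ)).map fun w =>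
        (w.map fun i => ((([.a, .b, .c, .d, .e, .f, .g] : List He.Gen)[i]?).map f).getD 1).prod := by
  have hinv : ∀ a, (f a)⁻¹ = f a := fun a => inv_eq_of_mul_eq_one_right (hf a)
  simp [He.extra, hinv, pow_succ, mul_assoc, mul_inv_rev, -inv_pow]

/-- The presentation of He. -/
def presHe : Pres He.Gen where
  gens := [.a, .b, .c, .d, .e, .f, .g]
  edges := He.edges
  extra := He.extra
  extraWords := [[4, 6, 5, 6, 5], [4, 2, 1, 0, 2, 1, 0, 2, 1, 0], [0, 3, 2, 3, 2, 3, 2, 3, 2, 3, 2], [2, 3, 5, 6, 2, 3, 5, 6, 2, 3, 5, 6, 2, 3, 5, 6]]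
  complete := fun a => by cases a <;> decide
  nodup := by decide
  node := fun a => by cases a <;> decide
  words_eq := fun f hf => presWordsHe f hf

theorem presHe_relSet :
    presHe.relSet = coxRelators He.edges ∪ {r | r ∈ He.extra} := rfl

end Cfsg.Agent.Enum
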