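import Mathlib
import Cfsg.Prelude.Def_Spor_Suz
import Cfsg.Agent.Lib.Enum.Pres

/-!
# The presentation of Suz as words
-/

set_option autoImplicit false
set_option maxRecDepth 4000

namespace Cfsg.Agent.Enum

open Cfsg.Spor

theorem presWordsSuz {M : Type} [Group M] (f : Suz.Gen → M) (hf : ∀ a, f a * f a = 1) :
    Suz.extra.map (FreeGroup.lift f) =
      ([[0, 3, 2, 3, 2, 3, 2, 3, 2], [0, 6, 5, 6, 5], [0, 1, 2, 5, 0, 1, 2, 5, 0, 1, 2, 5, 0, 1, 2, 5, 0, 1, 2, 5], [1, 5, 6, 1, 5, 6, 1, 5, 6, 1, 5, 6, 1, 5, 6], [1, 2, 3, 2, 3, 1, 2, 3, 2, 3, 1, 2, 3, 2, 3, 1, 2, 3, 2, 3, 1, 2, 3, 2, 3, 4, 1, 2, 3, 2, 3, 1, 2, 3, 2, 3, 1, 2, 3, 2, 3, 1, 2, 3, 2, 3, 1, 2, 3, 2, 3, 4, 1, 2, 3, 2, 3, 1, 2, 3, 2, 3, 1, 2, 3, 2, 3, 1, 2, 3, 2, 3, 1, 2, 3, 2, 3, 4]] : List (List ℕ)).map fun w =>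
        (w.map fun i => ((([.a, .b, .c, .d, .e, .f, .g] : List Suz.Gen)[i]?).map f).getD 1).prod := by
  have hinv : ∀ a, (f a)⁻¹ = f a := fun a => inv_eq_of_mul_eq_one_right (hf a)
  simp [Suz.extra, hinv, pow_succ, mul_assoc, mul_inv_rev, -inv_pow]

/-- The presentation of Suz. -/
def presSuz : Pres Suz.Gen where
  gens := [.a, .b, .c, .d, .e, .f, .g]
  edges := Suz.edges
  extra := Suz.extra
  extraWords := [[0, 3, 2, 3, 2, 3, 2, 3, 2], [0, 6, 5, 6, 5], [0, 1, 2, 5, 0, 1, 2, 5, 0, 1, 2, 5, 0, 1, 2, 5, 0, 1, 2, 5], [1, 5, 6, 1, 5, 6, 1, 5, 6, 1, 5, 6, 1, 5, 6], [1, 2, 3, 2, 3, 1, 2, 3, 2, 3, 1, 2, 3, 2, 3, 1, 2, 3, 2, 3, 1, 2, 3, 2, 3, 4, 1, 2, 3, 2, 3, 1, 2, 3, 2, 3, 1, 2, 3, 2, 3, 1, 2, 3, 2, 3, 1, 2, 3, 2, 3, 4, 1, 2, 3, 2, 3, 1, 2, 3, 2, 3, 1, 2, 3, 2, 3, 1, 2, 3, 2, 3, 1, 2, 3, 2, 3, 4]]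
  complete := fun a => by cases a <;> decide
  nodup := by decide
  node := fun a => by cases a <;> decide
  words_eq := fun f hf => presWordsSuz f hf

theorem presSuz_relSet :
    presSuz.relSet = coxRelators Suz.edges ∪ {r | r ∈ Suz.extra} := rfl

end Cfsg.Agent.Enum
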