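import Cfsg.Agent.Lib.Enum.Bound
import Cfsg.Agent.Lib.Enum.SuzGData

/-! Generated: the list of cosets is closed. -/

set_option autoImplicit false
set_option maxRecDepth 10000

namespace Cfsg.Agent.Enum.SuzG

open Cfsg.Agent.Enum

def rep0 : ℕ := 0x87006f006d00520051004f004e004c003b003a00390038003700360035003400320031002f002d002b00290027002600250024002300210020001f001e001d001b001a0019001800170016001500140013001200110010000f000e000d000b00080007000600050003000200010000

/-- The list of cosets. -/
def cover : CoverData where
  N := 56
  ngen := 5
  nf := 497
  reps := (.leaf rep0)

def it0 : List ℕ := [0x100008000000006000000004000000002000000000, 0x900010000e00010000c00020001000010000a, 0x200012000200014000300016000100011000800357, 0x30035b00090003c00020001700030003a000400359, 0x400361000a0004200080035f00050001c00030035d, 0xc0004c000b0004800060001e00040001d000700363, 0x700020000e0005600050001f000d00054000c0004e, 0x60002100100005e000c00050000f00058000500365, 0x80036d00080036b000400369001100064000200367, 0x90004000030003d00120006a00090003e000a00044, 0xa0004600040004300130006e000b0004a000900045, 0x1500078000500049001400076000a0004b001000060, 0x50004d00150007c000700051000c0005200060004f,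 0x160036f001700082001100068000600055001600080, 0x100006200060005700180008800170008400150007a, 0x1a0009000190008a000f0005a000700059000f0005c, 0xe0006300070005f001b0009800190008e000b00061, 0x1c00371001100066000d00069000800065001c0009e, 0x120006c00130007400090006b001d000aa001300070, 0x1300072001200075000a0006f001e000ae001200071, 0x21000b80020000b6000b00077001f000b2001b0009a, 0xb00079000c0007d0021000bc00150007e000e0007b, 0xd003750022000c0001c000a0001a00373000d00081, 0x2200377000d000830023000c6000e000850022000c2, 0x1b0009c002400379000e000890024000cc0021000ba, 0x250037b000f0008b0025000d000100008f00190008c, 0xf0009100250037f001a0009400160037d001a00092, 0x180009d0027000dc0010000990026000da00140009b, 0x1100381001c000a20016000a1001c000a400110009f, 0x29000ec001e000b0001d000ac0012000ab0028000e8, 0x2b000f6001d000b1001f000b40013000af002a000f2, 0x2e00104002d00100001e000b50014000b3002c000fc, 0x2f0010e0014000b7002f00108002d001020027000de, 0x14000b9002f0010c0015000bd0028003830018000bb, 0x17003890016000c10026003870025003850017000c3, 0x260039100260038f0017000c700270038d00260038b, 0x27003990018003970027003950018000cd002f00393, 0x190039f001a0039d0019000d100220039b0025000d2, 0x23003a70023003a50022003a3001b000db0023003a1,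 0x24003ad001b000dd0024003ab0023003a90020000df, 0x3000146002a000f40028000ea0021003af001d000e9, 0x1d000ed002b000f80029000ee0029000f0003000148, 0x31001500028000f5002c000fe002f003b1001e000f3, 0x1e000f70029000f9002e00106002b000fa003100152, 0x330015e0032003b3002a000ff003200156001f000fd, 0x3400164001f001010032003b70020001030032003b5, 0x1f00105003400166002b001070030003b9003300160, 0x200010f00210010d002000109002a003bd0024003bb, 0x280014700310015400300014a002e003bf002900149, 0x2a001510030001550033001620034003c1002b00153, 0x35001c2002c003c7002d003c5002c00157002d003c3, 0x2c0015f0035003c90031001630036001cc002e00161, 0x2d00165002e001670035003cf0031003cd0035003cb, 0x32001c30033003d50034003d30037002240034003d1, 0x37002260037003db0037003d90033001cd0036003d7, 0x36002270036003e10036003df0035002250037003dd]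
theorem chkIt0 : cover.chkItems data 0 it0 = true := by decide +kernel

theorem edges0 : EdgesUpto cover data 0 := edgesUpto_zero _ _
theorem edges1 : EdgesUpto cover data 56 := edgesUpto_step (k := 0) it0 chkIt0 (by decide +kernel) edges0

end Cfsg.Agent.Enum.SuzG
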