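import Cfsg.Agent.Lib.Enum.SuzMain
import Cfsg.Agent.Lib.Enum.SuzECover
import Cfsg.Agent.Lib.Enum.SuzFCover
import Cfsg.Agent.Lib.Enum.SuzGCover

/-!
# The index of `⟨a, b, c, d, f, g⟩` in the presented Suzuki group
-/

set_option autoImplicit false
set_option maxRecDepth 10000

namespace Cfsg.Agent.Enum.SuzM

open Cfsg.Agent.Enum


theorem card_abcdf : Finite (gensClosure presSuz.g [0, 1, 2, 3, 5]) ∧
    Nat.card (gensClosure presSuz.g [0, 1, 2, 3, 5]) ≤ 56 * (2160 * 1) :=
  step (by decide +kernel) (fun h hgen => SuzG.covers h hgen) rfl (by decide +kernel)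
    (by decide +kernel) card_abcd

theorem card_abcdfg : Finite (gensClosure presSuz.g [0, 1, 2, 3, 5, 6]) ∧
    Nat.card (gensClosure presSuz.g [0, 1, 2, 3, 5, 6]) ≤ 162 * (56 * (2160 * 1)) :=
  step (by decide +kernel) (fun h hgen => SuzF.covers h hgen) rfl (by decide +kernel)
    (by decide +kernel) card_abcdf

theorem coversE : Covers presSuz.g (gensClosure presSuz.g [0, 1, 2, 3, 5, 6]) SuzE.cover SuzE.data := by
  have h : Holding presSuz.g 7 SuzE.baseRels :=
    { invol := presSuz.g_mul_self
      junk := fun x hx => presSuz.g_junk x hx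
      base := fun w hw => by
        have h1 : SuzE.baseRels.all (fun r => r ∈ presSuz.relWords ∨ r = []) = true := by decide +kernel
        have h2 := List.all_eq_true.mp h1 w hw
        simp only [decide_eq_true_eq] at h2
        rcases h2 with h2 | rfl
        · exact presSuz.relWords_one w h2
        · simp }
  rw [← wordClosure_singletons]
  exact SuzE.covers h presSuz.g_gen

theorem index_abcdfg : (gensClosure presSuz.g [0, 1, 2, 3, 5, 6]).index = 22880 := by
  have h1 : (gensClosure presSuz.g [0, 1, 2, 3, 5, 6]).index ≤ 22880 := coversE.index_le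
  have h2 := card_abcdfg.2
  have h3 := Subgroup.index_mul_card (gensClosure presSuz.g [0, 1, 2, 3, 5, 6])
  rw [card_grp] at h3
  by_contra hne
  have h4 := Nat.mul_le_mul (Nat.le_pred_of_lt (lt_of_le_of_ne h1 hne)) h2
  rw [h3] at h4
  exact absurd h4 (by decide +kernel)

end Cfsg.Agent.Enum.SuzM
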