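import Cfsg.Prelude.Def_Sporadic
import Cfsg.Agent.Lib.Enum.Bound
import Cfsg.Agent.Lib.Enum.SuzACert
import Cfsg.Agent.Lib.Enum.SuzALevels
import Cfsg.Agent.Lib.Enum.SuzBCover
import Cfsg.Agent.Lib.Enum.SuzCCover
import Cfsg.Agent.Lib.Enum.SuzDCover
import Cfsg.Agent.Lib.Enum.SuzQCover

/-!
# The presented Suzuki group is simple of order 448345497600
-/

set_option autoImplicit false
set_option maxRecDepth 10000

namespace Cfsg.Agent.Enum.SuzM

open Cfsg.Agent.Enum


theorem step {L L' : List ℕ} {t : CoverData} {d : Data} {base : List (List ℕ)} {n : ℕ}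
    (hbase : subRelsOK L presSuz.relWords base = true)
    (hcov : ∀ {G : Type} [Group G] {g : ℕ → G}, Holding g n base →
      Subgroup.closure (Set.range g) = ⊤ → Covers g (wordClosure g d.subs) t d)
    (hn : L.length = n)
    (hL' : d.subs.map (fun w => w.map fun i => L.getD i 0) = L'.map fun x => [x])
    (hlt : d.subs.all (fun w => w.all fun i => Nat.blt i L.length) = true) {m : ℕ}
    (h : Finite (gensClosure presSuz.g L') ∧ Nat.card (gensClosure presSuz.g L') ≤ m) :
    Finite (gensClosure presSuz.g L) ∧ Nat.card (gensClosure presSuz.g L) ≤ t.N * m :=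
  chain_step (hcov (hn ▸ holding_subGen presSuz.g_mul_self presSuz.relWords_one L hbase) (subGen_gen L))
    hL' hlt h

theorem card_abcd : Finite (gensClosure presSuz.g [0, 1, 2, 3]) ∧
    Nat.card (gensClosure presSuz.g [0, 1, 2, 3]) ≤ 2160 * 1 :=
  step (by decide +kernel) (fun h hgen => SuzD.covers h hgen) rfl (by decide +kernel)
    (by decide +kernel) chain_base

theorem card_abcde : Finite (gensClosure presSuz.g [0, 1, 2, 3, 4]) ∧
    Nat.card (gensClosure presSuz.g [0, 1, 2, 3, 4]) ≤ 280 * (2160 * 1) :=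
  step (by decide +kernel) (fun h hgen => SuzC.covers h hgen) rfl (by decide +kernel)
    (by decide +kernel) card_abcd

theorem card_sub : Finite SuzA.sub ∧ Nat.card SuzA.sub ≤ 416 * (280 * (2160 * 1)) := by
  have h : SuzA.sub = gensClosure presSuz.g [0, 1, 2, 3, 4, 5] := wordClosure_singletons presSuz.g [0, 1, 2, 3, 4, 5]
  rw [h]
  exact step (by decide +kernel) (fun h hgen => SuzB.covers h hgen) rfl (by decide +kernel)
    (by decide +kernel) card_abcde

instance finite_grp : Finite presSuz.Grp := by
  haveI := card_sub.1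
  haveI : Finite (presSuz.Grp ⧸ SuzA.sub) :=
    Nat.finite_of_card_ne_zero (show SuzA.sub.index ≠ 0 by rw [SuzA.index_sub]; decide)
  exact Finite.of_equiv _ (Subgroup.groupEquivQuotientProdSubgroup (s := SuzA.sub)).symm

theorem card_grp_le : Nat.card presSuz.Grp ≤ 448345497600 := by
  rw [← Subgroup.index_mul_card SuzA.sub, SuzA.index_sub]
  exact (Nat.mul_le_mul_left 1782 card_sub.2).trans (by norm_num)

theorem rep : ∃ φ : presSuz.Grp →* Equiv.Perm (Fin SuzA.table.N),
    (∀ x, φ (presSuz.g x) = SuzA.table.permOf SuzA.certified.invol x) ∧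
      Nat.card presSuz.Grp = 448345497600 ∧ Function.Injective φ := by
  obtain ⟨φ, hφ, -⟩ := SuzA.certified.rep_hom
  exact ⟨φ, hφ, card_eq_and_injective presSuz.g_mul_self SuzA.certified.invol φ hφ SuzA.levels_chain
    SuzA.levels_ok SuzA.levels_prod card_grp_le⟩

theorem card_grp : Nat.card presSuz.Grp = 448345497600 := by
  obtain ⟨φ, -, h, -⟩ := rep
  exact h

theorem isSimple : IsSimpleGroup presSuz.Grp := by
  obtain ⟨φ, hφ, hcard, hinj⟩ := rep
  refine isSimpleGroup_of_certs SuzA.certified
    (fun M hM => overgroup_cases SuzA.certified SuzA.suborbits SuzA.suborbits_ok SuzA.sub_words 3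
      (by decide +kernel) (by decide +kernel) (by decide +kernel) [1, 1365, 416] rfl
      (by decide +kernel) (by decide +kernel) (by decide +kernel) M hM)
    φ hφ hinj (by decide +kernel) (p := 11) (e := 1) (m := 40758681600) (by norm_num)
    (by rw [hcard]; rfl) (by norm_num) (by decide +kernel) [5, 4, 3, 2, 6, 1]
    (by decide +kernel) fun N hN hw => ?_
  haveI := hN
  exact eq_top_of_covers rfl rfl (SuzQ.covers
    (holding_quotient presSuz.g_mul_self (fun x hx => presSuz.g_junk x hx) presSuz.relWords_one [5, 4, 3, 2, 6, 1] N hw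
      (by decide +kernel)) (gen_quotient presSuz.g_gen N))

theorem isSuz : Cfsg.IsSuz presSuz.Grp := ⟨isSimple, card_grp⟩

end Cfsg.Agent.Enum.SuzM
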