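import Cfsg.Agent.Lib.Enum.SuzOutBase
import Cfsg.Prelude.Def_KGroupFacts

/-!
The outer automorphism group of the Suzuki sporadic group has order two: rigidity from the
normaliser of a Sylow 13-subgroup and the swap of two nodes of the diagram.
-/

set_option autoImplicit false
set_option maxRecDepth 10000

namespace Cfsg.Agent.Enum.SuzOut

open Cfsg.Agent.Enum

local notation "Grp" => presSuz.Grp

/-- Iterated image under a packed permutation. -/
def iter (pk : ℕ) : ℕ → ℕ → ℕ
  | 0, q => q
  | n + 1, q => field 16 pk (iter pk n q)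

/-- Check a packed permutation. -/
def permOK (w : List ℕ) (pk : ℕ) : Bool :=
  allRange (fun i => Nat.beq (SuzA.table.imgWord w i) (field 16 pk i)) 64 0 SuzA.table.N

/-- The colour of a point. -/
def colour (pk kk q : ℕ) : ℕ :=
  (List.range kk).foldl (fun c i => c * 3 + orb q (iter pk (i + 1) q)) 0

/-- Check a table of colours. -/
def colOK (pk kk tab : ℕ) : Bool :=
  allRange (fun q => Nat.beq (field 16 tab q) (colour pk kk q)) 64 0 SuzA.table.N

/-- All partial maps compatible with the orbitals. -/
def search (pk tab : ℕ) : List (ℕ × ℕ) → List (ℕ × ℕ) → List (List (ℕ × ℕ))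
  | [], mp => [mp]
  | (z, n) :: st, mp =>
    ((List.range SuzA.table.N).filter fun q => Nat.beq (field 16 tab q) (field 16 tab z) &&
        mp.all fun uv => Nat.beq (orb uv.2 q) (orb uv.1 z)).flatMap fun q =>
      search pk tab st (mp ++ (List.range n).map fun i => (iter pk i z, iter pk i q))

/-- The recorded image. -/
def look (mp : List (ℕ × ℕ)) (b : ℕ) : Option ℕ := (mp.find? fun uv => Nat.beq uv.1 b).map Prod.snd

/-- A leaf is the identity or impossible. -/
def leafOK (mp : List (ℕ × ℕ)) : Bool :=
  baseN.all (fun b => (look mp b).isSome) &&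
    ((baseN.map fun b => (look mp b).getD 0) == baseN ||
      siftBad SuzA.levels (baseN.map fun b => (look mp b).getD 0))

section Comm

variable {w : List ℕ} {pk kk tab : ℕ}

theorem im_w (hp : permOK w pk = true) {q : ℕ} (hq : q < SuzA.table.N) :
    im (el w) q = field 16 pk q := by
  rw [im_el hq]
  exact Table.beq_eq (allRange_spec 64 0 SuzA.table.N hp q (Nat.zero_le _) (by simpa using hq))

theorem iter_lt (hp : permOK w pk = true) {q : ℕ} (hq : q < SuzA.table.N) :
    ∀ i, iter pk i q < SuzA.table.N
  | 0 => hq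
  | i + 1 => by rw [iter, ← im_w hp (iter_lt hp hq i)]; exact im_lt (iter_lt hp hq i) _

theorem iter_comm (hp : permOK w pk = true) {g : Grp} (hg : g * el w = el w * g) {q : ℕ}
    (hq : q < SuzA.table.N) : ∀ i, im g (iter pk i q) = iter pk i (im g q)
  | 0 => rfl
  | i + 1 => by
    rw [iter, iter, ← im_w hp (iter_lt hp hq i), ← im_mul, hg, im_mul, iter_comm hp hg hq i,
      im_w hp (iter_lt hp (im_lt hq g) i)]

theorem colour_inv (hp : permOK w pk = true) (hc : colOK pk kk tab = true) {g : Grp}
    (hg : g * el w = el w * g) {q : ℕ} (hq : q < SuzA.table.N) :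
    field 16 tab (im g q) = field 16 tab q := by
  have hs : ∀ r, r < SuzA.table.N → field 16 tab r = colour pk kk r := fun r hr =>
    Table.beq_eq (allRange_spec 64 0 SuzA.table.N hc r (Nat.zero_le _) (by simpa using hr))
  rw [hs _ (im_lt hq g), hs q hq, colour, colour]
  congr 1
  funext c i
  rw [← iter_comm hp hg hq, orb_inv g hq (iter_lt hp hq _)]

theorem search_sound (hp : permOK w pk = true) (hc : colOK pk kk tab = true) {g : Grp}
    (hg : g * el w = el w * g) : ∀ (st mp : List (ℕ × ℕ)), (∀ z ∈ st, z.1 < SuzA.table.N) →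
    (∀ uv ∈ mp, uv.1 < SuzA.table.N ∧ im g uv.1 = uv.2) →
    ∃ m ∈ search pk tab st mp, ∀ uv ∈ m, uv.1 < SuzA.table.N ∧ im g uv.1 = uv.2
  | [], mp, _, hmp => ⟨mp, List.mem_singleton.2 rfl, hmp⟩
  | (z, n) :: st, mp, hst, hmp => by
    have hz : z < SuzA.table.N := hst _ (List.mem_cons_self ..)
    obtain ⟨m, hm, hm'⟩ := search_sound hp hc hg st
      (mp ++ (List.range n).map fun i => (iter pk i z, iter pk i (im g z)))
      (fun x hx => hst x (List.mem_cons_of_mem _ hx)) (by
        intro uv huv
        rcases List.mem_append.1 huv with h | h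
        · exact hmp uv h
        · obtain ⟨i, -, rfl⟩ := List.mem_map.1 h
          exact ⟨iter_lt hp hz i, iter_comm hp hg hz i⟩)
    refine ⟨m, ?_, hm'⟩
    rw [search, List.mem_flatMap]
    refine ⟨im g z, List.mem_filter.2 ⟨List.mem_range.2 (im_lt hz g), ?_⟩, hm⟩
    rw [colour_inv hp hc hg hz]
    simp only [Bool.and_eq_true, List.all_eq_true]
    refine ⟨by simp, fun uv huv => ?_⟩
    obtain ⟨h1, h2⟩ := hmp uv huv
    rw [← h2, orb_inv g h1 hz]
    simp

/-- Check a list of elements as the whole centraliser. -/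
def centOK (w : List ℕ) (pk kk tab z n : ℕ) (st : List (ℕ × ℕ)) (L : List (List ℕ)) : Bool :=
  permOK w pk && colOK pk kk tab && Nat.blt z SuzA.table.N &&
    st.all (fun x => Nat.blt x.1 SuzA.table.N) &&
    L.all (fun v => code (v ++ w) == code (w ++ v)) &&
    allRange (fun q => !(Nat.beq (field 16 tab q) (field 16 tab z)) ||
      L.any fun v => Nat.beq (SuzA.table.imgWord v z) q) 64 0 SuzA.table.N &&
    (search pk tab st ((List.range n).map fun i => (iter pk i z, iter pk i z))).all leafOK

theorem cent_cases {z n : ℕ} {st : List (ℕ × ℕ)} {L : List (List ℕ)}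
    (hOK : centOK w pk kk tab z n st L = true) {g : Grp} (hg : g * el w = el w * g) :
    ∃ v ∈ L, g = el v := by
  simp only [centOK, Bool.and_eq_true, List.all_eq_true] at hOK
  obtain ⟨⟨⟨⟨⟨⟨hp, hc⟩, hz'⟩, hst⟩, hL⟩, hcov⟩, hleaf⟩ := hOK
  have hz : z < SuzA.table.N := Table.blt_lt hz'
  have h1 := allRange_spec 64 0 SuzA.table.N hcov (im g z) (Nat.zero_le _)
    (by simpa using im_lt hz g)
  rw [colour_inv hp hc hg hz] at h1
  simp only [Bool.or_eq_true, List.any_eq_true] at h1
  rcases h1 with h1 | ⟨v, hv, hvz⟩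
  · simp at h1
  refine ⟨v, hv, ?_⟩
  have hcv : el v * el w = el w * el v := by
    have := code_eq (beq_iff_eq.1 (hL v hv))
    rw [el_append, el_append] at this
    exact this.symm
  have hh : (el v)⁻¹ * g * el w = el w * ((el v)⁻¹ * g) := by
    rw [mul_assoc, hg, ← mul_assoc, ← mul_assoc]
    congr 1
    rw [inv_mul_eq_iff_eq_mul, ← mul_assoc, hcv, mul_inv_cancel_right]
  have hfz : im ((el v)⁻¹ * g) z = z := by
    have e : im (el v) z = im g z := by rw [im_el hz]; exact Table.beq_eq hvz
    rw [im_mul, ← e, ← im_mul, inv_mul_cancel, im_one]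
  obtain ⟨m, hm, hm'⟩ := search_sound hp hc hh st
    ((List.range n).map fun i => (iter pk i z, iter pk i z))
    (fun x hx => Table.blt_lt (hst x hx)) (by
      intro uv huv
      obtain ⟨i, -, rfl⟩ := List.mem_map.1 huv
      exact ⟨iter_lt hp hz i, by rw [iter_comm hp hh hz, hfz]⟩)
  have h2 := hleaf m hm
  simp only [leafOK, Bool.and_eq_true, Bool.or_eq_true, List.all_eq_true, beq_iff_eq] at h2
  have hmap : (baseN.map fun b => (look m b).getD 0) = baseN.map (im ((el v)⁻¹ * g)) := by
    refine List.map_congr_left fun b hb => ?_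
    have h3 := h2.1 b hb
    simp only [look, Option.isSome_map] at h3
    obtain ⟨uv, huv⟩ := Option.isSome_iff_exists.1 h3
    have hb' : uv.1 = b := Table.beq_eq (List.find?_some (p := fun uv : ℕ × ℕ => Nat.beq uv.1 b) huv)
    rw [look, huv, Option.map_some, Option.getD_some, ← hb']
    exact (hm' uv (List.mem_of_find?_eq_some huv)).2.symm
  rw [hmap] at h2
  rcases h2.2 with h3 | h3
  · refine (inv_mul_eq_one.1 (eq_of_im (b := 1) fun p hp' => ?_)).symm
    rw [im_one]
    have h4 : baseN.map (im ((el v)⁻¹ * g)) = baseN.map id := by rw [h3, List.map_id]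
    exact (List.map_inj_left.1 h4) p hp'
  · rw [sift_real] at h3
    exact Bool.noConfusion h3

end Comm

/-- Powers as words. -/
def powW (w : List ℕ) (i : ℕ) : List ℕ := (List.replicate i w).flatten

theorem el_powW (w : List ℕ) : ∀ i, el (powW w i) = el w ^ i
  | 0 => by rw [powW, List.replicate_zero, List.flatten_nil, el_nil, pow_zero]
  | i + 1 => by
    rw [powW, List.replicate_succ, List.flatten_cons, el_append, pow_succ]
    exact congrArg (· * el w) (el_powW w i)

/-- A word in the two chosen elements. -/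
def mixW (is : List ℕ) (v : List ℕ) : List ℕ := is.flatMap fun i => v ++ powW xW i

theorem map_mixW (α : Grp →* Grp) (hx : α (el xW) = el xW) {v v' : List ℕ}
    (hv : α (el v) = el v') : ∀ is, α (el (mixW is v)) = el (mixW is v')
  | [] => map_one α
  | i :: is => by
    show α (el ((v ++ powW xW i) ++ mixW is v)) = el ((v' ++ powW xW i) ++ mixW is v')
    rw [el_append, el_append, el_append, el_append, el_powW, map_mul, map_mul, map_pow, hx, hv,
      map_mixW α hx hv is]

/-- The third element. -/
def zW : List ℕ := cW.getD zK []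

theorem centX_ok : centOK xW xPerm 6 xCol 220 13 xSteps.tail ((List.range 13).map (powW xW)) = true := by
  decide +kernel

theorem centY_ok : centOK yW yPerm 3 yCol 636 6 ySteps.tail cW = true := by decide +kernel

theorem cent_x {g : Grp} (hg : g * el xW = el xW * g) : ∃ i : ℕ, g = el xW ^ i := by
  obtain ⟨v, hv, rfl⟩ := cent_cases centX_ok hg
  obtain ⟨i, -, rfl⟩ := List.mem_map.1 hv
  exact ⟨i, el_powW _ _⟩

theorem cent_y {g : Grp} (hg : g * el yW = el yW * g) : ∃ v ∈ cW, g = el v :=
  cent_cases centY_ok hg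

theorem x_pow : el xW ^ 13 = 1 := by
  rw [← el_powW]; exact code_eq (w := []) (by decide +kernel)

theorem x_ne : el xW ≠ 1 := by
  intro h
  exact code_ne (u := xW) (w := []) (by decide +kernel) h

theorem x_order : orderOf (el xW) = 13 :=
  haveI : Fact (Nat.Prime 13) := ⟨by norm_num⟩
  orderOf_eq_prime x_pow x_ne

theorem y_act : el yW * el xW = el xW ^ 4 * el yW := by
  rw [← el_powW, ← el_append, ← el_append]
  exact code_eq (by decide +kernel)

theorem z_comm : el zW * el yW = el yW * el zW := by
  rw [← el_append, ← el_append]; exact code_eq (by decide +kernel)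

theorem rels_ok : ∀ k : Fin 72, k.val = zK ∨
    (code (powW (mixW (rels.getD k.val ([], 0)).1 zW) (rels.getD k.val ([], 0)).2) == code [] &&
      code (powW (mixW (rels.getD k.val ([], 0)).1 (cW.getD k.val [])) (rels.getD k.val ([], 0)).2)
        != code []) = true := by decide +kernel

theorem cW_len : cW.length = 72 := by decide +kernel

/-- The subgroup generated by the two elements. -/
noncomputable def two : Subgroup Grp := Subgroup.closure {el xW, el zW}

theorem x_mem : el xW ∈ two := Subgroup.subset_closure (Or.inl rfl)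

theorem z_mem : el zW ∈ two := Subgroup.subset_closure (Or.inr rfl)

theorem mixW_mem : ∀ is, el (mixW is zW) ∈ two
  | [] => one_mem _
  | i :: is => by
    show el ((zW ++ powW xW i) ++ mixW is zW) ∈ _
    rw [el_append, el_append, el_powW]
    exact mul_mem (mixW_mem is) (mul_mem (pow_mem x_mem i) z_mem)

theorem gens_ok : ∀ k : Fin 7,
    code (powW xW (gens.getD k.val ([], 0, [])).2.1 ++ mixW (gens.getD k.val ([], 0, [])).2.2 zW) =
      code (gens.getD k.val ([], 0, [])).1 := by decide +kernel

theorem two_eq_top : two = ⊤ := by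
  have h : ∀ k : Fin 7, el (gens.getD k.val ([], 0, [])).1 ∈ two := fun k => by
    rw [← code_eq (gens_ok k), el_append, el_powW]
    exact mul_mem (mixW_mem _) (pow_mem x_mem _)
  have e : ∀ (k : Fin 7) (j : ℕ), (gens.getD k.val ([], 0, [])).1 = [j] → presSuz.g j ∈ two :=
    fun k j hj => by rw [← el_single, ← hj]; exact h k
  have h0 := e 0 0 rfl
  have h4 : presSuz.g 4 ∈ two := by
    have h6 : el [4, 0] ∈ two := h 6
    rw [show ([4, 0] : List ℕ) = [4] ++ [0] from rfl, el_append, el_single, el_single] at h6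
    have := mul_mem (inv_mem h0) h6
    rwa [inv_mul_cancel_left] at this
  rw [eq_top_iff, ← presSuz.g_gen, Subgroup.closure_le]
  rintro _ ⟨j, rfl⟩
  rcases Nat.lt_or_ge j 7 with hj | hj
  · interval_cases j
    · exact h0
    · exact e 1 1 rfl
    · exact e 2 2 rfl
    · exact e 3 3 rfl
    · exact h4
    · exact e 4 5 rfl
    · exact e 5 6 rfl
  · rw [presSuz.g_junk j hj]; exact one_mem _

end Cfsg.Agent.Enum.SuzOut
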