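import Cfsg.Agent.Lib.Enum.SuzMain
import Cfsg.Agent.Lib.Enum.SuzOutData

/-!
Tools for automorphisms of the Suzuki sporadic group: exact stabilizer chain, orbitals.
-/

set_option autoImplicit false
set_option maxRecDepth 10000

namespace Cfsg.Agent.Enum.SuzOut

open Cfsg.Agent.Enum

local notation "Grp" => presSuz.Grp
local notation "suzTb" => SuzA.table

/-- The element of a word, first letter rightmost. -/
def el (w : List ℕ) : Grp := (w.map presSuz.g).reverse.prod

theorem el_append (u w : List ℕ) : el (u ++ w) = el w * el u := by simp [el]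

theorem el_nil : el [] = 1 := rfl

theorem el_single (x : ℕ) : el [x] = presSuz.g x := by simp [el]

theorem el_reverse (w : List ℕ) : el w.reverse = (el w)⁻¹ := by
  rw [el, el, List.map_reverse, List.reverse_reverse, Data.reverse_prod _ presSuz.g_mul_self,
    inv_inv]

/-- A chosen permutation representation. -/
noncomputable def rho : Grp →* Equiv.Perm (Fin SuzA.table.N) := SuzM.rep.choose

theorem rho_g (x : ℕ) : rho (presSuz.g x) = SuzA.table.permOf SuzA.certified.invol x :=
  SuzM.rep.choose_spec.1 x

theorem rho_el (w : List ℕ) (i : Fin SuzA.table.N) :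
    rho (el w) i = ⟨SuzA.table.imgWord w i, Table.imgWord_lt SuzA.certified.invol w i.2⟩ := by
  rw [← Table.act_permOf suzTb SuzA.certified.invol w i, Data.act_eq, el, map_list_prod,
    List.map_reverse, List.map_map,
    show (w.map (rho ∘ presSuz.g)) = w.map (Table.permOf suzTb SuzA.certified.invol) from
      List.map_congr_left fun x _ => rho_g x]
  rfl

/-- The image of a point, as a number. -/
noncomputable def im (a : Grp) (p : ℕ) : ℕ :=
  if h : p < SuzA.table.N then (rho a ⟨p, h⟩ : ℕ) else p

theorem im_lt {p : ℕ} (hp : p < SuzA.table.N) (a : Grp) : im a p < SuzA.table.N := by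
  rw [im, dif_pos hp]; exact Fin.is_lt _

theorem im_el {p : ℕ} (hp : p < SuzA.table.N) (w : List ℕ) :
    im (el w) p = SuzA.table.imgWord w p := by
  rw [im, dif_pos hp, rho_el]

theorem im_mul (a b : Grp) (p : ℕ) : im (a * b) p = im a (im b p) := by
  rw [im, im, im]
  by_cases hp : p < SuzA.table.N
  · rw [dif_pos hp, dif_pos hp, dif_pos (Fin.is_lt _), map_mul, Equiv.Perm.mul_apply]
  · rw [dif_neg hp, dif_neg hp, dif_neg hp]

theorem im_one (p : ℕ) : im 1 p = p := by
  rw [im]; split_ifs with h
  · rw [map_one]; rfl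
  · rfl

theorem im_inj (a : Grp) {p q : ℕ} (h : im a p = im a q) : p = q := by
  have h2 := congrArg (im a⁻¹) h
  rwa [← im_mul, ← im_mul, inv_mul_cancel, im_one, im_one] at h2

/-- The subgroup fixing the listed points. -/
noncomputable abbrev fix (ps : List ℕ) : Subgroup Grp := Level.fixer rho ps

theorem mem_fix {a : Grp} {ps : List ℕ} (hps : ∀ p ∈ ps, p < SuzA.table.N) :
    a ∈ fix ps ↔ ∀ p ∈ ps, im a p = p := by
  constructor
  · intro h p hp
    rw [im, dif_pos (hps p hp), h p hp (hps p hp)]
  · intro h p hp hlt
    have := h p hp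
    rw [im, dif_pos hlt] at this
    exact Fin.ext this

/-- Adjoining a level: the orbit of the base is the listed one. -/
theorem level_exact (l : Level) (hl : l.chk SuzA.table = true)
    (hle : Nat.card (fix l.fixed) ≤ l.n * Nat.card (fix (l.base :: l.fixed)))
    {a : Grp} (ha : a ∈ fix l.fixed) : ∃ i < l.n, im a l.base = field 16 l.pts i := by
  classical
  have hl' := hl
  simp only [Level.chk, Bool.and_eq_true, List.all_eq_true] at hl'
  obtain ⟨⟨⟨⟨hw, h0⟩, hb⟩, hfx⟩, hr⟩ := hl'
  have hfix : ∀ p ∈ l.fixed, p < SuzA.table.N := fun p hp => Table.blt_lt (hfx p hp)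
  have hbN : l.base < SuzA.table.N := Table.blt_lt hb
  have key : ∀ i, i < l.n → ∃ u : Grp, u ∈ fix l.fixed ∧ im u l.base = field 16 l.pts i := by
    intro i
    induction i using Nat.strong_induction_on with
    | _ i ih =>
      intro hi
      have h := allRange_spec 64 0 l.n hr i (Nat.zero_le _) (by simpa using hi)
      simp only [Bool.and_eq_true, Bool.or_eq_true] at h
      rcases h.2 with h1 | h1
      · exact ⟨1, one_mem _, by rw [im_one, Table.beq_eq h1, Table.beq_eq h0]⟩
      · generalize he : field 22 l.prev i = e at h1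
        cases hwd : l.words[e % 2 ^ 6]? with
        | none => rw [hwd] at h1; simp at h1
        | some w =>
          rw [hwd] at h1
          simp only [Bool.and_eq_true] at h1
          obtain ⟨u, hu, hue⟩ := ih _ (Table.blt_lt h1.1) ((Table.blt_lt h1.1).trans hi)
          refine ⟨el w * u, mul_mem ((mem_fix hfix).2 fun p hp => ?_) hu, ?_⟩
          · rw [im_el (hfix p hp)]
            exact Table.beq_eq (hw w (List.mem_of_getElem? hwd) p hp)
          · rw [im_mul, hue, im_el (by rw [← hue]; exact im_lt hbN u), Table.beq_eq h1.2]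
  by_contra hne
  simp only [not_exists, not_and] at hne
  choose u hu hue using key
  let v : Option (Fin l.n) → fix l.fixed := fun o => o.elim ⟨a, ha⟩ fun i => ⟨u i i.2, hu i i.2⟩
  have hv : ∀ o o' : Option (Fin l.n), im (v o : Grp) l.base = im (v o' : Grp) l.base → o = o' := by
    intro o o' he
    cases o with
    | none =>
      cases o' with
      | none => rfl
      | some j => exact absurd (he.trans (hue j j.2)) (hne j j.2)
    | some i =>
      cases o' with
      | none => exact absurd (he.symm.trans (hue i i.2)) (hne i i.2)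
      | some j =>
        have h2 : field 16 l.pts i = field 16 l.pts j := (hue i i.2).symm.trans (he.trans (hue j j.2))
        have hi := allRange_spec 64 0 l.n hr i (Nat.zero_le _) (by simp)
        have hj := allRange_spec 64 0 l.n hr j (Nat.zero_le _) (by simp)
        simp only [Bool.and_eq_true] at hi hj
        congr 1
        apply Fin.ext
        rw [← Table.beq_eq hi.1, ← Table.beq_eq hj.1, h2]
  let F : Option (Fin l.n) × fix (l.base :: l.fixed) → fix l.fixed := fun z =>
    v z.1 * ⟨z.2, (mem_fix hfix).2 fun p hp => (mem_fix (ps := l.base :: l.fixed)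
      (List.forall_mem_cons.2 ⟨hbN, hfix⟩)).1 z.2.2 p (List.mem_cons_of_mem _ hp)⟩
  have hF : Function.Injective F := by
    rintro ⟨i, b⟩ ⟨j, c⟩ hbc
    have hbc' : (v i : Grp) * b = (v j : Grp) * c := congrArg Subtype.val hbc
    have hfx' : ∀ d : fix (l.base :: l.fixed), im (d : Grp) l.base = l.base := fun d =>
      (mem_fix (ps := l.base :: l.fixed) (List.forall_mem_cons.2 ⟨hbN, hfix⟩)).1 d.2 _
        (List.mem_cons_self ..)
    have h1 := congrArg (fun d => im d l.base) hbc'
    simp only [im_mul, hfx'] at h1
    obtain rfl := hv i j h1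
    exact Prod.ext rfl (Subtype.ext (mul_left_cancel hbc'))
  have h1 := Nat.card_le_card_of_injective F hF
  rw [Nat.card_prod, Nat.card_eq_fintype_card, Fintype.card_option, Fintype.card_fin] at h1
  have h3 : 0 < Nat.card (fix (l.base :: l.fixed)) := Nat.card_pos
  nlinarith

/-- The orbit lists along a chain are exact. -/
def Exact : List Level → Prop
  | [] => True
  | l :: ls => (∀ a ∈ fix l.fixed, ∃ i < l.n, im a l.base = field 16 l.pts i) ∧ Exact ls

theorem exact_of_card : ∀ (ps : List ℕ) (ls : List Level), Level.chain ps ls = true →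
    ls.all (Level.chk SuzA.table) = true → Nat.card (fix ps) ≤ (ls.map Level.n).prod →
    Exact ls ∧ ∀ a ∈ fix ((ls.map Level.base).reverse ++ ps), a = 1
  | ps, [], _, _, hle => by
    refine ⟨trivial, fun a ha => ?_⟩
    simp only [List.map_nil, List.prod_nil] at hle
    haveI : Subsingleton (fix ps) := Finite.card_le_one_iff_subsingleton.1 hle
    exact congrArg Subtype.val (Subsingleton.elim (⟨a, by simpa using ha⟩ : fix ps) 1)
  | ps, l :: ls, hc, hall, hle => by
    simp only [Level.chain, Bool.and_eq_true, beq_iff_eq] at hc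
    simp only [List.all_cons, Bool.and_eq_true] at hall
    rw [List.map_cons, List.prod_cons] at hle
    have h2 : l.n * Nat.card (fix (l.base :: ps)) ≤ Nat.card (fix ps) := by
      have := Level.mul_card_le presSuz.g_mul_self SuzA.certified.invol rho rho_g l hall.1
      rwa [hc.1] at this
    have h1 := Level.prod_le presSuz.g_mul_self SuzA.certified.invol rho rho_g (l.base :: ps) ls
      hc.2 hall.2
    have hn : 0 < l.n := by
      rcases Nat.eq_zero_or_pos l.n with h | h
      · rw [h, zero_mul] at hle
        exact absurd hle (Nat.not_le.2 Nat.card_pos)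
      · exact h
    obtain ⟨e1, e2⟩ := exact_of_card (l.base :: ps) ls hc.2 hall.2
      (Nat.le_of_mul_le_mul_left (h2.trans hle) hn)
    refine ⟨⟨fun a ha => level_exact l hall.1 ?_ ha, e1⟩, ?_⟩
    · rw [hc.1]; exact hle.trans (Nat.mul_le_mul_left _ h1)
    · rw [List.map_cons, List.reverse_cons, List.append_assoc, List.singleton_append]
      exact e2

theorem chain_exact : Exact SuzA.levels ∧
    ∀ a ∈ fix ((SuzA.levels.map Level.base).reverse ++ []), a = 1 :=
  exact_of_card [] _ SuzA.levels_chain SuzA.levels_ok
    (by rw [SuzA.levels_prod, ← SuzM.card_grp]; exact Subgroup.card_le_card_group _)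

/-- The base. -/
def baseN : List ℕ := [0, 1, 2, 143]

theorem levels_base : (SuzA.levels.map Level.base).reverse ++ [] = baseN.reverse := by decide +kernel

theorem baseN_lt : ∀ p ∈ baseN, p < SuzA.table.N := by decide +kernel

theorem eq_of_im {a b : Grp} (h : ∀ p ∈ baseN, im a p = im b p) : a = b := by
  refine (inv_mul_eq_one.1 (chain_exact.2 (b⁻¹ * a) ?_)).symm
  rw [levels_base, mem_fix fun p hp => baseN_lt p (List.mem_reverse.1 hp)]
  intro p hp
  rw [im_mul, h p (List.mem_reverse.1 hp), ← im_mul, inv_mul_cancel, im_one]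

/-- The images of the base under a word. -/
def code (w : List ℕ) : List ℕ := baseN.map (SuzA.table.imgWord w)

theorem code_eq {u w : List ℕ} (h : code u = code w) : el u = el w := by
  refine eq_of_im fun p hp => ?_
  rw [im_el (baseN_lt p hp), im_el (baseN_lt p hp)]
  exact (List.map_inj_left.1 h) p hp

theorem code_ne {u w : List ℕ} (h : code u ≠ code w) : el u ≠ el w := by
  intro e
  refine h (List.map_congr_left fun p hp => ?_)
  rw [← im_el (baseN_lt p hp), ← im_el (baseN_lt p hp), e]

/-- The word to an orbit point along the predecessors. -/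
def repW (l : Level) : ℕ → ℕ → List ℕ
  | 0, _ => []
  | n + 1, i =>
    bif Nat.beq i 0 then [] else
      repW l n (field 22 l.prev i / 2 ^ 6) ++ (l.words[field 22 l.prev i % 2 ^ 6]?).getD []

/-- The word used to move an orbit point back to the base. -/
def moveW (l : Level) (v : ℕ) : List ℕ := repW l 64 (field 16 l.pos v)

/-- No element has the given images of the base. -/
def siftBad : List Level → List ℕ → Bool
  | [], _ => false
  | _ :: _, [] => false
  | l :: ls, v :: vs =>
    bif Nat.blt (field 16 l.pos v) l.n && Nat.beq (field 16 l.pts (field 16 l.pos v)) v then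
      Nat.blt v SuzA.table.N &&
      Nat.beq (SuzA.table.imgWord (moveW l v).reverse v) l.base &&
      l.fixed.all (fun p => Nat.beq (SuzA.table.imgWord (moveW l v).reverse p) p) &&
      siftBad ls (vs.map (SuzA.table.imgWord (moveW l v).reverse))
    else true

theorem sift_sound : ∀ (ps : List ℕ) (ls : List Level), Level.chain ps ls = true →
    ls.all (Level.chk SuzA.table) = true → Exact ls → (∀ p ∈ ps, p < SuzA.table.N) →
    ∀ a ∈ fix ps, siftBad ls ((ls.map Level.base).map (im a)) = false
  | _, [], _, _, _, _, _, _ => rfl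
  | ps, l :: ls, hc, hall, he, hps, a, ha => by
    simp only [Level.chain, Bool.and_eq_true, beq_iff_eq] at hc
    simp only [List.all_cons, Bool.and_eq_true] at hall
    have hl' := hall.1
    simp only [Level.chk, Bool.and_eq_true, List.all_eq_true] at hl'
    obtain ⟨⟨⟨⟨-, -⟩, hb⟩, -⟩, hr⟩ := hl'
    obtain ⟨i, hi, hia⟩ := he.1 a (by rw [hc.1]; exact ha)
    have hpos := allRange_spec 64 0 l.n hr i (Nat.zero_le _) (by simpa using hi)
    simp only [Bool.and_eq_true] at hpos
    rw [List.map_cons, List.map_cons, siftBad]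
    set v := im a l.base with hv
    have hpv : field 16 l.pos v = i := by rw [hia]; exact Table.beq_eq hpos.1
    have h1 : (Nat.blt (field 16 l.pos v) l.n && Nat.beq (field 16 l.pts (field 16 l.pos v)) v) = true := by
      rw [hpv, ← hia]
      simp [Nat.blt, Nat.succ_le_of_lt hi]
    rw [h1, cond_true]
    by_contra hbad
    rw [Bool.not_eq_false] at hbad
    simp only [Bool.and_eq_true, List.all_eq_true] at hbad
    obtain ⟨⟨⟨hvN, hvb⟩, hfix⟩, hrest⟩ := hbad
    set w := (moveW l v).reverse
    have hps' : ∀ p ∈ l.base :: ps, p < SuzA.table.N :=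
      List.forall_mem_cons.2 ⟨Table.blt_lt hb, hps⟩
    have ha' : el w * a ∈ fix (l.base :: ps) := by
      rw [mem_fix hps']
      intro p hp
      rw [im_mul]
      rcases List.mem_cons.1 hp with rfl | hp
      · rw [← hv, im_el (Table.blt_lt hvN)]; exact Table.beq_eq hvb
      · rw [(mem_fix hps).1 ha p hp, im_el (hps p hp)]
        exact Table.beq_eq (hfix p (hc.1 ▸ hp))
    have h := sift_sound (l.base :: ps) ls hc.2 hall.2 he.2 hps' _ ha'
    have hmap : (ls.map Level.base).map (im (el w * a)) =
        ((ls.map Level.base).map (im a)).map (SuzA.table.imgWord w) := by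
      rw [List.map_map, List.map_map, List.map_map]
      refine List.map_congr_left fun l' hl'' => ?_
      have := (List.all_eq_true.1 hall.2) l' hl''
      simp only [Level.chk, Bool.and_eq_true] at this
      simp only [Function.comp]
      rw [im_mul, im_el (im_lt (Table.blt_lt this.1.1.2) a)]
    rw [hmap, hrest] at h
    exact Bool.noConfusion h

theorem levels_bases : SuzA.levels.map Level.base = baseN := by decide +kernel

theorem sift_real (a : Grp) : siftBad SuzA.levels (baseN.map (im a)) = false := by
  have := sift_sound [] SuzA.levels SuzA.levels_chain SuzA.levels_ok chain_exact.1 (by simp) a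
    (fun p hp => absurd hp List.not_mem_nil)
  rwa [levels_bases] at this

/-! ### Orbitals -/

/-- The word from the first point to another one. -/
def toP (p : ℕ) : List ℕ := moveW SuzA.level0 p

theorem toP_ok : allRange (fun p => Nat.beq (SuzA.table.imgWord (toP p) 0) p) 64 0 SuzA.table.N = true := by
  decide +kernel

/-- The orbital of a pair. -/
def orb (p q : ℕ) : ℕ := field 8 SuzA.suborbits.label (SuzA.table.imgWord (toP p).reverse q)

theorem label_lt : allRange (fun i => Nat.blt (field 8 SuzA.suborbits.label i) 3) 64 0 SuzA.table.N = true := by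
  decide +kernel

theorem roots_ok : ∀ j : Fin 3, SuzA.suborbits.root j.val < SuzA.table.N ∧
    field 8 SuzA.suborbits.label (SuzA.suborbits.root j.val) = j.val := by decide +kernel

theorem label_inv {a : Grp} (ha : im a 0 = 0) {q : ℕ} (hq : q < SuzA.table.N) :
    field 8 SuzA.suborbits.label (im a q) = field 8 SuzA.suborbits.label q := by
  have c := SuzA.certified
  have hA : a ∈ SuzA.sub := by
    have h := transversal_fix c rho rho_g a ⟨0, c.pos⟩
    rw [im, dif_pos c.pos] at ha
    rw [show rho a ⟨0, c.pos⟩ = ⟨0, c.pos⟩ from Fin.ext ha, Table.coset_zero c] at h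
    rw [MulAction.Quotient.smul_mk, smul_eq_mul, mul_one] at h
    simpa using QuotientGroup.eq.1 h
  obtain ⟨j, hj⟩ : ∃ j : Fin 3, field 8 SuzA.suborbits.label q = j.val :=
    ⟨⟨_, Table.blt_lt (allRange_spec 64 0 SuzA.table.N label_lt q (Nat.zero_le _) (by simpa using hq))⟩, rfl⟩
  obtain ⟨hr, hlab⟩ := roots_ok j
  have horb := Suborbits.orbit_eq_image c SuzA.suborbits SuzA.suborbits_ok SuzA.sub_words j.val hr hlab
  have h1 : Table.coset presSuz.g SuzA.sub suzTb SuzA.data ⟨q, hq⟩ ∈
      MulAction.orbit SuzA.sub (Table.coset presSuz.g SuzA.sub suzTb SuzA.data ⟨_, hr⟩) := by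
    rw [horb]; exact ⟨⟨q, hq⟩, hj, rfl⟩
  have h2 := MulAction.mem_orbit_of_mem_orbit (M := SuzA.sub) ⟨a, hA⟩ h1
  change a • Table.coset presSuz.g SuzA.sub suzTb SuzA.data ⟨q, hq⟩ ∈ _ at h2
  rw [← transversal_fix c rho rho_g, horb] at h2
  obtain ⟨i, hi, hie⟩ := h2
  have := (Table.coset_bijective c).1 hie
  subst this
  rw [hj, im, dif_pos hq]
  exact hi

theorem orb_inv (a : Grp) {p q : ℕ} (hp : p < SuzA.table.N) (hq : q < SuzA.table.N) :
    orb (im a p) (im a q) = orb p q := by
  have ht : ∀ r, r < SuzA.table.N → im (el (toP r)) 0 = r := fun r hr => by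
    rw [im_el (by decide +kernel)]
    exact Table.beq_eq (allRange_spec 64 0 SuzA.table.N toP_ok r (Nat.zero_le _) (by simpa using hr))
  have ho : ∀ r s, s < SuzA.table.N → orb r s =
      field 8 SuzA.suborbits.label (im (el (toP r))⁻¹ s) := fun r s hs => by
    rw [← el_reverse, im_el hs]; rfl
  rw [ho _ _ (im_lt hq a), ho _ _ hq]
  set c := (el (toP (im a p)))⁻¹ * a * el (toP p) with hc
  have hc0 : im c 0 = 0 := by
    have h0 : im (el (toP (im a p)))⁻¹ (im (el (toP (im a p))) 0) = 0 := by
      rw [← im_mul, inv_mul_cancel, im_one]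
    rw [ht (im a p) (im_lt hp a)] at h0
    rw [hc, im_mul, im_mul, ht p hp, h0]
  have h := label_inv hc0 (im_lt hq (el (toP p))⁻¹)
  rw [← h, hc, ← im_mul, ← im_mul, mul_inv_cancel_right]

end Cfsg.Agent.Enum.SuzOut
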