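import Cfsg.Agent.Lib.Enum.SuzOutAut

/-!
The outer automorphism group of the presented Suzuki sporadic group has order two.
-/

set_option autoImplicit false
set_option maxRecDepth 10000

namespace Cfsg.Agent.Enum.SuzOut

open Cfsg.Agent.Enum

local notation "Grp" => presSuz.Grp

theorem inn_conj (g : Grp) : MulAut.conj g ∈ Cfsg.Inn Grp := ⟨g, rfl⟩

theorem xy_pow : ∀ a : ℕ, el yW * el xW ^ a = el xW ^ (4 * a) * el yW
  | 0 => by simp
  | a + 1 => by
    rw [pow_succ, ← mul_assoc, xy_pow a, mul_assoc, y_act, ← mul_assoc, ← pow_add]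
    rfl

theorem x_pow_add (a b : ℕ) : el xW ^ (a + 13 * b) = el xW ^ a := by
  rw [pow_add, pow_mul, x_pow, one_pow, mul_one]

theorem x_pow_mod (a : ℕ) : el xW ^ a = el xW ^ (a % 13) := pow_eq_pow_mod a x_pow

/-- An automorphism fixing the element of order 13 is inner. -/
theorem inner_of_fix {α : MulAut Grp} (hx : α (el xW) = el xW) : α ∈ Cfsg.Inn Grp := by
  obtain ⟨u, hu⟩ : ∃ u, α (el yW) = u := ⟨_, rfl⟩
  have h1 : u * el xW = el xW ^ 4 * u := by
    have := congrArg α y_act
    rwa [map_mul, map_mul, map_pow, hx, hu] at this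
  obtain ⟨i, hi⟩ := cent_x (g := (el yW)⁻¹ * u) (by
    rw [mul_assoc, h1, ← mul_assoc, ← mul_assoc]
    congr 1
    rw [inv_mul_eq_iff_eq_mul, ← mul_assoc, y_act, mul_inv_cancel_right])
  rw [inv_mul_eq_iff_eq_mul] at hi
  subst hi
  set j := 10 * i
  have hy : (MulAut.conj (el xW ^ j) * α) (el yW) = el yW := by
    rw [MulAut.mul_apply, hu, MulAut.conj_apply]
    have e1 : el xW ^ j * el yW = el yW * el xW ^ (10 * j) := by
      rw [xy_pow, show 4 * (10 * j) = j + 13 * (3 * j) by ring, x_pow_add]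
    rw [← mul_assoc, e1, mul_assoc (el yW), ← pow_add,
      show 10 * j + i = j + 13 * (7 * i) by omega, x_pow_add, mul_inv_cancel_right]
  have hx' : (MulAut.conj (el xW ^ j) * α) (el xW) = el xW := by
    rw [MulAut.mul_apply, hx, MulAut.conj_apply, ← pow_succ, pow_succ', mul_inv_cancel_right]
  set β := MulAut.conj (el xW ^ j) * α with hβ
  obtain ⟨v, hv, hzv⟩ := cent_y (g := β (el zW)) (by
    have := congrArg β z_comm
    rwa [map_mul, map_mul, hy] at this)
  obtain ⟨k, hk, hkv⟩ := List.getElem_of_mem hv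
  have hzz : β (el zW) = el zW := by
    rw [hzv]
    rcases rels_ok ⟨k, cW_len ▸ hk⟩ with h | h
    · change k = zK at h
      rw [← hkv, zW, ← h, List.getD_eq_getElem _ _ hk]
    · simp only [Bool.and_eq_true, beq_iff_eq, bne_iff_ne] at h
      rw [show cW.getD k [] = v from by rw [List.getD_eq_getElem _ _ hk, hkv]] at h
      refine absurd ?_ (fun e => code_ne h.2 e)
      have h2 := map_mixW β.toMonoidHom hx' hzv (rels.getD k ([], 0)).1
      have h3 := code_eq (w := []) h.1
      rw [el_powW, el_nil] at h3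
      rw [el_powW, el_nil, ← h2, ← map_pow, h3, map_one]
  have hall : β = 1 := by
    have heq : Subgroup.closure {el xW, el zW} ≤ β.toMonoidHom.eqLocus (MonoidHom.id Grp) := by
      rw [Subgroup.closure_le]
      rintro a (rfl | rfl)
      · exact hx'
      · exact hzz
    refine MulEquiv.ext fun a => ?_
    exact heq (show a ∈ two by rw [two_eq_top]; exact Subgroup.mem_top a)
  have : α = (MulAut.conj (el xW ^ j))⁻¹ := eq_inv_of_mul_eq_one_right hall
  rw [this]
  exact inv_mem (inn_conj _)

theorem nW_ok : ∀ i : Fin 5, code (xW ++ nW.getD i.val []) =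
    code (nW.getD i.val [] ++ powW xW (([3, 4, 9, 10, 12] : List ℕ).getD i.val 0)) := by
  decide +kernel

/-- The squares modulo 13. -/
def sq13 : List ℕ := [1, 3, 4, 9, 10, 12]

/-- An automorphism acting as a square power on the element of order 13 is inner. -/
theorem inner_of_sq {α : MulAut Grp} {k : ℕ} (hk : k % 13 ∈ sq13)
    (hx : α (el xW) = el xW ^ k) : α ∈ Cfsg.Inn Grp := by
  rw [x_pow_mod] at hx
  obtain ⟨n, hn⟩ : ∃ n : Grp, n * el xW = el xW ^ (k % 13) * n := by
    have h : ∀ i : Fin 5, el (nW.getD i.val []) * el xW =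
        el xW ^ (([3, 4, 9, 10, 12] : List ℕ).getD i.val 0) * el (nW.getD i.val []) := fun i => by
      rw [← el_powW, ← el_append, ← el_append]; exact code_eq (nW_ok i)
    simp only [sq13, List.mem_cons, List.not_mem_nil, or_false] at hk
    rcases hk with h1 | h1 | h1 | h1 | h1 | h1 <;> rw [h1]
    · exact ⟨1, by simp⟩
    · exact ⟨_, h 0⟩
    · exact ⟨_, h 1⟩
    · exact ⟨_, h 2⟩
    · exact ⟨_, h 3⟩
    · exact ⟨_, h 4⟩
  have h2 : ((MulAut.conj n)⁻¹ * α) (el xW) = el xW := by
    rw [MulAut.mul_apply, hx, MulAut.conj_inv_apply, mul_assoc, ← hn, inv_mul_cancel_left]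
  have := mul_mem (inn_conj n) (inner_of_fix h2)
  rwa [mul_inv_cancel_left] at this

theorem card_grp : Nat.card Grp = 448345497600 := SuzM.card_grp

/-- Normalisation by Sylow's theorem. -/
theorem normalise (α : MulAut Grp) :
    ∃ (g : Grp) (k : ℕ), k < 13 ∧ k ≠ 0 ∧ (MulAut.conj g * α) (el xW) = el xW ^ k := by
  haveI : Fact (Nat.Prime 13) := ⟨by norm_num⟩
  have hf : 13 ^ (Nat.card Grp).factorization 13 = 13 := by
    have h1 : (Nat.card Grp).factorization 13 = 1 := by
      rw [card_grp, show (448345497600 : ℕ) = 13 * 34488115200 by norm_num,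
        Nat.factorization_mul (by norm_num) (by norm_num)]
      simp [Nat.Prime.factorization (show Nat.Prime 13 by norm_num),
        Nat.factorization_eq_zero_of_not_dvd (show ¬ 13 ∣ 34488115200 by norm_num)]
    rw [h1, pow_one]
  have ho : orderOf (α (el xW)) = 13 := by
    rw [MulEquiv.orderOf_eq]; exact x_order
  let P : Sylow 13 Grp := Sylow.ofCard (Subgroup.zpowers (el xW))
    (by rw [Nat.card_zpowers, x_order, hf])
  let Q : Sylow 13 Grp := Sylow.ofCard (Subgroup.zpowers (α (el xW)))
    (by rw [Nat.card_zpowers, ho, hf])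
  obtain ⟨g, hg⟩ := MulAction.exists_smul_eq Grp Q P
  have hm : (MulAut.conj g * α) (el xW) ∈ Subgroup.zpowers (el xW) := by
    have h : (MulAut.conj g * α) (el xW) ∈ (g • Q : Sylow 13 Grp).toSubgroup :=
      Subgroup.smul_mem_pointwise_smul _ (MulAut.conj g) _ (Subgroup.mem_zpowers (α (el xW)))
    rw [hg] at h
    exact h
  rw [← mem_powers_iff_mem_zpowers] at hm
  obtain ⟨k, hk⟩ := hm
  refine ⟨g, k % 13, Nat.mod_lt _ (by norm_num), fun h0 => ?_, ?_⟩
  · simp only at hk
    rw [x_pow_mod, h0, pow_zero] at hk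
    exact x_ne ((MulEquiv.map_eq_one_iff _).1 hk.symm)
  · rw [← x_pow_mod]; exact hk.symm

theorem outer_pair {α β : MulAut Grp} (ha : α ∉ Cfsg.Inn Grp) (hb : β ∉ Cfsg.Inn Grp) :
    (QuotientGroup.mk α : Cfsg.Out Grp) = QuotientGroup.mk β := by
  have hconj : ∀ (γ : MulAut Grp) (g : Grp),
      (QuotientGroup.mk (MulAut.conj g * γ) : Cfsg.Out Grp) = QuotientGroup.mk γ := fun γ g => by
    rw [QuotientGroup.mk_mul, (QuotientGroup.eq_one_iff _).2 (inn_conj g), one_mul]
  have hns : ∀ (γ : MulAut Grp), γ ∉ Cfsg.Inn Grp → ∃ (γ' : MulAut Grp) (k : ℕ),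
      (QuotientGroup.mk γ' : Cfsg.Out Grp) = QuotientGroup.mk γ ∧
      k < 13 ∧ k ∉ sq13 ∧ k ≠ 0 ∧ γ' (el xW) = el xW ^ k := by
    intro γ hγ
    obtain ⟨g, k, hk, hk0, he⟩ := normalise γ
    refine ⟨_, k, hconj γ g, hk, fun hs => hγ ?_, hk0, he⟩
    have := inner_of_sq (k := k) (by rwa [Nat.mod_eq_of_lt hk]) he
    rwa [← QuotientGroup.eq_one_iff, hconj, QuotientGroup.eq_one_iff] at this
  obtain ⟨α', k, ea, hk, hks, hk0, hax⟩ := hns α ha
  obtain ⟨β', k', eb, hk', hks', hk0', hbx⟩ := hns β hb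
  rw [← ea, ← eb]
  have htab : ∀ a : Fin 13, ∀ b : Fin 13, a.val ∉ sq13 → a.val ≠ 0 → b.val ∉ sq13 → b.val ≠ 0 →
      ∃ j : Fin 13, a.val * j.val % 13 = 1 ∧ b.val * j.val % 13 ∈ sq13 := by decide +kernel
  obtain ⟨j, hj1, hj2⟩ := htab ⟨k, hk⟩ ⟨k', hk'⟩ hks hk0 hks' hk0'
  have hinv : α'⁻¹ (el xW) = el xW ^ j.val := by
    apply α'.injective
    rw [MulAut.apply_inv_self, map_pow, hax, ← pow_mul, x_pow_mod, hj1, pow_one]
  have hg : (β' * α'⁻¹) (el xW) = el xW ^ (k' * j.val) := by
    rw [MulAut.mul_apply, hinv, map_pow, hbx, ← pow_mul]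
  have := inner_of_sq hj2 hg
  rw [← QuotientGroup.eq_one_iff, QuotientGroup.mk_mul, QuotientGroup.mk_inv,
    mul_inv_eq_one] at this
  exact this.symm

/-! ### The graph automorphism -/

/-- The swap of the last two nodes. -/
def sw (x : ℕ) : ℕ := if x = 5 then 6 else if x = 6 then 5 else x

theorem sw_sw (x : ℕ) : sw (sw x) = x := by
  by_cases h5 : x = 5
  · subst h5; rfl
  by_cases h6 : x = 6
  · subst h6; rfl
  simp [sw, h5, h6]

theorem sw_rels : ∀ w ∈ presSuz.relWords, code (w.map sw).reverse = code [] := by decide +kernel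

theorem sw_lift : ∀ r ∈ presSuz.relSet,
    FreeGroup.lift (fun a => presSuz.g (sw (presSuz.gens.idxOf a))) r = 1 := by
  refine (presSuz.rels_iff _ fun a => presSuz.g_mul_self _).2 fun w hw => ?_
  have hext : ∀ x, presSuz.ext (fun a => presSuz.g (sw (presSuz.gens.idxOf a))) x =
      presSuz.g (sw x) := by
    intro x
    rcases Nat.lt_or_ge x presSuz.gens.length with hx | hx
    · simp [Pres.ext, List.getElem?_eq_getElem hx, presSuz.nodup.idxOf_getElem x hx]
    · have hx' : 7 ≤ x := hx
      simp [Pres.ext, List.getElem?_eq_none hx, sw, show x ≠ 5 by omega, show x ≠ 6 by omega,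
        presSuz.g_junk x hx]
  rw [List.map_congr_left fun x _ => hext x]
  have h := code_eq (sw_rels w hw)
  rw [el_nil, el, List.map_reverse, List.reverse_reverse, List.map_map] at h
  exact h

/-- The graph automorphism as an endomorphism. -/
noncomputable def sigma : Grp →* Grp := PresentedGroup.toGroup sw_lift

theorem sigma_g (x : ℕ) : sigma (presSuz.g x) = presSuz.g (sw x) := by
  rcases Nat.lt_or_ge x presSuz.gens.length with hx | hx
  · simp [sigma, Pres.g, Pres.ext, List.getElem?_eq_getElem hx, presSuz.nodup.idxOf_getElem x hx]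
  · have hx' : 7 ≤ x := hx
    rw [presSuz.g_junk x hx, map_one, sw]
    simp [show x ≠ 5 by omega, show x ≠ 6 by omega, presSuz.g_junk x hx]

theorem sigma_sigma (a : Grp) : sigma (sigma a) = a := by
  suffices h : sigma.comp sigma = MonoidHom.id Grp from DFunLike.congr_fun h a
  refine MonoidHom.eq_of_eqOn_dense presSuz.g_gen ?_
  rintro _ ⟨x, rfl⟩
  show sigma (sigma (presSuz.g x)) = presSuz.g x
  rw [sigma_g, sigma_g, sw_sw]

/-- The graph automorphism. -/
noncomputable def sigmaAut : MulAut Grp :=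
  { toFun := sigma, invFun := sigma, left_inv := sigma_sigma, right_inv := sigma_sigma,
    map_mul' := map_mul sigma }

theorem fixed_pt : allRange (fun q => Nat.beq q 1070 ||
    !(([0, 1, 2, 3, 4, 6] : List ℕ).all fun j => Nat.beq (SuzA.table.img j q) q))
    64 0 SuzA.table.N = true := by decide +kernel

theorem fixed0 : ∀ j : Fin 6, SuzA.table.img j.val 0 = 0 := by decide +kernel

theorem sigma_sift : siftBad SuzA.levels
    (baseN.map fun b => SuzA.table.imgWord ((toP b).map sw) 1070) = true := by decide +kernel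

theorem sigma_outer : sigmaAut ∉ Cfsg.Inn Grp := by
  rintro ⟨h, hh⟩
  have hg : ∀ j, h * presSuz.g j = presSuz.g (sw j) * h := by
    intro j
    have := DFunLike.congr_fun hh (presSuz.g j)
    rw [MulAut.conj_apply] at this
    rw [← sigma_g]
    exact mul_inv_eq_iff_eq_mul.1 this
  have hw : ∀ w, h * el w = el (w.map sw) * h := by
    intro w
    induction w with
    | nil => simp [el_nil]
    | cons x w ih =>
      rw [show x :: w = [x] ++ w from rfl, List.map_append, el_append, el_append, ← mul_assoc, ih,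
        mul_assoc, el_single, hg, ← mul_assoc, List.map_singleton, el_single]
  have h0 : (0 : ℕ) < SuzA.table.N := by decide +kernel
  have hfix : ∀ j : Fin 6, SuzA.table.img (sw j.val) (im h 0) = im h 0 := by
    intro j
    have h1 := congrArg (fun a => im a 0) (hg j.val)
    simp only [im_mul] at h1
    rw [← el_single, ← el_single, im_el h0, im_el (im_lt h0 h)] at h1
    simp only [Table.imgWord, fixed0] at h1
    exact h1.symm
  have hp : im h 0 = 1070 := by
    have h1 := allRange_spec 64 0 SuzA.table.N fixed_pt (im h 0) (Nat.zero_le _)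
      (by simpa using im_lt h0 h)
    simp only [Bool.or_eq_true, Bool.not_eq_true', List.all_cons, List.all_nil, Bool.and_true] at h1
    rcases h1 with h1 | h1
    · exact Table.beq_eq h1
    · exfalso
      have f := fun (j : Fin 6) => hfix j
      have a0 := f 0; have a1 := f 1; have a2 := f 2; have a3 := f 3; have a4 := f 4; have a5 := f 5
      simp [sw] at a0 a1 a2 a3 a4 a5
      rw [a0, a1, a2, a3, a4, a5] at h1
      simp at h1
  have hb : baseN.map (im h) = baseN.map fun b => SuzA.table.imgWord ((toP b).map sw) 1070 := by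
    refine List.map_congr_left fun b hb => ?_
    have hbN := baseN_lt b hb
    have e : im (el (toP b)) 0 = b := by
      rw [im_el h0]
      exact Table.beq_eq (allRange_spec 64 0 SuzA.table.N toP_ok b (Nat.zero_le _) (by simpa using hbN))
    conv_lhs => rw [← e, ← im_mul, hw, im_mul, hp]
    rw [im_el (by decide +kernel)]
  have := sift_real h
  rw [hb, sigma_sift] at this
  exact Bool.noConfusion this

theorem card_out : Nat.card (Cfsg.Out Grp) = 2 := by
  rw [Nat.card_eq_two_iff' (1 : Cfsg.Out Grp)]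
  refine ⟨QuotientGroup.mk sigmaAut, fun h => sigma_outer ((QuotientGroup.eq_one_iff _).1 h), ?_⟩
  intro q hq
  obtain ⟨α, rfl⟩ := QuotientGroup.mk_surjective q
  exact outer_pair (fun h => hq ((QuotientGroup.eq_one_iff _).2 h)) sigma_outer

end Cfsg.Agent.Enum.SuzOut
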